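import Cfsg.Agent.Lib.TwE6Five.Defs

/-!
Kernel checks of the generators.
-/

set_option autoImplicit false
set_option maxRecDepth 100000
set_option Elab.async false

namespace CfsgLib.TwE6Five

theorem tab_ok : tabChk = true := by decide +kernel

theorem dlt_ok : dltChk = true := by decide +kernel

theorem gen_ok : genChk = true := by decide +kernel

theorem mat_ok0 : matChk 0 = true := by decide +kernel

theorem sig_ok0 : sigChk 0 = true := by decide +kernel

theorem br_ok0 : brChk 0 = true := by decide +kernel

theorem mat_ok1 : matChk 1 = true := by decide +kernel

theorem sig_ok1 : sigChk 1 = true := by decide +kernel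

theorem br_ok1 : brChk 1 = true := by decide +kernel

theorem mat_ok2 : matChk 2 = true := by decide +kernel

theorem sig_ok2 : sigChk 2 = true := by decide +kernel

theorem br_ok2 : brChk 2 = true := by decide +kernel

theorem mat_ok3 : matChk 3 = true := by decide +kernel

theorem sig_ok3 : sigChk 3 = true := by decide +kernel

theorem br_ok3 : brChk 3 = true := by decide +kernel

theorem mat_ok4 : matChk 4 = true := by decide +kernel

theorem sig_ok4 : sigChk 4 = true := by decide +kernel

theorem br_ok4 : brChk 4 = true := by decide +kernel

theorem mat_ok5 : matChk 5 = true := by decide +kernel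

theorem sig_ok5 : sigChk 5 = true := by decide +kernel

theorem br_ok5 : brChk 5 = true := by decide +kernel

theorem mat_ok6 : matChk 6 = true := by decide +kernel

theorem sig_ok6 : sigChk 6 = true := by decide +kernel

theorem br_ok6 : brChk 6 = true := by decide +kernel

theorem mat_ok7 : matChk 7 = true := by decide +kernel

theorem sig_ok7 : sigChk 7 = true := by decide +kernel

theorem br_ok7 : brChk 7 = true := by decide +kernel

theorem mat_ok8 : matChk 8 = true := by decide +kernel

theorem sig_ok8 : sigChk 8 = true := by decide +kernel

theorem br_ok8 : brChk 8 = true := by decide +kernel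

theorem mat_ok9 : matChk 9 = true := by decide +kernel

theorem sig_ok9 : sigChk 9 = true := by decide +kernel

theorem br_ok9 : brChk 9 = true := by decide +kernel

theorem mat_ok10 : matChk 10 = true := by decide +kernel

theorem sig_ok10 : sigChk 10 = true := by decide +kernel

theorem br_ok10 : brChk 10 = true := by decide +kernel

theorem mat_ok11 : matChk 11 = true := by decide +kernel

theorem sig_ok11 : sigChk 11 = true := by decide +kernel

theorem br_ok11 : brChk 11 = true := by decide +kernel

theorem mat_ok12 : matChk 12 = true := by decide +kernel

theorem sig_ok12 : sigChk 12 = true := by decide +kernel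

theorem br_ok12 : brChk 12 = true := by decide +kernel

theorem mat_ok13 : matChk 13 = true := by decide +kernel

theorem sig_ok13 : sigChk 13 = true := by decide +kernel

theorem br_ok13 : brChk 13 = true := by decide +kernel

theorem mat_ok14 : matChk 14 = true := by decide +kernel

theorem sig_ok14 : sigChk 14 = true := by decide +kernel

theorem br_ok14 : brChk 14 = true := by decide +kernel

theorem mat_ok15 : matChk 15 = true := by decide +kernel

theorem sig_ok15 : sigChk 15 = true := by decide +kernel

theorem br_ok15 : brChk 15 = true := by decide +kernel

end CfsgLib.TwE6Five
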