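import Cfsg.Agent.Lib.TwE6Five.Bracket
import Cfsg.Agent.Lib.TwE6Five.CheckGens

/-!
The automorphisms of the bracket commuting with the semilinear map contain the twisted group and the
diagonal element of order three.
-/

set_option autoImplicit false
set_option maxRecDepth 100000
set_option linter.unusedSectionVars false

namespace CfsgLib.TwE6Five

open Cfsg.Lie CfsgLib.Chev Matrix

attribute [local irreducible] brK sigK

variable {K : Type*} [Field K] [CharP K 2] {w : K}

/-- The matrices preserving the bracket and commuting with the semilinear map. -/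
noncomputable def Aut (K : Type*) [Field K] [CharP K 2] : Subgroup (GL chevE6.Idx K) where
  carrier := {g | (∀ u v : V K, g.val *ᵥ brK u v = brK (g.val *ᵥ u) (g.val *ᵥ v)) ∧
    ∀ u : V K, g.val *ᵥ sigK u = sigK (g.val *ᵥ u)}
  one_mem' := ⟨fun u v => by simp, fun u => by simp⟩
  mul_mem' := fun {g h} hg hh => ⟨fun u v => by
    simp only [Units.val_mul, ← Matrix.mulVec_mulVec]; rw [hh.1, hg.1], fun u => by
    simp only [Units.val_mul, ← Matrix.mulVec_mulVec]; rw [hh.2, hg.2]⟩
  inv_mem' := fun {g} hg => by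
    have c1 : ∀ u : V K, g⁻¹.val *ᵥ (g.val *ᵥ u) = u := fun u => by
      rw [Matrix.mulVec_mulVec, ← Units.val_mul, inv_mul_cancel, Units.val_one, Matrix.one_mulVec]
    have c2 : ∀ u : V K, g.val *ᵥ (g⁻¹.val *ᵥ u) = u := fun u => by
      rw [Matrix.mulVec_mulVec, ← Units.val_mul, mul_inv_cancel, Units.val_one, Matrix.one_mulVec]
    refine ⟨fun u v => ?_, fun u => ?_⟩
    · conv_lhs => rw [← c2 u, ← c2 v, ← hg.1, c1]
    · conv_lhs => rw [← c2 u, ← hg.2, c1]

variable (w) in
/-- A product of root letters. -/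
noncomputable def letProd (W : List (ℕ × ℕ)) : GL chevE6.Idx K :=
  (W.map fun p => X chevE6 p.1 (cval w p.2)).prod

variable (w) in
/-- A standard generator. -/
noncomputable def gm (g : ℕ) : GL chevE6.Idx K := letProd w (gensData.getD g [])

variable (w) in
/-- A word in the standard generators. -/
noncomputable def wm (l : List ℕ) : GL chevE6.Idx K := (l.map (gm w)).prod

theorem wm_append (a b : List ℕ) : wm w (a ++ b) = wm w a * wm w b := by simp [wm]

theorem wm_nil : (wm w [] : GL chevE6.Idx K) = 1 := by simp [wm]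

theorem wm_cons (g : ℕ) (l : List ℕ) : wm w (g :: l) = gm w g * wm w l := by simp [wm]

theorem wm_rep : ∀ (k : ℕ) (l : List ℕ), (wm w (repW k l) : GL chevE6.Idx K) = wm w l ^ k
  | 0, l => by simp [repW, wm_nil]
  | k + 1, l => by rw [repW, wm_append, wm_rep k l, pow_succ']

theorem mat_all : ∀ g < 16, matChk g = true := by
  intro g hg; interval_cases g
  exacts [mat_ok0, mat_ok1, mat_ok2, mat_ok3, mat_ok4, mat_ok5, mat_ok6, mat_ok7, mat_ok8, mat_ok9,
    mat_ok10, mat_ok11, mat_ok12, mat_ok13, mat_ok14, mat_ok15]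

theorem sig_all : ∀ g < 16, sigChk g = true := by
  intro g hg; interval_cases g
  exacts [sig_ok0, sig_ok1, sig_ok2, sig_ok3, sig_ok4, sig_ok5, sig_ok6, sig_ok7, sig_ok8, sig_ok9,
    sig_ok10, sig_ok11, sig_ok12, sig_ok13, sig_ok14, sig_ok15]

theorem br_all : ∀ g < 16, brChk g = true := by
  intro g hg; interval_cases g
  exacts [br_ok0, br_ok1, br_ok2, br_ok3, br_ok4, br_ok5, br_ok6, br_ok7, br_ok8, br_ok9,
    br_ok10, br_ok11, br_ok12, br_ok13, br_ok14, br_ok15]

theorem combK_lift {α : Type} : ∀ (B : List (ℕ × ℕ)) (c : ℕ × ℕ) (i : ℕ) (k : ℕ × ℕ → α),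
    combK B c i k = k (combK B c i id)
  | [], _, _, _ => rfl
  | b :: B, c, i, k => by
    rw [combK, combK, combK_lift B c (i + 1), combK_lift B c (i + 1)
      (k := fun R => nowV (addV (smulV (bitC c i) b) R) id), nowV_eq, nowV_eq]
    rfl

variable (hw : w * w = 1 + w)
include hw

theorem gm_mulVec {g : ℕ} (hg : g < 16) (u : V K) : (gm w g).val *ᵥ u = glin w g u := by
  have hl : ∀ p ∈ gensData.getD g [], p.1 < tabE6.n ∧ p.2 < 4 := fun p hp => by
    rw [dim78.2]; exact (tab_facts tab_ok).2.2.2.2.1 g p hp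
  have h := mat_all g hg
  rw [matChk, run_eq] at h
  have e : (gm w g).val = toM chevE6 w ((List.range 78).map fun c => stepV g (2 ^ c, 0)) := by
    rw [← sameL_eq h, toM_foldl hw certE6 _ _ (by simp [oneCols]) hl, toM_oneCols hw agE6, one_mul]
    rfl
  have key : Matrix.mulVecLin (gm w g).val = glin w g := by
    refine linExt fun c hc => ?_
    obtain ⟨j, hj⟩ := exists_enc78 hc
    rw [← colVec_unit (D := chevE6) w, ← cv, ← cv_stepV hw tab_ok]
    rw [cv, cv, colVec_unit, ← hj, eV_enc, Matrix.mulVecLin_apply, Matrix.mulVec_single_one, e]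
    funext i
    simp [toM, hj, List.getD_eq_getElem?_getD, hc]
  exact LinearMap.congr_fun key u

theorem gm_mem_aut {g : ℕ} (hg : g < 16) : gm w g ∈ Aut K :=
  ⟨fun u v => by
    simp only [gm_mulVec hw hg]; exact glin_br hw tab_ok (br_all g hg) u v,
   fun u => by
    simp only [gm_mulVec hw hg]; exact glin_sig hw tab_ok (sig_all g hg) u⟩

theorem wm_mem_aut : ∀ l : List ℕ, (∀ g ∈ l, g < 16) → wm w l ∈ Aut K
  | [], _ => by rw [wm_nil]; exact one_mem _
  | g :: l, h => by
    rw [wm_cons]
    exact mul_mem (gm_mem_aut hw (h g List.mem_cons_self))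
      (wm_mem_aut l fun a ha => h a (List.mem_cons_of_mem _ ha))

theorem applyK_spec {α : Type} : ∀ (l : List ℕ) (v : ℕ × ℕ) (k : ℕ × ℕ → α), (∀ g ∈ l, g < 16) →
    ∃ u, applyK l v k = k u ∧ cv w u = (wm w l).val *ᵥ cv w v
  | [], v, k, _ => ⟨v, rfl, by simp [wm_nil]⟩
  | g :: l, v, k, h => by
    obtain ⟨u, e, hu⟩ := applyK_spec l v (fun u => nowV (stepV g u) k)
      fun a ha => h a (List.mem_cons_of_mem _ ha)
    refine ⟨stepV g u, by rw [applyK, e, nowV_eq], ?_⟩
    rw [cv_stepV hw tab_ok, hu, wm_cons, Units.val_mul, ← Matrix.mulVec_mulVec,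
      gm_mulVec hw (h g List.mem_cons_self)]

theorem cv_mem_comb (S : Submodule K (V K)) :
    ∀ (L : List (ℕ × ℕ)) (c : ℕ × ℕ) (i : ℕ), (∀ v ∈ L, cv w v ∈ S) →
      cv w (combK L c i id) ∈ S
  | [], c, i, _ => by rw [combK]; simp [cv, colVec_zero]
  | b :: L, c, i, h => by
    rw [combK, combK_lift, nowV_eq, id, cv, colVec_addV, colVec_smulV hw]
    exact S.add_mem (S.smul_mem _ (h b List.mem_cons_self))
      (cv_mem_comb S L c (i + 1) fun v hv => h v (List.mem_cons_of_mem _ hv))

theorem unitChk_top (S : Submodule K (V K)) {L cert : List (ℕ × ℕ)} (h : unitChk L cert = true)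
    (hL : ∀ v ∈ L, cv w v ∈ S) : S = ⊤ := by
  simp only [unitChk, List.all_eq_true, List.mem_range] at h
  rw [Submodule.eq_top_iff']
  intro u
  have e : ∀ c < 78, (eV c : V K) ∈ S := fun c hc => by
    have := h c hc
    rw [combK_lift] at this
    rw [← colVec_unit (D := chevE6) w, ← sameV_eq this]
    exact cv_mem_comb hw S L _ 0 hL
  rw [pi_eq_sum_univ u]
  refine S.sum_mem fun i _ => S.smul_mem _ ?_
  convert e _ (enc_lt78 i) using 1
  funext j
  simp [eV, enc_injective.eq_iff, eq_comm]

theorem getD_mem (S : Submodule K (V K)) {L : List (ℕ × ℕ)} (hL : ∀ v ∈ L, cv w v ∈ S) (i : ℕ) :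
    cv w (L.getD i (0, 0)) ∈ S := by
  by_cases hi : i < L.length
  · rw [List.getD_eq_getElem _ _ hi]; exact hL _ (List.getElem_mem hi)
  · rw [List.getD_eq_default _ _ (not_lt.1 hi)]; simp [cv, colVec_zero]

theorem progK_mem {α : Type} (S : Submodule K (V K))
    (hS : ∀ u v : V K, u ∈ S → v ∈ S → brK u v ∈ S) :
    ∀ (P L : List (ℕ × ℕ)) (k : List (ℕ × ℕ) → α), (∀ v ∈ L, cv w v ∈ S) →
      ∃ L', progK P L k = k L' ∧ ∀ v ∈ L', cv w v ∈ S
  | [], L, k, hL => ⟨L, rfl, hL⟩
  | p :: P, L, k, hL => by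
    rw [progK, nowV_eq]
    refine progK_mem S hS P _ k fun v hv => ?_
    rcases List.mem_append.1 hv with hv | hv
    · exact hL v hv
    · rw [List.mem_singleton.1 hv, cv_brS hw tab_ok]
      exact hS _ _ (getD_mem hw S hL _) (getD_mem hw S hL _)

theorem eq_of_agree {g h : GL chevE6.Idx K} (hg : g ∈ Aut K) (hh : h ∈ Aut K)
    (e : ∀ v ∈ genVecs, g.val *ᵥ cv w v = h.val *ᵥ cv w v) : g = h := by
  set S := LinearMap.eqLocus (Matrix.mulVecLin g.val) (Matrix.mulVecLin h.val)
  have hS : ∀ u v : V K, u ∈ S → v ∈ S → brK u v ∈ S := by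
    intro u v hu hv
    simp only [S, LinearMap.mem_eqLocus, Matrix.mulVecLin_apply] at hu hv ⊢
    rw [hg.1, hh.1, hu, hv]
  obtain ⟨L, e1, hL⟩ := progK_mem hw S hS genProg genVecs (fun L => unitChk L genCert) fun v hv => e v hv
  have hc := gen_ok
  rw [genChk, e1] at hc
  have ht := unitChk_top hw S hc hL
  refine Units.ext (Matrix.ext_iff_mulVec.2 ?_)
  intro u
  exact (ht ▸ Submodule.mem_top : u ∈ S)

theorem wm_eq {a b : List ℕ} (h : eqW a b = true) (ha : ∀ g ∈ a, g < 16) (hb : ∀ g ∈ b, g < 16) :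
    (wm w a : GL chevE6.Idx K) = wm w b := by
  refine eq_of_agree hw (wm_mem_aut hw a ha) (wm_mem_aut hw b hb) fun v hv => ?_
  simp only [eqW, List.all_eq_true] at h
  have := h v hv
  obtain ⟨p, e1, h1⟩ := applyK_spec hw a v (fun p => applyK b v fun q => sameV p q) ha
  rw [e1] at this
  obtain ⟨q, e2, h2⟩ := applyK_spec hw b v (fun q => sameV p q) hb
  rw [e2] at this
  rw [← h1, ← h2, sameV_eq this]

theorem cval_inj {a b : ℕ} (ha : a < 4) (hb : b < 4) (h : cval w a = cval w b) : a = b := by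
  have h2 : (2 : K) = 0 := CharTwo.two_eq_zero
  have w0 : w ≠ 0 := fun e => by rw [e] at hw; simp at hw
  have w1 : w ≠ 1 := fun e => by
    rw [e, one_mul, CharTwo.add_self_eq_zero] at hw; exact one_ne_zero hw
  have w2 : 1 + w ≠ 0 := fun e => w1 (by linear_combination e - h2)
  have w3 : 1 + w ≠ w := fun e => one_ne_zero (show (1 : K) = 0 by linear_combination e)
  have w4 : 1 + w ≠ 1 := fun e => w0 (by linear_combination e)
  interval_cases a <;> interval_cases b <;> simp only [cval] at h <;>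
    first
      | rfl
      | exact absurd h zero_ne_one
      | exact absurd h one_ne_zero
      | exact absurd h w0
      | exact absurd h.symm w0
      | exact absurd h w1
      | exact absurd h.symm w1
      | exact absurd h w2
      | exact absurd h.symm w2
      | exact absurd h w3
      | exact absurd h.symm w3
      | exact absurd h w4
      | exact absurd h.symm w4

theorem bitC_eq_of_cv {p q : ℕ × ℕ} (h : cv w p = cv w q) {n : ℕ} (hn : n < 78) :
    bitC p n = bitC q n := by
  refine cval_inj hw (bitC_lt p n) (bitC_lt q n) ?_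
  have e := congrArg (ev n) h
  rwa [ev_colVec agE6 w p (by rw [dim78.1]; exact hn),
    ev_colVec agE6 w q (by rw [dim78.1]; exact hn)] at e

theorem wm_ne {a b : List ℕ} (h : neW a b = true) (ha : ∀ g ∈ a, g < 16) (hb : ∀ g ∈ b, g < 16) :
    (wm w a : GL chevE6.Idx K) ≠ wm w b := by
  intro e
  simp only [neW, List.any_eq_true] at h
  obtain ⟨v, -, hv⟩ := h
  obtain ⟨p, e1, h1⟩ := applyK_spec hw a v (fun p => applyK b v fun q =>
    (List.range 78).any fun n => !(Nat.beq (bitC p n) (bitC q n))) ha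
  rw [e1] at hv
  obtain ⟨q, e2, h2⟩ := applyK_spec hw b v (fun q =>
    (List.range 78).any fun n => !(Nat.beq (bitC p n) (bitC q n))) hb
  rw [e2, List.any_eq_true] at hv
  obtain ⟨n, hn, hne⟩ := hv
  rw [bitC_eq_of_cv hw (h1.trans ((congrArg (fun g : GL chevE6.Idx K => g.val *ᵥ cv w v) e).trans
    h2.symm)) (List.mem_range.1 hn), Nat.beq_refl] at hne
  exact Bool.false_ne_true hne

/-! ### The twisted group -/

theorem gm_mem_twisted {g : ℕ} (hg : g < 12) : gm w g ∈ twistedE6 K 2 := by
  have h1 : ∀ r, r ∈ [e6p2, e6m2, e6p4, e6m4] → letProd w [(r, 1)] ∈ twistedE6 K 2 := by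
    intro r hr
    have := certE6.prod_mem_genSubgroup (F := K) (S := e6Words K 2) (w := [(r, (1 : K))])
      (Or.inl ⟨1, one_pow 2, r, hr, rfl⟩)
    show _ ∈ chevE6.genSubgroup K (e6Words K 2)
    simpa [letProd, cval] using this
  have h2 : ∀ rs ∈ [(e6p1, e6p6), (e6m1, e6m6), (e6p3, e6p5), (e6m3, e6m5)],
      letProd w [(rs.1, 1), (rs.2, 1)] ∈ twistedE6 K 2 ∧
      letProd w [(rs.1, 2), (rs.2, 3)] ∈ twistedE6 K 2 := by
    intro rs hrs
    constructor
    · have := certE6.prod_mem_genSubgroup (F := K) (S := e6Words K 2)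
        (w := [(rs.1, (1 : K)), (rs.2, (1 : K) ^ 2)]) (Or.inr ⟨1, rs, hrs, rfl⟩)
      show _ ∈ chevE6.genSubgroup K (e6Words K 2)
      simpa [letProd, cval] using this
    · have := certE6.prod_mem_genSubgroup (F := K) (S := e6Words K 2)
        (w := [(rs.1, w), (rs.2, w ^ 2)]) (Or.inr ⟨w, rs, hrs, rfl⟩)
      show _ ∈ chevE6.genSubgroup K (e6Words K 2)
      simpa [letProd, cval, pow_two, hw] using this
  interval_cases g
  exacts [h1 46 (by decide), h1 25 (by decide), h1 39 (by decide), h1 32 (by decide),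
    (h2 (56, 36) (by decide)).1, (h2 (56, 36) (by decide)).2,
    (h2 (15, 35) (by decide)).1, (h2 (15, 35) (by decide)).2,
    (h2 (42, 37) (by decide)).1, (h2 (42, 37) (by decide)).2,
    (h2 (29, 34) (by decide)).1, (h2 (29, 34) (by decide)).2]

theorem wm_mem_twisted : ∀ l : List ℕ, (∀ g ∈ l, g < 12) → wm w l ∈ twistedE6 K 2
  | [], _ => by rw [wm_nil]; exact one_mem _
  | g :: l, h => by
    rw [wm_cons]
    exact mul_mem (gm_mem_twisted hw (h g List.mem_cons_self))
      (wm_mem_twisted l fun a ha => h a (List.mem_cons_of_mem _ ha))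

theorem exists_cval [Fintype K] (hK : Fintype.card K = 4) (t : K) : ∃ c < 4, t = cval w c := by
  classical
  have hinj : Function.Injective fun c : Fin 4 => cval w c.val :=
    fun a b e => Fin.ext (cval_inj hw a.isLt b.isLt e)
  obtain ⟨c, hc⟩ := ((Fintype.bijective_iff_injective_and_card _).2
    ⟨hinj, by rw [Fintype.card_fin, hK]⟩).2 t
  exact ⟨c.val, c.isLt, hc.symm⟩

theorem single_mem {g r : ℕ} (hg : g < 16) (hd : gensData.getD g [] = [(r, 1)]) :
    X chevE6 r (1 : K) ∈ Aut K := by
  have h := gm_mem_aut (K := K) hw hg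
  rw [gm, hd, letProd] at h
  simpa [cval] using h

theorem pair_mem {g r s a b : ℕ} (hg : g < 16) (hd : gensData.getD g [] = [(r, a), (s, b)]) :
    X chevE6 r (cval w a) * X chevE6 s (cval w b) ∈ Aut K := by
  have h := gm_mem_aut (K := K) hw hg
  rw [gm, hd, letProd, List.map_cons, List.map_cons, List.map_nil, List.prod_cons, List.prod_cons,
    List.prod_nil, mul_one] at h
  exact h

theorem X_zero {r : ℕ} (hr : r < 72) : X chevE6 r (0 : K) = 1 := by
  refine Units.ext ?_
  rw [certE6.coe_X, Units.val_one, certE6.x_eq_one_iff]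
  rw [dim78.2]; exact hr

theorem twisted_le_aut [Fintype K] (hK : Fintype.card K = 4) : twistedE6 K 2 ≤ Aut K := by
  have h2 : (2 : K) = 0 := CharTwo.two_eq_zero
  refine certE6.genSubgroup_le fun W hW => ?_
  rcases hW with ⟨t, ht, r, hr, rfl⟩ | ⟨t, rs, hrs, rfl⟩
  · have : t = 0 ∨ t = 1 := by
      rcases eq_or_ne t 0 with h | h
      · exact Or.inl h
      · exact Or.inr (mul_left_cancel₀ h (by rw [mul_one, ← pow_two, ht]))
    simp only [List.map_cons, List.map_nil, List.prod_cons, List.prod_nil, mul_one]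
    simp only [List.mem_cons, List.not_mem_nil, or_false, e6p2, e6m2, e6p4, e6m4] at hr
    rcases this with rfl | rfl
    · rw [X_zero hw (by omega)]
      exact one_mem _
    · rcases hr with rfl | rfl | rfl | rfl
      · exact single_mem hw (g := 0) (by norm_num) (by decide +kernel)
      · exact single_mem hw (g := 1) (by norm_num) (by decide +kernel)
      · exact single_mem hw (g := 2) (by norm_num) (by decide +kernel)
      · exact single_mem hw (g := 3) (by norm_num) (by decide +kernel)
  · simp only [List.map_cons, List.map_nil, List.prod_cons, List.prod_nil, mul_one]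
    obtain ⟨c, hc, rfl⟩ := exists_cval hw hK t
    have q0 : cval w 0 ^ 2 = cval w 0 := by simp [cval]
    have q1 : cval w 1 ^ 2 = cval w 1 := by simp [cval]
    have q2 : cval w 2 ^ 2 = cval w 3 := by simp only [cval]; rw [pow_two, hw]
    have q3 : cval w 3 ^ 2 = cval w 2 := by
      simp only [cval]; linear_combination hw + (1 + w) * h2
    simp only [List.mem_cons, List.not_mem_nil, or_false, e6p1, e6p6, e6m1, e6m6, e6p3, e6p5, e6m3,
      e6m5] at hrs
    interval_cases c
    · rw [q0]
      rcases hrs with rfl | rfl | rfl | rfl <;>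
        rw [show cval w 0 = (0 : K) from rfl, X_zero hw (by norm_num), X_zero hw (by norm_num),
          one_mul] <;> exact one_mem _
    · rw [q1]; rcases hrs with rfl | rfl | rfl | rfl
      · exact pair_mem hw (g := 4) (by norm_num) (by decide +kernel)
      · exact pair_mem hw (g := 6) (by norm_num) (by decide +kernel)
      · exact pair_mem hw (g := 8) (by norm_num) (by decide +kernel)
      · exact pair_mem hw (g := 10) (by norm_num) (by decide +kernel)
    · rw [q2]; rcases hrs with rfl | rfl | rfl | rfl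
      · exact pair_mem hw (g := 5) (by norm_num) (by decide +kernel)
      · exact pair_mem hw (g := 7) (by norm_num) (by decide +kernel)
      · exact pair_mem hw (g := 9) (by norm_num) (by decide +kernel)
      · exact pair_mem hw (g := 11) (by norm_num) (by decide +kernel)
    · rw [q3]; rcases hrs with rfl | rfl | rfl | rfl
      · exact pair_mem hw (g := 12) (by norm_num) (by decide +kernel)
      · exact pair_mem hw (g := 13) (by norm_num) (by decide +kernel)
      · exact pair_mem hw (g := 14) (by norm_num) (by decide +kernel)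
      · exact pair_mem hw (g := 15) (by norm_num) (by decide +kernel)

omit hw

/-! ### The diagonal element -/

theorem expo_exp : ∀ s < 72, (F4Classes.expo s - (dexp.getD s 0 : ℤ)) % 3 = 0 := by decide +kernel

theorem dexp_coroot : ∀ i < 6, dexp.getD (72 + i) 0 = 0 := by decide +kernel

/-- The diagonal multiplier. -/
def dmul (w : K) (u : V K) : V K := fun i => w ^ dexp.getD (enc i) 0 * u i

theorem ev_dmul {c : ℕ} (hc : c < 78) (u : V K) :
    ev c (dmul w u) = w ^ dexp.getD c 0 * ev c u := by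
  obtain ⟨i, rfl⟩ := exists_enc78 hc
  rw [ev_enc, ev_enc, dmul]

theorem dmul_eV (w : K) (a : ℕ) :
    dmul w (eV a : V K) = w ^ dexp.getD a 0 • (eV a : V K) := by
  funext i
  by_cases h : enc i = a
  · simp [dmul, eV, h]
  · simp [dmul, eV, h]

theorem dmul_add (u v : V K) : dmul w (u + v) = dmul w u + dmul w v := by
  funext i; simp [dmul, mul_add]

theorem dmul_smul (c : K) (u : V K) : dmul w (c • u) = c • dmul w u := by
  funext i; simp [dmul]; ring

include hw

theorem w_cube : w ^ 3 = 1 := by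
  have h2 : (2 : K) = 0 := CharTwo.two_eq_zero
  linear_combination (w + 1) * hw + w * h2

theorem pow_mod3 {a b : ℕ} (h : a % 3 = b % 3) : w ^ a = w ^ b := by
  rw [← Nat.div_add_mod a 3, ← Nat.div_add_mod b 3, pow_add, pow_add, pow_mul, pow_mul, w_cube hw,
    one_pow, one_pow, h]

omit hw in
theorem dlt_facts :
    (∀ c < 78, ∀ p ∈ adT.getD c [],
      (dexp.getD c 0 + dexp.getD p.2 0) % 3 = dexp.getD p.1 0 % 3) ∧
    (∀ i < 78, 2 * dexp.getD i 0 % 3 = dexp.getD (imL.getD i 0) 0 % 3) ∧
    (∀ g ∈ xW, ∀ q ∈ gensN.getD g [], dexp.getD q.1 0 = dexp.getD q.2.1 0) := by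
  have h := dlt_ok
  simp only [dltChk, Bool.and_eq_true, List.all_eq_true, List.mem_range] at h
  obtain ⟨⟨h1, h2⟩, h3⟩ := h
  refine ⟨fun c hc p hp => ?_, fun i hi => Nat.eq_of_beq_eq_true (h2 i hi),
    fun g hg q hq => Nat.eq_of_beq_eq_true (h3 g hg q hq)⟩
  have hl : c < adT.length := by rw [(tab_facts tab_ok).1]; exact hc
  rw [List.getD_eq_getElem _ _ hl] at hp
  exact Nat.eq_of_beq_eq_true (h1 (adT[c], c) (List.mem_zipIdx_iff_getElem?.2
    (List.getElem?_eq_getElem hl)) p hp)

theorem brK_dmul (u v : V K) : brK (dmul w u) (dmul w v) = dmul w (brK u v) := by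
  let D : V K →ₗ[K] V K := { toFun := dmul w, map_add' := dmul_add, map_smul' := dmul_smul }
  have e : (brK : V K →ₗ[K] V K →ₗ[K] V K).compl₁₂ D D = brK.compr₂ D := by
    refine linExt fun c hc => linExt fun b hb => ?_
    rw [LinearMap.compr₂_apply, LinearMap.compl₁₂_apply]
    have hD' : ∀ u, D u = dmul w u := fun _ => rfl
    rw [hD', hD', hD']
    simp only [dmul_eV, map_smul, LinearMap.smul_apply, smul_smul, brK_eV hc]
    have hA := (tab_facts tab_ok).2.1 c
    have hD := dlt_facts.1 c hc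
    generalize adT.getD c [] = L at hA hD
    induction L with
    | nil => rw [adMap_nil, smul_zero]; funext i; simp [dmul]
    | cons p L ih =>
      rw [adMap_cons, smul_add, dmul_add, ← ih (fun q hq => hA q (List.mem_cons_of_mem _ hq))
        (fun q hq => hD q (List.mem_cons_of_mem _ hq)), dmul_smul, dmul_eV, smul_smul, smul_smul,
        ev_eV78 hb]
      congr 2
      split
      · rename_i hbp
        subst hbp
        rw [mul_one, one_mul, ← pow_add]
        exact pow_mod3 hw (by rw [Nat.add_comm]; exact hD p List.mem_cons_self)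
      · simp
  exact LinearMap.congr_fun (LinearMap.congr_fun e u) v

theorem sigK_dmul (u : V K) : sigK (dmul w u) = dmul w (sigK u) := by
  have hs : sqV (dmul w u) = fun i => w ^ (2 * dexp.getD (enc i) 0) * sqV u i := by
    funext i; simp only [sqV, dmul, mul_pow, ← pow_mul, Nat.mul_comm 2]
  rw [sigK, sigK, hs]
  have hN : ∀ q ∈ sigN, q.2.2 = 1 ∧ q.2.1 < 78 ∧
      2 * dexp.getD q.2.1 0 % 3 = dexp.getD q.1 0 % 3 := by
    intro q hq
    simp only [sigN, List.mem_map, List.mem_range] at hq
    obtain ⟨a, ha, rfl⟩ := hq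
    exact ⟨rfl, ha, dlt_facts.2.1 a ha⟩
  generalize sigN = N at hN
  induction N with
  | nil => rw [spK_nil, spK_nil]; funext i; simp [dmul]
  | cons q N ih =>
    obtain ⟨h1, h2, h3⟩ := hN q List.mem_cons_self
    rw [spK_cons, spK_cons, ih fun r hr => hN r (List.mem_cons_of_mem _ hr), dmul_add, dmul_smul,
      dmul_eV, smul_smul, h1]
    congr 2
    obtain ⟨i, hi⟩ := exists_enc78 h2
    simp only [cval, one_mul]
    rw [← hi, ev_enc, ev_enc, hi, pow_mod3 hw h3, mul_comm]

theorem glin_dmul {g : ℕ} (hg : g ∈ xW) (u : V K) : glin w g (dmul w u) = dmul w (glin w g u) := by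
  rw [glin_apply, glin_apply, dmul_add]
  congr 1
  have hN := (tab_facts tab_ok).2.2.2.1 g
  have hD := dlt_facts.2.2 g hg
  generalize gensN.getD g [] = N at hN hD
  induction N with
  | nil => rw [spK_nil, spK_nil]; funext i; simp [dmul]
  | cons q N ih =>
    rw [spK_cons, spK_cons, ih (fun r hr => hN r (List.mem_cons_of_mem _ hr))
      (fun r hr => hD r (List.mem_cons_of_mem _ hr)), dmul_add, dmul_smul, dmul_eV, smul_smul,
      ev_dmul (hN q List.mem_cons_self).2.1, hD q List.mem_cons_self]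
    congr 2; ring

theorem dlt_mulVec [Fintype K] (a : Kˣ) (ha : (a : K) = w) (u : V K) :
    (F4Classes.dlt a).val *ᵥ u = dmul w u := by
  funext i
  rw [F4Classes.coe_dlt, torus, Matrix.mulVec_diagonal]
  rcases i with i | s
  · rw [dmul, show enc (Sum.inl i : chevE6.Idx) = 72 + i.val from
      congrArg (· + i.val) (certE6.nroots_eq.trans dim78.2),
      dexp_coroot _ (lt_of_lt_of_eq i.isLt (agE6.rank_eq.trans (by decide +kernel))), pow_zero]
    rfl
  · have hs : s.val < 72 := lt_of_lt_of_eq s.isLt (certE6.nroots_eq.trans dim78.2)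
    rw [dmul, show enc (Sum.inr s : chevE6.Idx) = s.val from rfl]
    congr 1
    show (a : K) ^ F4Classes.expo s.val = w ^ dexp.getD s.val 0
    obtain ⟨k, hk⟩ := Int.dvd_of_emod_eq_zero (expo_exp s.val hs)
    have hw0 : w ≠ 0 := fun e => by rw [e] at hw; simp at hw
    rw [ha, show F4Classes.expo s.val = (dexp.getD s.val 0 : ℤ) + 3 * k by omega, zpow_add₀ hw0,
      zpow_natCast, _root_.zpow_mul, show w ^ (3 : ℤ) = 1 from by exact_mod_cast w_cube hw, _root_.one_zpow,
      mul_one]

theorem dlt_mem_aut [Fintype K] (a : Kˣ) (ha : (a : K) = w) : F4Classes.dlt a ∈ Aut K :=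
  ⟨fun u v => by simp only [dlt_mulVec hw a ha]; exact (brK_dmul hw u v).symm,
   fun u => by simp only [dlt_mulVec hw a ha]; exact (sigK_dmul hw u).symm⟩

theorem dlt_comm_x [Fintype K] (a : Kˣ) (ha : (a : K) = w) (hx : ∀ g ∈ xW, g < 16) :
    F4Classes.dlt a * wm w xW = wm w xW * F4Classes.dlt a := by
  have key : ∀ l : List ℕ, (∀ g ∈ l, g ∈ xW) → Commute (F4Classes.dlt a) (wm w l) := by
    intro l
    induction l with
    | nil => intro _; rw [wm_nil]; exact Commute.one_right _
    | cons g l ih =>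
      intro h
      rw [wm_cons]
      refine Commute.mul_right ?_ (ih fun b hb => h b (List.mem_cons_of_mem _ hb))
      have hg := hx g (h g List.mem_cons_self)
      refine Units.ext (Matrix.ext_iff_mulVec.2 fun u => ?_)
      simp only [Units.val_mul, ← Matrix.mulVec_mulVec, gm_mulVec hw hg, dlt_mulVec hw a ha]
      exact (glin_dmul hw (h g List.mem_cons_self) u).symm
  exact key xW fun g hg => hg

end CfsgLib.TwE6Five
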