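import Cfsg.Agent.Lib.TwE6Five.Orbit

/-!
The centralizer of `x` among the automorphisms has at most `604800` elements.
-/

set_option autoImplicit false
set_option maxRecDepth 100000
set_option linter.unusedSectionVars false

namespace CfsgLib.TwE6Five

open Cfsg.Lie CfsgLib.Chev Matrix

attribute [local irreducible] brK sigK spK wm combL psiT leftE xW ysW leftW psiW

variable {K : Type*} [Field K] [CharP K 2] {w : K}

/-- The matrices fixing a vector. -/
noncomputable def fixG (v : V K) : Subgroup (GL chevE6.Idx K) where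
  carrier := {g | g.val *ᵥ v = v}
  one_mem' := by simp
  mul_mem' := fun {g h} hg hh => by
    simp only [Set.mem_setOf_eq, Units.val_mul, ← Matrix.mulVec_mulVec] at hg hh ⊢; rw [hh, hg]
  inv_mem' := fun {g} hg => by
    simp only [Set.mem_setOf_eq] at hg ⊢
    conv_lhs => rw [← hg, Matrix.mulVec_mulVec, ← Units.val_mul, inv_mul_cancel, Units.val_one,
      Matrix.one_mulVec]

/-- Orbit and stabilizer. -/
theorem card_le_orbit [Fintype K] (H : Subgroup (GL chevE6.Idx K)) (v : V K) (S : Finset (V K))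
    (hS : ∀ g ∈ H, g.val *ᵥ v ∈ S) :
    Nat.card H ≤ S.card * Nat.card ↥(H ⊓ fixG v) := by
  classical
  rw [Nat.card_eq_fintype_card, ← Finset.card_univ]
  refine le_trans (Finset.card_le_mul_card_image (f := fun g : H => g.1.val *ᵥ v) Finset.univ
    (Nat.card ↥(H ⊓ fixG v)) fun b hb => ?_) ?_
  · obtain ⟨g0, -, rfl⟩ := Finset.mem_image.1 hb
    rw [← Fintype.card_coe, ← Nat.card_eq_fintype_card]
    refine Nat.card_le_card_of_injective (fun g => (⟨g0.1⁻¹ * g.1.1, ?_⟩ : ↥(H ⊓ fixG v))) ?_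
    · refine ⟨H.mul_mem (H.inv_mem g0.2) g.1.2, ?_⟩
      have e := (Finset.mem_filter.1 g.2).2
      show (g0.1⁻¹ * g.1.1).val *ᵥ v = v
      rw [Units.val_mul, ← Matrix.mulVec_mulVec, e, Matrix.mulVec_mulVec, ← Units.val_mul,
        inv_mul_cancel, Units.val_one, Matrix.one_mulVec]
    · intro a b e
      exact Subtype.ext (Subtype.ext (mul_left_cancel (Subtype.ext_iff.1 e)))
  · rw [Nat.mul_comm]
    exact Nat.mul_le_mul_right _ (Finset.card_le_card fun y hy => by
      obtain ⟨g, -, rfl⟩ := Finset.mem_image.1 hy; exact hS g.1 g.2)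

variable (w) in
/-- The pointwise stabilizer of the first base points. -/
noncomputable def lev : ℕ → Subgroup (GL chevE6.Idx K)
  | 0 => CP w
  | k + 1 => lev k ⊓ fixG (Bv w (basePts.getD k 0))

theorem lev_le_CP : ∀ k, lev w k ≤ (CP w : Subgroup (GL chevE6.Idx K))
  | 0 => le_rfl
  | k + 1 => inf_le_left.trans (lev_le_CP k)

theorem lev_base {g : GL chevE6.Idx K} : ∀ {k : ℕ}, g ∈ lev w k → ∀ j < k,
    g.val *ᵥ Bv w (basePts.getD j 0) = Bv w (basePts.getD j 0)
  | 0, _, j, hj => absurd hj (Nat.not_lt_zero j)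
  | k + 1, hg, j, hj => by
    rcases eq_or_lt_of_le (Nat.lt_succ_iff.1 hj) with rfl | h
    · exact hg.2
    · exact lev_base hg.1 j h

theorem base_len : basePts.length = 4 ∧ fixComb.length = 8 := by decide +kernel

theorem base_small : ∀ k < 4, basePts.getD k 0 ∈ smallL := by
  intro k hk
  have h := level_ok
  simp only [levelChk, Bool.and_eq_true, List.all_eq_true, List.mem_range, memL_iff] at h
  exact h.1.1.1.1 k hk

theorem cands_le : (cands 0).length ≤ 105 ∧ (cands 1).length ≤ 48 ∧ (cands 2).length ≤ 4 ∧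
    (cands 3).length ≤ 2 := by
  have h := level_ok
  simp only [levelChk, Bool.and_eq_true, Nat.ble_eq] at h
  exact ⟨h.1.1.1.2, h.1.1.2, h.1.2, h.2⟩

theorem lev_take {g : GL chevE6.Idx K} {k : ℕ} (hk : k ≤ 4) (hg : g ∈ lev w k) :
    ∀ d ∈ basePts.take k, g.val *ᵥ Bv w d = Bv w d := by
  intro d hd
  obtain ⟨j, hj, rfl⟩ := List.getElem_of_mem hd
  have hb := base_len.1
  rw [List.length_take] at hj
  rw [List.getElem_take, ← List.getD_eq_getElem _ 0 (by omega)]
  exact lev_base hg j (by omega)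

variable (hw : w * w = 1 + w)
include hw

theorem progN_fixed {g : GL chevE6.Idx K} (hg : g ∈ Aut K) :
    ∀ (P : List (ℕ × ℕ)) (L : List ℕ), (∀ d ∈ L, g.val *ᵥ Bv w d = Bv w d) →
      ∀ d ∈ progN P L, g.val *ᵥ Bv w d = Bv w d
  | [], L, h => by rw [progN]; exact h
  | p :: P, L, h => by
    rw [progN]
    refine progN_fixed hg P _ fun d hd => ?_
    rcases List.mem_append.1 hd with hd | hd
    · exact h d hd
    · have h' : ∀ i, g.val *ᵥ Bv w (L.getD i 0) = Bv w (L.getD i 0) := fun i => by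
        by_cases hi : i < L.length
        · rw [List.getD_eq_getElem _ _ hi]; exact h _ (List.getElem_mem hi)
        · rw [List.getD_eq_default _ _ (not_lt.1 hi), Bv_zero hw, Matrix.mulVec_zero]
      rw [List.mem_singleton.1 hd, Bv_mbS hw, hg.1, h', h']

theorem combN_fixed {g : GL chevE6.Idx K} : ∀ (L : List ℕ) (c i : ℕ),
    (∀ d ∈ L, g.val *ᵥ Bv w d = Bv w d) → g.val *ᵥ Bv w (combN L c i) = Bv w (combN L c i)
  | [], _, _, _ => by rw [combN, Bv_zero hw, Matrix.mulVec_zero]
  | a :: L, c, i, h => by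
    have ih := combN_fixed L c (i + 1) fun d hd => h d (List.mem_cons_of_mem _ hd)
    rw [combN]
    cases bmem c i
    · exact ih
    · rw [cond_true, Bv_xor hw, Matrix.mulVec_add, h a List.mem_cons_self, ih]

theorem lev_orbit {k : ℕ} (hk : k < 4) {g : GL chevE6.Idx K} (hg : g ∈ lev w k) :
    ∃ c ∈ cands k, Bv w c = g.val *ᵥ Bv w (basePts.getD k 0) := by
  have hC := lev_le_CP k hg
  obtain ⟨c, hc, e⟩ := mask_image hw hC (basePts.getD k 0)
  refine ⟨c, ?_, e⟩
  rw [cands, List.mem_filter, List.all_eq_true]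
  refine ⟨small_of_Fp hw (Fp_image hw hC (smallL_Fp hw (base_small k hk)) hc e), fun d hd => ?_⟩
  have hd' : g.val *ᵥ Bv w d = Bv w d :=
    progN_fixed hw hC.1 _ _ (lev_take hk.le hg) d hd
  rw [cls_image hw hC (mbS_lt d (basePts.getD k 0)) (mbS_lt d c)
    (by rw [Bv_mbS hw, Bv_mbS hw, e, hC.1.1, hd'])]
  exact Nat.beq_refl _

theorem lev_step [Fintype K] {k : ℕ} (hk : k < 4) :
    Nat.card ↥(lev w k : Subgroup (GL chevE6.Idx K)) ≤
      (cands k).length * Nat.card ↥(lev w (k + 1) : Subgroup (GL chevE6.Idx K)) := by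
  classical
  refine le_trans (card_le_orbit _ (Bv w (basePts.getD k 0))
    ((cands k).toFinset.image (Bv w)) fun g hg => ?_) (Nat.mul_le_mul_right _ ?_)
  · obtain ⟨c, hc, e⟩ := lev_orbit hw hk hg
    exact Finset.mem_image.2 ⟨c, List.mem_toFinset.2 hc, e⟩
  · exact le_trans Finset.card_image_le (List.toFinset_card_le _)

omit hw in
variable (w) in
/-- The linear maps of the seven operators. -/
noncomputable def opL (F : Fin 7 → V K) : List (V K →ₗ[K] V K) :=
  [LinearMap.id + (Matrix.mulVecLin (xE w).val + (Matrix.mulVecLin (xE w ^ 2).val +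
      (Matrix.mulVecLin (xE w ^ 3).val + Matrix.mulVecLin (xE w ^ 4).val))),
    brK (F 0), brK (F 1), brK (F 2), brK (F 3), brK (F 4),
    (brK (F 5)).comp (brK (F 6)) + LinearMap.id]

omit hw in
/-- The sum of the seven left factors on linear maps. -/
noncomputable def leftL (w : K) : List (List (ℕ × ℕ × ℕ)) → List (V K →ₗ[K] V K) → (V K →ₗ[K] V K)
  | E :: Es, T :: Ts => (spK w E).comp T + leftL w Es Ts
  | _, _ => 0

theorem cv_leftSum (c : V K) : ∀ (Es : List (List (ℕ × ℕ × ℕ))) (L : List (ℕ × ℕ))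
    (Ts : List (V K →ₗ[K] V K)), (∀ E ∈ Es, colsOK 78 E = true) → L.map (cv w) = Ts.map (· c) →
    cv w (leftSum Es L) = leftL w Es Ts c
  | [], L, Ts, _, _ => by simp [leftSum, leftL, cv, colVec_zero]
  | E :: Es, [], Ts, _, h => by
    cases Ts with
    | nil => simp [leftSum, leftL, cv, colVec_zero]
    | cons T Ts => simp at h
  | E :: Es, v :: L, [], _, h => by simp at h
  | E :: Es, v :: L, T :: Ts, hE, h => by
    simp only [List.map_cons, List.cons.injEq] at h
    have ih := cv_leftSum c Es L Ts (fun E' hE' => hE E' (List.mem_cons_of_mem _ hE')) h.2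
    rw [leftSum, cv, colVec_addV, colVec_spApp hw agE6 _ (colsOK78 (hE E List.mem_cons_self)), ← cv,
      ← cv, ih, h.1, leftL, LinearMap.add_apply, LinearMap.comp_apply]

omit hw in
theorem leftL_zero : ∀ (Es : List (List (ℕ × ℕ × ℕ))) (Ts : List (V K →ₗ[K] V K)) (u : V K),
    (∀ T ∈ Ts, T u = 0) → leftL w Es Ts u = 0
  | [], _, _, _ => by simp [leftL]
  | E :: Es, [], _, _ => by simp [leftL]
  | E :: Es, T :: Ts, u, h => by
    rw [leftL, LinearMap.add_apply, LinearMap.comp_apply, h T List.mem_cons_self, map_zero,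
      leftL_zero Es Ts u fun T' hT' => h T' (List.mem_cons_of_mem _ hT'), add_zero]

theorem four_apply {α : Type} (l : List ℕ) (hl : ∀ g ∈ l, g < 16) (u : ℕ × ℕ)
    (k : ℕ × ℕ → ℕ × ℕ → ℕ × ℕ → ℕ × ℕ → α) :
    ∃ u1 u2 u3 u4, (applyK l u fun a => applyK l a fun b => applyK l b fun c => applyK l c fun d =>
        k a b c d) = k u1 u2 u3 u4 ∧
      cv w u1 = (wm w l).val *ᵥ cv w u ∧ cv w u2 = (wm w l).val *ᵥ cv w u1 ∧
      cv w u3 = (wm w l).val *ᵥ cv w u2 ∧ cv w u4 = (wm w l).val *ᵥ cv w u3 := by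
  obtain ⟨u1, e1, h1⟩ := applyK_spec hw l u (fun a => applyK l a fun b => applyK l b fun c =>
    applyK l c fun d => k a b c d) hl
  obtain ⟨u2, e2, h2⟩ := applyK_spec hw l u1 (fun b => applyK l b fun c =>
    applyK l c fun d => k u1 b c d) hl
  obtain ⟨u3, e3, h3⟩ := applyK_spec hw l u2 (fun c => applyK l c fun d => k u1 u2 c d) hl
  obtain ⟨u4, e4, h4⟩ := applyK_spec hw l u3 (fun d => k u1 u2 u3 d) hl
  exact ⟨u1, u2, u3, u4, e1.trans (e2.trans (e3.trans e4)), h1, h2, h3, h4⟩

theorem opsK_spec {α : Type} (f : List (ℕ × ℕ)) (u : ℕ × ℕ) (k : List (ℕ × ℕ) → α) :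
    ∃ R, opsK f u k = k R ∧
      R.map (cv w) = (opL w fun i => cv w (f.getD i.val (0, 0))).map (· (cv w u)) := by
  obtain ⟨u1, u2, u3, u4, e, h1, h2, h3, h4⟩ := four_apply hw xW xW_lt16 u (fun a b c d =>
    k [addV u (addV a (addV b (addV c d))), brS (f.getD 0 (0, 0)) u, brS (f.getD 1 (0, 0)) u,
      brS (f.getD 2 (0, 0)) u, brS (f.getD 3 (0, 0)) u, brS (f.getD 4 (0, 0)) u,
      addV (brS (f.getD 5 (0, 0)) (brS (f.getD 6 (0, 0)) u)) u])
  refine ⟨_, (show opsK f u k = _ by rw [opsK]).trans e, ?_⟩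
  have g1 : cv w u1 = (xE w).val *ᵥ cv w u := by rw [xE]; exact h1
  have g2 : cv w u2 = (xE w ^ 2).val *ᵥ cv w u := by
    rw [h2, ← xE, g1, Matrix.mulVec_mulVec, ← Units.val_mul, ← pow_two]
  have g3 : cv w u3 = (xE w ^ 3).val *ᵥ cv w u := by
    rw [h3, ← xE, g2, Matrix.mulVec_mulVec, ← Units.val_mul, ← pow_succ']
  have g4 : cv w u4 = (xE w ^ 4).val *ᵥ cv w u := by
    rw [h4, ← xE, g3, Matrix.mulVec_mulVec, ← Units.val_mul, ← pow_succ']
  have ha : ∀ a b : ℕ × ℕ, cv w (addV a b) = cv w a + cv w b := fun a b => colVec_addV w a b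
  simp only [opL, List.map_cons, List.map_nil, List.cons.injEq, and_true, ha, cv_brS hw tab_ok,
    LinearMap.add_apply, LinearMap.comp_apply, LinearMap.id_coe, id, Matrix.mulVecLin_apply, g1, g2,
    g3, g4, show ((0 : Fin 7).val) = 0 from rfl, show ((1 : Fin 7).val) = 1 from rfl,
    show ((2 : Fin 7).val) = 2 from rfl, show ((3 : Fin 7).val) = 3 from rfl,
    show ((4 : Fin 7).val) = 4 from rfl, show ((5 : Fin 7).val) = 5 from rfl,
    show ((6 : Fin 7).val) = 6 from rfl]

omit hw in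
variable (w) in
/-- The seven fixed vectors. -/
noncomputable def fixF (i : Fin 7) : V K :=
  if i.val < 6 then Bv w (fixM i.val) else brK (Bv w (fixM 6)) (Bv w (fixM 7))

theorem fixK_spec {α : Type} (k : List (ℕ × ℕ) → α) :
    ∃ f, fixK k = k f ∧ ∀ i : Fin 7, cv w (f.getD i.val (0, 0)) = fixF w i := by
  refine ⟨[Bm (fixM 0) id, Bm (fixM 1) id, Bm (fixM 2) id, Bm (fixM 3) id, Bm (fixM 4) id,
    Bm (fixM 5) id, brS (Bm (fixM 6) id) (Bm (fixM 7) id)], ?_, ?_⟩
  · rw [fixK, Bm_lift, Bm_lift, Bm_lift, Bm_lift, Bm_lift, Bm_lift, Bm_lift, Bm_lift, nowV_eq]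
  · intro i
    fin_cases i <;>
      simp only [fixF, List.getD_cons_zero, List.getD_cons_succ, cv_brS hw tab_ok, cv_Bm hw] <;> rfl

theorem spanW_map : leftL w leftW (opL w (fixF w)) + LinearMap.id =
    (combL w baseW 0).comp (spK w psiW) := by
  have h := spanW_ok
  simp only [spanWChk, Bool.and_eq_true] at h
  obtain ⟨⟨hE, hP⟩, hf⟩ := h
  simp only [List.all_eq_true] at hE
  obtain ⟨f, e, hfv⟩ := fixK_spec hw (fun f => (List.range 78).all fun c =>
    opsK f (2 ^ c, 0) fun R => nowV (leftSum leftW R) fun e =>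
      combK baseW (spApp psiW (2 ^ c, 0)) 0 fun u => sameV (addV e (2 ^ c, 0)) u)
  rw [e, List.all_eq_true] at hf
  have hFF : (fun i : Fin 7 => cv w (f.getD i.val (0, 0))) = fixF w := funext hfv
  refine linExt fun c hc => ?_
  obtain ⟨R, e', hR⟩ := opsK_spec hw f (2 ^ c, 0) (fun R => nowV (leftSum leftW R) fun e =>
      combK baseW (spApp psiW (2 ^ c, 0)) 0 fun u => sameV (addV e (2 ^ c, 0)) u)
  have hf' := hf c (List.mem_range.2 hc)
  rw [e', nowV_eq, combK_lift] at hf'
  have hbl : baseW.length = 4 := by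
    have := basisW_ok
    simp only [basisWChk, Bool.and_eq_true] at this
    exact Nat.eq_of_beq_eq_true this.1.1.1.1
  have e2 := congrArg (cv w) (sameV_eq hf')
  rw [hFF] at hR
  rw [cv_combK hw _ _ _ (by rw [hbl]; norm_num), cv, colVec_addV, ← cv, ← cv, cv_leftSum hw _ _ _ _ hE hR] at e2
  simp only [cv, colVec_unit, colVec_spApp hw agE6 _ (colsOK78 hP)] at e2
  simp only [LinearMap.add_apply, LinearMap.comp_apply, LinearMap.id_coe, id]
  exact e2

omit hw in
theorem baseW_len : baseW.length = 4 := by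
  have := basisW_ok
  simp only [basisWChk, Bool.and_eq_true] at this
  exact Nat.eq_of_beq_eq_true this.1.1.1.1

theorem baseW_props : ∀ j < 4, spK w psiW (cv w (baseW.getD j (0, 0))) = eV j ∧
    sigK (cv w (baseW.getD j (0, 0))) = cv w (baseW.getD j (0, 0)) := by
  intro j hj
  have h := basisW_ok
  have hP := spanW_ok
  simp only [spanWChk, Bool.and_eq_true] at hP
  simp only [basisWChk, Bool.and_eq_true, List.all_eq_true, List.mem_range] at h
  obtain ⟨h1, h2⟩ := h.1.1.1.2 j hj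
  exact ⟨by rw [cv, ← colVec_spApp hw agE6 _ (colsOK78 hP.1.2), sameV_eq h1, colVec_unit],
    by rw [← cv_sigS hw, sameV_eq h2]⟩

/-- Members of the last space are among sixteen vectors. -/
theorem last_space {u : V K} (hu : ∀ T ∈ opL w (fixF w), T u = 0) (hs : sigK u = u) :
    ∃ m < 2 ^ 4, u = combL w baseW 0 (cv w (m, 0)) := by
  set c := spK w psiW u with hc
  have e : u = combL w baseW 0 c := by
    have := LinearMap.congr_fun (spanW_map hw) u
    rw [LinearMap.add_apply, leftL_zero _ _ _ hu, zero_add] at this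
    exact this
  have hev : ∀ (x : V K) (k : ℕ), k < 4 → ev k (spK w psiW (combL w baseW 0 x)) = ev k x := by
    intro x k hk
    rw [combL_unit (spK w psiW) x baseW 0 (by rw [baseW_len]; norm_num)
      (fun j hj => by rw [Nat.zero_add]; exact (baseW_props hw j (by rwa [baseW_len] at hj)).1) k,
      if_pos ⟨Nat.zero_le k, by rw [baseW_len]; omega⟩]
  have hsq : ∀ k < 4, ev k c = 0 ∨ ev k c = 1 := by
    intro k hk
    have h2 : combL w baseW 0 (sqV c) = combL w baseW 0 c := by
      rw [← sigK_combL c baseW 0 (by rw [baseW_len]; norm_num) fun b hb => by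
        obtain ⟨j, hj, rfl⟩ := List.getElem_of_mem hb
        have := (baseW_props hw j (by rw [← baseW_len]; exact hj)).2
        rwa [List.getD_eq_getElem _ _ hj] at this, ← e, hs]
    have := congrArg (fun x => ev k (spK w psiW x)) h2
    simp only [hev _ k hk, ev_sqV (show k < 78 by omega)] at this
    rcases eq_or_ne (ev k c) 0 with h | h
    · exact Or.inl h
    · exact Or.inr (mul_left_cancel₀ h (by rw [mul_one, ← pow_two, this]))
  classical
  refine ⟨Nat.ofBits fun i : Fin 4 => decide (ev i.val c = 1), Nat.ofBits_lt_two_pow _, ?_⟩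
  rw [e]
  refine combL_congr _ _ fun k _ hk => ?_
  rw [Nat.zero_add, baseW_len] at hk
  rw [ev_bits hw _ (by omega), Nat.testBit_ofBits_lt _ k hk]
  rcases hsq k hk with h | h <;> simp [h]

omit hw in
theorem opL_comm {g : GL chevE6.Idx K} (hg : g ∈ Aut K) (hx : g * xE w = xE w * g)
    (F : Fin 7 → V K) (hF : ∀ i, g.val *ᵥ F i = F i) :
    ∀ T ∈ opL w F, ∀ u, T (g.val *ᵥ u) = g.val *ᵥ T u := by
  have hp : ∀ (k : ℕ) (u : V K), (xE w ^ k).val *ᵥ (g.val *ᵥ u) = g.val *ᵥ ((xE w ^ k).val *ᵥ u) := by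
    intro k u
    rw [Matrix.mulVec_mulVec, ← Units.val_mul, ((show Commute g (xE w) from hx).pow_right k).symm.eq,
      Units.val_mul, ← Matrix.mulVec_mulVec]
  have h1 : ∀ u : V K, (xE w).val *ᵥ (g.val *ᵥ u) = g.val *ᵥ ((xE w).val *ᵥ u) := fun u => by
    simpa using hp 1 u
  have hb : ∀ i (u : V K), brK (F i) (g.val *ᵥ u) = g.val *ᵥ brK (F i) u := fun i u => by
    rw [hg.1, hF]
  intro T hT u
  simp only [opL, List.mem_cons, List.not_mem_nil, or_false] at hT
  rcases hT with rfl | rfl | rfl | rfl | rfl | rfl | rfl <;>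
    simp only [LinearMap.add_apply, LinearMap.comp_apply, LinearMap.id_coe, id,
      Matrix.mulVecLin_apply, hp, h1, hb, Matrix.mulVec_add]

theorem last_fixed {g : GL chevE6.Idx K} (hg : g ∈ lev w 4) : ∀ i, g.val *ᵥ fixF w i = fixF w i := by
  have hC := lev_le_CP 4 hg
  have hb : ∀ j, g.val *ᵥ Bv w (fixM j) = Bv w (fixM j) := fun j =>
    combN_fixed hw _ _ _ (progN_fixed hw hC.1 _ _ (by
      have := lev_take (k := 4) le_rfl hg
      rwa [List.take_of_length_le (by rw [base_len.1])] at this))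
  intro i
  rw [fixF]
  split
  · exact hb _
  · rw [hC.1.1, hb, hb]

theorem lastVec_mem : (∀ T ∈ opL w (fixF w), T (cv w lastVec) = 0) ∧
    sigK (cv w lastVec) = cv w lastVec ∧ cv w lastVec ≠ 0 := by
  have h := basisW_ok
  simp only [basisWChk, Bool.and_eq_true] at h
  obtain ⟨⟨⟨-, hs⟩, hne⟩, hf⟩ := h
  refine ⟨?_, by rw [← cv_sigS hw, sameV_eq hs], ?_⟩
  · obtain ⟨f, e, hfv⟩ := fixK_spec hw (fun f => opsK f lastVec fun R => R.all fun r => sameV r (0, 0))
    rw [e] at hf
    obtain ⟨R, e', hR⟩ := opsK_spec hw f lastVec (fun R => R.all fun r => sameV r (0, 0))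
    rw [e', List.all_eq_true] at hf
    rw [show (fun i : Fin 7 => cv w (f.getD i.val (0, 0))) = fixF w from funext hfv] at hR
    intro T hT
    have hmem : T (cv w lastVec) ∈ R.map (cv w) := hR ▸ List.mem_map.2 ⟨T, hT, rfl⟩
    obtain ⟨r, hr, er⟩ := List.mem_map.1 hmem
    rw [← er, sameV_eq (hf r hr), cv, colVec_zero]
  · intro h0
    simp only [List.any_eq_true, List.mem_range, Bool.not_eq_true'] at hne
    obtain ⟨n, hn, hb⟩ := hne
    have e : cv w lastVec = cv w ((0, 0) : ℕ × ℕ) := by rw [h0, cv, colVec_zero]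
    rw [bitC_eq_of_cv hw e hn] at hb
    have : bitC (0, 0) n = 0 := by simp [bitC, bmem_eq]
    rw [this] at hb
    exact absurd hb (by decide)

theorem last_stab {g : GL chevE6.Idx K} (hg : g ∈ lev w 4)
    (hv : g.val *ᵥ cv w lastVec = cv w lastVec) : g = 1 := by
  have hC := lev_le_CP 4 hg
  set S : Submodule K (V K) := LinearMap.eqLocus (Matrix.mulVecLin g.val) LinearMap.id
  have hmem : ∀ u, u ∈ S ↔ g.val *ᵥ u = u := fun u => by simp [S, LinearMap.mem_eqLocus]
  have hB : ∀ u v : V K, u ∈ S → v ∈ S → brK u v ∈ S := fun u v hu hv => by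
    rw [hmem] at hu hv ⊢; rw [hC.1.1, hu, hv]
  have hX : ∀ u : V K, u ∈ S → (xE w).val *ᵥ u ∈ S := fun u hu => by
    rw [hmem] at hu ⊢
    rw [Matrix.mulVec_mulVec, ← Units.val_mul, CP_comm hC, Units.val_mul, ← Matrix.mulVec_mulVec, hu]
  have hP : ∀ {α : Type} (P : List (ℕ × ℕ × ℕ)) (L : List (ℕ × ℕ)) (k : List (ℕ × ℕ) → α),
      (∀ v ∈ L, cv w v ∈ S) → ∃ L', progX P L k = k L' ∧ ∀ v ∈ L', cv w v ∈ S := by
    intro α P
    induction P with
    | nil => intro L k hL; exact ⟨L, rfl, hL⟩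
    | cons p P ih =>
      intro L k hL
      rw [progX]
      cases Nat.beq p.1 0
      · rw [cond_false, nowV_eq]
        refine ih _ k fun v hv => ?_
        rcases List.mem_append.1 hv with hv | hv
        · exact hL v hv
        · rw [List.mem_singleton.1 hv, cv_brS hw tab_ok]
          exact hB _ _ (getD_mem hw S hL _) (getD_mem hw S hL _)
      · obtain ⟨u, e, hu⟩ := applyK_spec hw xW (L.getD p.2.1 (0, 0))
          (fun v => progX P (L ++ [v]) k) xW_lt16
        rw [cond_true, e]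
        refine ih _ k fun v hv => ?_
        rcases List.mem_append.1 hv with hv | hv
        · exact hL v hv
        · rw [List.mem_singleton.1 hv, hu, ← xE]
          exact hX _ (getD_mem hw S hL _)
  have h := end_ok
  rw [endChk, Bm_lift, Bm_lift, Bm_lift, Bm_lift] at h
  obtain ⟨L, e, hL⟩ := hP lastProg [Bm (basePts.getD 0 0) id, Bm (basePts.getD 1 0) id,
    Bm (basePts.getD 2 0) id, Bm (basePts.getD 3 0) id, lastVec] (fun L => unitChk L lastCert) (by
      intro v hv'
      rw [hmem]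
      simp only [List.mem_cons, List.not_mem_nil, or_false] at hv'
      rcases hv' with rfl | rfl | rfl | rfl | rfl
      · rw [cv_Bm hw]; exact lev_base hg 0 (by norm_num)
      · rw [cv_Bm hw]; exact lev_base hg 1 (by norm_num)
      · rw [cv_Bm hw]; exact lev_base hg 2 (by norm_num)
      · rw [cv_Bm hw]; exact lev_base hg 3 (by norm_num)
      · exact hv)
  rw [e] at h
  have ht := unitChk_top hw S h hL
  refine Units.ext (Matrix.ext_iff_mulVec.2 fun u => ?_)
  rw [Units.val_one, Matrix.one_mulVec]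
  exact (hmem u).1 (ht ▸ Submodule.mem_top)

theorem last_card [Fintype K] :
    Nat.card ↥(lev w 4 : Subgroup (GL chevE6.Idx K)) ≤ 15 := by
  classical
  refine le_trans (card_le_orbit _ (cv w lastVec)
    ((Finset.Ico 1 (2 ^ 4)).image fun m => combL w baseW 0 (cv w (m, 0))) fun g hg => ?_) ?_
  · obtain ⟨hu, hs, hne⟩ := lastVec_mem hw
    have hC := lev_le_CP 4 hg
    obtain ⟨m, hm, e⟩ := last_space hw (u := g.val *ᵥ cv w lastVec) (fun T hT => by
      rw [opL_comm hC.1 (CP_comm hC) _ (last_fixed hw hg) T hT, hu T hT, Matrix.mulVec_zero])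
      (by rw [← hC.1.2, hs])
    refine Finset.mem_image.2 ⟨m, Finset.mem_Ico.2 ⟨?_, hm⟩, e.symm⟩
    rcases Nat.eq_zero_or_pos m with rfl | h
    · refine absurd ?_ hne
      rw [← inv_mulVec hw g (cv w lastVec), e]
      simp [cv, colVec_zero]
    · exact h
  · have hbot : Nat.card ↥(lev w 4 ⊓ fixG (cv w lastVec) : Subgroup (GL chevE6.Idx K)) = 1 := by
      rw [Subgroup.card_eq_one, eq_bot_iff]
      intro g hg
      exact Subgroup.mem_bot.2 (last_stab hw hg.1 hg.2)
    rw [hbot, mul_one]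
    exact le_trans Finset.card_image_le (by simp)

theorem card_CP [Fintype K] : Nat.card ↥(CP w : Subgroup (GL chevE6.Idx K)) ≤ 604800 := by
  obtain ⟨h0, h1, h2, h3⟩ := cands_le
  have s0 := lev_step hw (K := K) (show 0 < 4 by norm_num)
  have s1 := lev_step hw (K := K) (show 1 < 4 by norm_num)
  have s2 := lev_step hw (K := K) (show 2 < 4 by norm_num)
  have s3 := lev_step hw (K := K) (show 3 < 4 by norm_num)
  have s4 := last_card hw (K := K)
  calc Nat.card ↥(CP w : Subgroup (GL chevE6.Idx K))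
      ≤ 105 * (48 * (4 * (2 * 15))) :=
        s0.trans (Nat.mul_le_mul h0 (s1.trans (Nat.mul_le_mul h1 (s2.trans
          (Nat.mul_le_mul h2 (s3.trans (Nat.mul_le_mul h3 s4)))))))
    _ = 604800 := by norm_num

end CfsgLib.TwE6Five
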