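import Cfsg.Agent.Lib.TwE6Five.Defs
import Cfsg.Agent.Lib.Chev.TwistE6TwoF4
import Cfsg.Agent.Lib.Chev.TwistEndo

/-!
The bracket and the semilinear map on the adjoint module, and the meaning of the packed checks.
-/

set_option autoImplicit false
set_option maxRecDepth 100000
set_option linter.unusedSectionVars false

namespace CfsgLib.TwE6Five

open Cfsg.Lie CfsgLib.Chev Matrix

/-- The coordinate vectors. -/
abbrev V (K : Type*) := chevE6.Idx → K

theorem dim78 : tabE6.dim = 78 ∧ tabE6.n = 72 := by decide +kernel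

theorem agE6 : tabE6.Agrees chevE6 := certE6.agrees

theorem enc_lt78 (i : chevE6.Idx) : enc i < 78 := lt_of_lt_of_eq (enc_lt agE6 i) dim78.1

theorem exists_enc78 {n : ℕ} (hn : n < 78) : ∃ i : chevE6.Idx, enc i = n :=
  exists_enc agE6 (lt_of_lt_of_eq hn dim78.1.symm)

variable {K : Type*} [Field K] [CharP K 2] {w : K}

variable (w) in
/-- The vector of two masks. -/
noncomputable abbrev cv (v : ℕ × ℕ) : V K := colVec chevE6 w v

theorem ev_eV78 {a : ℕ} (ha : a < 78) (b : ℕ) :
    ev b (eV a : V K) = if a = b then 1 else 0 :=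
  ev_eV agE6 (lt_of_lt_of_eq ha dim78.1.symm) b

theorem linExt {M : Type*} [AddCommGroup M] [Module K M] {f g : V K →ₗ[K] M}
    (h : ∀ c < 78, f (eV c) = g (eV c)) : f = g := by
  refine LinearMap.pi_ext fun i x => ?_
  have e : (Pi.single i x : V K) = x • (eV (enc i) : V K) := by
    rw [eV_enc]; funext j
    by_cases hj : j = i
    · subst hj; simp
    · simp [hj]
  rw [e, map_smul, map_smul, h _ (enc_lt78 i)]

theorem semiExt {f g : V K → V K} (hf : ∀ u v, f (u + v) = f u + f v)
    (hg : ∀ u v, g (u + v) = g u + g v) (sf : ∀ (c : K) u, f (c • u) = c ^ 2 • f u)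
    (sg : ∀ (c : K) u, g (c • u) = c ^ 2 • g u) (h : ∀ c < 78, f (eV c) = g (eV c)) (u : V K) :
    f u = g u := by
  rw [pi_eq_sum_univ u]
  have f0 : f 0 = 0 := by simpa using sf 0 0
  have g0 : g 0 = 0 := by simpa using sg 0 0
  refine Finset.induction_on (motive := fun s => f (∑ i ∈ s, u i • fun j => if i = j then 1 else 0) =
    g (∑ i ∈ s, u i • fun j => if i = j then 1 else 0)) Finset.univ (by simp [f0, g0])
    fun i s hi ih => ?_
  rw [Finset.sum_insert hi, hf, hg, ih, sf, sg]
  congr 2
  have e : (fun j => if i = j then (1 : K) else 0) = (eV (enc i) : V K) := by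
    funext j; simp [eV, enc_injective.eq_iff, eq_comm]
  rw [e, h _ (enc_lt78 i)]

/-- The linear map of a list of unit entries. -/
noncomputable def adMap (L : List (ℕ × ℕ)) : V K →ₗ[K] V K :=
  (L.map fun p => (ev p.2).smulRight (eV p.1 : V K)).sum

theorem adMap_nil (y : V K) : adMap [] y = 0 := by simp [adMap]

theorem adMap_cons (p : ℕ × ℕ) (L : List (ℕ × ℕ)) (y : V K) :
    adMap (p :: L) y = ev p.2 y • (eV p.1 : V K) + adMap L y := by simp [adMap]

/-- The bilinear map of the adjoint tables from a number on. -/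
noncomputable def brFrom : List (List (ℕ × ℕ)) → ℕ → (V K →ₗ[K] V K →ₗ[K] V K)
  | [], _ => 0
  | L :: R, c => (ev c).smulRight (adMap L) + brFrom R (c + 1)

/-- The bracket. -/
noncomputable def brK : V K →ₗ[K] V K →ₗ[K] V K := brFrom adT 0

theorem brFrom_cons (L : List (ℕ × ℕ)) (R : List (List (ℕ × ℕ))) (c : ℕ) (u v : V K) :
    brFrom (L :: R) c u v = ev c u • adMap L v + brFrom R (c + 1) u v := by
  simp [brFrom]

theorem brFrom_eV : ∀ (R : List (List (ℕ × ℕ))) (c p : ℕ), p < 78 → ∀ v : V K,
    brFrom R c (eV p) v = if c ≤ p then adMap (R.getD (p - c) []) v else 0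
  | [], c, p, _, v => by simp [brFrom, adMap_nil]
  | L :: R, c, p, hp, v => by
    rw [brFrom_cons, brFrom_eV R (c + 1) p hp v, ev_eV78 hp]
    rcases lt_trichotomy c p with h | rfl | h
    · rw [if_neg (by omega), if_pos (by omega), if_pos h.le, zero_smul, zero_add,
        show p - c = p - (c + 1) + 1 by omega, List.getD_cons_succ]
    · rw [if_pos rfl, if_neg (by omega), if_pos le_rfl, one_smul, add_zero, Nat.sub_self,
        List.getD_cons_zero]
    · rw [if_neg (by omega), if_neg (by omega), if_neg (by omega), zero_smul, add_zero]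

theorem brK_eV {p : ℕ} (hp : p < 78) (v : V K) : brK (eV p) v = adMap (adT.getD p []) v := by
  rw [brK, brFrom_eV _ _ _ hp]; simp

theorem tab_facts (h : tabChk = true) :
    adT.length = 78 ∧ (∀ c, ∀ p ∈ adT.getD c [], p.1 < 78 ∧ p.2 < 78) ∧
    (∀ L ∈ adT, ∀ p ∈ L, p.1 < 78 ∧ p.2 < 78) ∧
    (∀ g, ∀ q ∈ gensN.getD g [], q.1 < 78 ∧ q.2.1 < 78 ∧ q.2.2 < 4) ∧
    (∀ g, ∀ p ∈ gensData.getD g [], p.1 < 72 ∧ p.2 < 4) ∧ (∀ a, imL.getD a 0 < 78) := by
  simp only [tabChk, Bool.and_eq_true, List.all_eq_true, decide_eq_true_eq] at h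
  obtain ⟨⟨⟨⟨⟨h1, h2⟩, -⟩, h4⟩, h5⟩, h6⟩ := h
  refine ⟨Nat.eq_of_beq_eq_true h1, fun c p hp => ?_, h2, fun g q hq => ?_, fun g p hp => ?_,
    fun a => ?_⟩
  · by_cases hc : c < adT.length
    · rw [List.getD_eq_getElem _ _ hc] at hp; exact h2 _ (List.getElem_mem hc) p hp
    · rw [List.getD_eq_default _ _ (not_lt.1 hc)] at hp; exact absurd hp List.not_mem_nil
  · by_cases hc : g < gensN.length
    · rw [List.getD_eq_getElem _ _ hc] at hq
      obtain ⟨⟨a, b⟩, c⟩ := h4 _ (List.getElem_mem hc) q hq
      exact ⟨a, b, c⟩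
    · rw [List.getD_eq_default _ _ (not_lt.1 hc)] at hq; exact absurd hq List.not_mem_nil
  · by_cases hc : g < gensData.length
    · rw [List.getD_eq_getElem _ _ hc] at hp; exact h5 _ (List.getElem_mem hc) p hp
    · rw [List.getD_eq_default _ _ (not_lt.1 hc)] at hp; exact absurd hp List.not_mem_nil
  · by_cases hc : a < imL.length
    · rw [List.getD_eq_getElem _ _ hc]; exact h6 _ (List.getElem_mem hc)
    · rw [List.getD_eq_default _ _ (not_lt.1 hc)]; norm_num

theorem colsOK_of {N : List (ℕ × ℕ × ℕ)} (h : ∀ q ∈ N, q.2.1 < 78) :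
    colsOK tabE6.dim N = true := by
  simp only [colsOK, List.all_eq_true, decide_eq_true_eq, dim78.1]; exact h

theorem colsOK78 {N : List (ℕ × ℕ × ℕ)} (h : colsOK 78 N = true) :
    colsOK tabE6.dim N = true := by rwa [dim78.1]

theorem spK_scaled (t : ℕ) : ∀ (L : List (ℕ × ℕ)) (y : V K),
    spK w (L.map fun p => (p.1, p.2, t)) y = cval w t • adMap L y
  | [], y => by simp [spK_nil, adMap_nil]
  | p :: L, y => by
    rw [List.map_cons, spK_cons, spK_scaled t L y, adMap_cons, smul_add, smul_smul]

theorem spK_adFrom (u : ℕ × ℕ) : ∀ (R : List (List (ℕ × ℕ))) (c : ℕ), c + R.length ≤ 78 →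
    ∀ y : V K, spK w (adFrom u R c) y = brFrom R c (cv w u) y
  | [], c, _, y => by simp [adFrom, spK_nil, brFrom]
  | L :: R, c, hc, y => by
    simp only [List.length_cons] at hc
    have ih := spK_adFrom u R (c + 1) (by omega) y
    rw [brFrom_cons, ev_colVec agE6 w u (by rw [dim78.1]; omega), adFrom]
    cases e : Nat.beq (bitC u c) 0
    · rw [cond_false, spK_append, LinearMap.add_apply, spK_scaled, ih]; rfl
    · rw [cond_true, ih, cb, Nat.eq_of_beq_eq_true e]; simp [cval]

theorem mem_adFrom {u : ℕ × ℕ} : ∀ {R : List (List (ℕ × ℕ))} {c : ℕ} {q : ℕ × ℕ × ℕ},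
    q ∈ adFrom u R c → ∃ L ∈ R, ∃ p ∈ L, q.2.1 = p.2
  | [], _, _, h => by simp [adFrom] at h
  | L :: R, c, q, h => by
    rw [adFrom] at h
    cases e : Nat.beq (bitC u c) 0 <;> rw [e] at h <;>
      simp only [cond_false, cond_true, List.mem_append, List.mem_map] at h
    · rcases h with ⟨p, hp, rfl⟩ | h
      · exact ⟨L, List.mem_cons_self, p, hp, rfl⟩
      · obtain ⟨L', hL', hp⟩ := mem_adFrom h; exact ⟨L', List.mem_cons_of_mem _ hL', hp⟩
    · obtain ⟨L', hL', hp⟩ := mem_adFrom h; exact ⟨L', List.mem_cons_of_mem _ hL', hp⟩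

/-- The square of the coordinates. -/
def sqV (u : V K) : V K := fun i => u i ^ 2

/-- The semilinear map. -/
noncomputable def sigK (u : V K) : V K := spK (0 : K) sigN (sqV u)

theorem sigK_add (u v : V K) : sigK (u + v) = sigK u + sigK v := by
  rw [sigK, sigK, sigK, ← map_add]
  congr 1; funext i
  exact CharTwo.add_sq (u i) (v i)

theorem sigK_smul (c : K) (u : V K) : sigK (c • u) = c ^ 2 • sigK u := by
  rw [sigK, sigK, ← map_smul]
  congr 1; funext i
  exact mul_pow c (u i) 2

/-- The matrix of a generator acting linearly. -/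
noncomputable def glin (w : K) (g : ℕ) : V K →ₗ[K] V K :=
  LinearMap.id + spK w (gensN.getD g [])

theorem glin_apply (g : ℕ) (u : V K) : glin w g u = u + spK w (gensN.getD g []) u := rfl

theorem mem_gcol {N : List (ℕ × ℕ × ℕ)} {c : ℕ} {p : ℕ × ℕ} (h : p ∈ gcol N c) :
    p.1 = c ∨ ∃ q ∈ N, p.1 = q.1 := by
  simp only [gcol, List.mem_cons, List.mem_map, List.mem_filter] at h
  rcases h with rfl | ⟨q, ⟨hq, -⟩, rfl⟩
  · exact Or.inl rfl
  · exact Or.inr ⟨q, hq, rfl⟩

/-- A combination of unit vectors. -/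
noncomputable def colSum (w : K) (L : List (ℕ × ℕ)) : V K :=
  (L.map fun p => cval w p.2 • (eV p.1 : V K)).sum

theorem spK_eV {c : ℕ} (hc : c < 78) : ∀ N : List (ℕ × ℕ × ℕ), spK w N (eV c : V K) =
    colSum w ((N.filter fun q => Nat.beq q.2.1 c).map fun q => (q.1, q.2.2))
  | [] => by simp [spK_nil, colSum]
  | q :: N => by
    rw [spK_cons, spK_eV hc N, ev_eV78 hc, List.filter_cons]
    by_cases h : c = q.2.1
    · subst h
      rw [if_pos rfl, if_pos (Nat.beq_refl q.2.1)]
      simp [colSum]
    · have hb : Nat.beq q.2.1 c = false := by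
        cases e : Nat.beq q.2.1 c
        · rfl
        · exact absurd (Nat.eq_of_beq_eq_true e).symm h
      rw [if_neg h, hb]
      simp

theorem glin_eV (g : ℕ) {c : ℕ} (hc : c < 78) :
    glin w g (eV c : V K) = colSum w (gcol (gensN.getD g []) c) := by
  rw [glin_apply, spK_eV hc]
  simp [gcol, colSum, cval]

variable (hw : w * w = 1 + w)
include hw

theorem cv_brS (htab : tabChk = true) (u v : ℕ × ℕ) :
    cv w (brS u v) = brK (cv w u) (cv w v) := by
  obtain ⟨hl, -, hR, -⟩ := tab_facts htab
  rw [brS, cv, colVec_spApp hw agE6 v (colsOK_of fun q hq => ?_),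
    spK_adFrom u adT 0 (by omega), brK]
  obtain ⟨L, hL, p, hp, e⟩ := mem_adFrom hq
  rw [e]; exact (hR L hL p hp).2

theorem cv_conjV (v : ℕ × ℕ) : cv w (conjV v) = sqV (cv w v) := by
  funext i
  have h2 : (2 : K) = 0 := CharTwo.two_eq_zero
  show colVec chevE6 w (conjV v) i = colVec chevE6 w v i ^ 2
  rw [colVec_apply, colVec_apply, cb_def, cb_def,
    show (conjV v).1.testBit (enc i) = xor (v.1.testBit (enc i)) (v.2.testBit (enc i)) from
      Nat.testBit_xor v.1 v.2 _, show (conjV v).2 = v.2 from rfl]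
  cases v.1.testBit (enc i) <;> cases v.2.testBit (enc i) <;>
    simp only [Bool.xor_false, Bool.xor_true, Bool.not_false, Bool.not_true, if_true,
      Bool.false_eq_true, if_false] <;>
    first
      | ring1
      | linear_combination -hw
      | linear_combination -hw - w * h2
      | linear_combination -hw - h2
      | linear_combination -hw - (1 + w) * h2

theorem cv_sigS (v : ℕ × ℕ) : cv w (sigS v) = sigK (cv w v) := by
  have hcol : ∀ q ∈ sigN, q.2.1 < 78 ∧ q.2.2 = 1 := by
    intro q hq
    simp only [sigN, List.mem_map, List.mem_range] at hq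
    obtain ⟨a, ha, rfl⟩ := hq
    exact ⟨ha, rfl⟩
  rw [sigS, cv, colVec_spApp hw agE6 _ (colsOK_of fun q hq => (hcol q hq).1), ← cv, cv_conjV hw, sigK]
  generalize sigN = N at hcol
  induction N with
  | nil => simp [spK_nil]
  | cons q N ih =>
    rw [spK_cons, spK_cons, ih fun r hr => hcol r (List.mem_cons_of_mem _ hr),
      (hcol q List.mem_cons_self).2]
    simp [cval]

theorem cv_stepV (htab : tabChk = true) (g : ℕ) (v : ℕ × ℕ) :
    cv w (stepV g v) = glin w g (cv w v) := by
  obtain ⟨-, -, -, hN, -⟩ := tab_facts htab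
  rw [stepV, cv, colVec_addV, colVec_spApp hw agE6 v (colsOK_of fun q hq => (hN g q hq).2.1),
    glin_apply]

theorem cb_sumV : ∀ (L : List (ℕ × ℕ)) (n : ℕ),
    cb w (sumV L) n = (L.map fun v => cb w v n).sum
  | [], n => by simp [sumV, cb_zero]
  | v :: L, n => by rw [sumV, cb_addV, cb_sumV L n, List.map_cons, List.sum_cons]

omit hw in
theorem cb_pow (a b : ℕ) : cb w (2 ^ a, 0) b = if a = b then 1 else 0 := by
  rw [cb_def]
  by_cases h : a = b
  · subst h; simp
  · simp [h, Nat.testBit_two_pow]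

theorem cb_grow : ∀ (N : List (ℕ × ℕ × ℕ)), (∀ q ∈ N, q.1 < 78 ∧ q.2.1 < 78) →
    ∀ q < 78, ∀ b, cb w (grow N q) b =
      if b < 78 then ev q (eV b + spK w N (eV b) : V K) else 0
  | [], _, q, hq, b => by
    rw [grow, cb_pow, spK_nil, add_zero]
    by_cases hb : b < 78
    · rw [if_pos hb, ev_eV78 hb]; simp [eq_comm]
    · rw [if_neg hb, if_neg (by omega)]
  | e :: N, hN, q, hq, b => by
    obtain ⟨he1, he2⟩ := hN e List.mem_cons_self
    have ih := cb_grow N (fun r hr => hN r (List.mem_cons_of_mem _ hr)) q hq b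
    rw [spK_cons, grow]
    by_cases hb : b < 78
    · rw [if_pos hb] at ih ⊢
      rw [map_add] at ih
      rw [map_add, map_add, map_smul, ev_eV78 he1, smul_eq_mul, ev_eV78 hb e.2.1, ev_eV78 hb q]
      rw [ev_eV78 hb] at ih
      cases c : Nat.beq e.1 q
      · rw [cond_false, ih, if_neg (fun h : e.1 = q => by
          rw [h, Nat.beq_refl] at c; exact Bool.false_ne_true c.symm)]
        ring
      · rw [cond_true, cb_addV, cb_smulV hw, cb_pow, ih, if_pos (Nat.eq_of_beq_eq_true c)]
        simp only [eq_comm (a := e.2.1) (b := b)]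
        ring
    · rw [if_neg hb] at ih ⊢
      cases c : Nat.beq e.1 q
      · rw [cond_false, ih]
      · rw [cond_true, cb_addV, cb_smulV hw, cb_pow, ih, if_neg (by omega), mul_zero, add_zero]

omit hw in
theorem cb_shV (v : ℕ × ℕ) (k n : ℕ) :
    cb w (shV v k) n = if k ≤ n then cb w v (n - k) else 0 := by
  have e : ∀ a : ℕ, (Nat.shiftLeft a k).testBit n = (decide (n ≥ k) && a.testBit (n - k)) :=
    fun a => Nat.testBit_shiftLeft a
  rw [cb_def, cb_def, shV, e, e]
  by_cases h : k ≤ n
  · rw [if_pos h, decide_eq_true h, Bool.true_and, Bool.true_and]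
  · rw [if_neg h, decide_eq_false h, Bool.false_and, Bool.false_and]; simp

omit hw in
theorem sum_flatMap {A B : Type*} (L : List A) (f : A → List B) (g : B → K) :
    ((L.flatMap f).map g).sum = (L.map fun a => ((f a).map g).sum).sum := by
  induction L with
  | nil => simp
  | cons a L ih => simp [ih]

omit hw in
theorem ev_adMap (L : List (ℕ × ℕ)) (hL : ∀ p ∈ L, p.1 < 78) (α : ℕ) (y : V K) :
    ev α (adMap L y) = (L.map fun p => if p.1 = α then ev p.2 y else 0).sum := by
  induction L with
  | nil => simp [adMap_nil]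
  | cons p L ih =>
    rw [adMap_cons, map_add, map_smul, ev_eV78 (hL p List.mem_cons_self),
      ih fun q hq => hL q (List.mem_cons_of_mem _ hq), List.map_cons, List.sum_cons]
    split <;> simp

theorem lhs_spec (htab : tabChk = true) (g : ℕ) {c b α : ℕ} (hc : c < 78) (hb : b < 78)
    (hα : α < 78) : cb w (lhsP (gensN.getD g []) c) (78 * α + b) =
      ev α (brK (glin w g (eV c)) (glin w g (eV b)) : V K) := by
  obtain ⟨-, hA, -, hN, -⟩ := tab_facts htab
  rw [lhsP, cb_sumV hw, sum_flatMap, glin_eV g hc, glin_apply g (eV b)]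
  set y : V K := eV b + spK w (gensN.getD g []) (eV b) with hy
  clear_value y
  have hp : ∀ p ∈ gcol (gensN.getD g []) c, p.1 < 78 := fun p hp => by
    rcases mem_gcol hp with e | ⟨q, hq, e⟩
    · omega
    · rw [e]; exact (hN g q hq).1
  generalize gcol (gensN.getD g []) c = P at hp
  induction P with
  | nil => simp [colSum]
  | cons p P ih =>
    have e : colSum w (p :: P) = cval w p.2 • (eV p.1 : V K) + colSum w P := by simp [colSum]
    rw [List.map_cons, List.sum_cons, ih fun q hq => hp q (List.mem_cons_of_mem _ hq), e, map_add,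
      LinearMap.add_apply, map_add, map_smul, LinearMap.smul_apply, map_smul,
      brK_eV (hp p List.mem_cons_self), ev_adMap _ (fun q hq => (hA _ q hq).1) α y, smul_eq_mul,
      ← List.sum_map_mul_left, List.map_map]
    refine congrArg₂ (· + ·) (congrArg List.sum (List.map_congr_left fun e he => ?_)) rfl
    obtain ⟨h1, h2⟩ := hA _ e he
    have hg := cb_grow hw (gensN.getD g []) (fun q hq => ⟨(hN g q hq).1, (hN g q hq).2.1⟩) e.2 h2
    simp only [Function.comp_apply, cb_smulV hw]
    congr 1
    have hsh := cb_shV (w := w) (grow (gensN.getD g []) e.2) (78 * e.1) (78 * α + b)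
    rw [hsh]
    rcases lt_trichotomy e.1 α with h | h | h
    · rw [if_pos (by omega), if_neg (by omega), hg, if_neg (by omega)]
    · rw [if_pos (by omega), if_pos h, hg, h,
        show 78 * α + b - 78 * α = b by omega, if_pos hb, hy]
    · rw [if_neg (by omega), if_neg (by omega)]

theorem rhs_spec (htab : tabChk = true) (g : ℕ) {c b α : ℕ} (hc : c < 78) (hb : b < 78)
    (hα : α < 78) : cb w (rhsP (gensN.getD g []) c) (78 * α + b) =
      ev α (glin w g (brK (eV c) (eV b)) : V K) := by
  obtain ⟨-, hA, -, hN, -⟩ := tab_facts htab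
  rw [rhsP, cb_sumV hw, sum_flatMap, brK_eV hc]
  have hA' := hA c
  generalize adT.getD c [] = E at hA'
  induction E with
  | nil => simp [adMap_nil]
  | cons e E ih =>
    obtain ⟨h1, h2⟩ := hA' e List.mem_cons_self
    rw [List.map_cons, List.sum_cons, ih fun q hq => hA' q (List.mem_cons_of_mem _ hq), adMap_cons,
      map_add, map_add, map_smul, map_smul, ev_eV78 hb, smul_eq_mul, glin_eV g h1, List.map_map]
    congr 1
    have hp : ∀ p ∈ gcol (gensN.getD g []) e.1, p.1 < 78 := fun p hp => by
      rcases mem_gcol hp with e' | ⟨q, hq, e'⟩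
      · omega
      · rw [e']; exact (hN g q hq).1
    generalize gcol (gensN.getD g []) e.1 = P at hp
    induction P with
    | nil => simp [colSum]
    | cons p P ih' =>
      have e' : colSum w (p :: P) = cval w p.2 • (eV p.1 : V K) + colSum w P := by simp [colSum]
      rw [List.map_cons, List.sum_cons, ih' fun q hq => hp q (List.mem_cons_of_mem _ hq), e',
        map_add, map_smul, ev_eV78 (hp p List.mem_cons_self), smul_eq_mul, mul_add]
      congr 1
      simp only [Function.comp_apply, cb_smulV hw, cb_pow]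
      by_cases hpa : p.1 = α
      · by_cases hbe : b = e.2
        · subst hpa; subst hbe; simp
        · rw [if_pos hpa, if_neg (by omega), if_neg hbe]; simp
      · rw [if_neg hpa, if_neg (by omega)]; simp

omit hw in
theorem ev_ext {u v : V K} (h : ∀ α < 78, ev α u = ev α v) : u = v := by
  funext i
  have := h _ (enc_lt78 i)
  rwa [ev_enc, ev_enc] at this

theorem glin_br (htab : tabChk = true) {g : ℕ} (h : brChk g = true) (u v : V K) :
    glin w g (brK u v) = brK (glin w g u) (glin w g v) := by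
  simp only [brChk, List.all_eq_true, List.mem_range] at h
  have e : (brK : V K →ₗ[K] V K →ₗ[K] V K).compr₂ (glin w g) =
      brK.compl₁₂ (glin w g) (glin w g) := by
    refine linExt fun c hc => linExt fun b hb => ev_ext fun α hα => ?_
    rw [LinearMap.compr₂_apply, LinearMap.compl₁₂_apply, ← rhs_spec hw htab g hc hb hα,
      ← lhs_spec hw htab g hc hb hα, sameV_eq (h c hc)]
  exact LinearMap.congr_fun (LinearMap.congr_fun e u) v

theorem glin_sig (htab : tabChk = true) {g : ℕ} (h : sigChk g = true) (u : V K) :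
    glin w g (sigK u) = sigK (glin w g u) := by
  simp only [sigChk, List.all_eq_true, List.mem_range] at h
  refine semiExt (f := fun x => glin w g (sigK x)) (g := fun x => sigK (glin w g x))
    (fun a b => by simp only [sigK_add, map_add]) (fun a b => by simp only [map_add, sigK_add])
    (fun c a => by simp only [sigK_smul, map_smul]) (fun c a => by simp only [map_smul, sigK_smul])
    (fun c hc => ?_) u
  have e := congrArg (cv w) (sameV_eq (h c hc))
  simp only [cv_stepV hw htab, cv_sigS hw, cv, colVec_unit] at e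
  exact e

end CfsgLib.TwE6Five
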