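import Cfsg.Agent.Lib.TwE6Five.Defs

/-!
Kernel checks of the presentation of the alternating group.
-/

set_option autoImplicit false
set_option maxRecDepth 100000
set_option Elab.async false

namespace CfsgLib.TwE6Five

theorem alt_ok : altChk = true := by decide +kernel

theorem alt_one0 : altOne 0 = true := by decide +kernel

theorem alt_one1 : altOne 1 = true := by decide +kernel

theorem alt_one2 : altOne 2 = true := by decide +kernel

theorem alt_one3 : altOne 3 = true := by decide +kernel

theorem alt_one4 : altOne 4 = true := by decide +kernel

theorem alt_one5 : altOne 5 = true := by decide +kernel

theorem alt_pair01 : altPair 0 1 = true := by decide +kernel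

theorem alt_pair02 : altPair 0 2 = true := by decide +kernel

theorem alt_pair03 : altPair 0 3 = true := by decide +kernel

theorem alt_pair04 : altPair 0 4 = true := by decide +kernel

theorem alt_pair05 : altPair 0 5 = true := by decide +kernel

theorem alt_pair12 : altPair 1 2 = true := by decide +kernel

theorem alt_pair13 : altPair 1 3 = true := by decide +kernel

theorem alt_pair14 : altPair 1 4 = true := by decide +kernel

theorem alt_pair15 : altPair 1 5 = true := by decide +kernel

theorem alt_pair23 : altPair 2 3 = true := by decide +kernel

theorem alt_pair24 : altPair 2 4 = true := by decide +kernel

theorem alt_pair25 : altPair 2 5 = true := by decide +kernel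

theorem alt_pair34 : altPair 3 4 = true := by decide +kernel

theorem alt_pair35 : altPair 3 5 = true := by decide +kernel

theorem alt_pair45 : altPair 4 5 = true := by decide +kernel

end CfsgLib.TwE6Five
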