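import Cfsg.Agent.Lib.TwE6Five.Defs

/-!
Kernel checks of the fixed space and its rational algebra.
-/

set_option autoImplicit false
set_option maxRecDepth 100000
set_option Elab.async false

namespace CfsgLib.TwE6Five

theorem spanX_ok : spanXChk = true := by decide +kernel

theorem basis_ok : basisChk = true := by decide +kernel

theorem tbl_ok : tblChk = true := by decide +kernel

theorem quad_ok : quadChk = true := by decide +kernel

theorem other_ok : otherChk = true := by decide +kernel

end CfsgLib.TwE6Five
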