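import Cfsg.Agent.Lib.TwE6Five.Defs

/-!
Kernel checks of the relations between the words.
-/

set_option autoImplicit false
set_option maxRecDepth 100000
set_option Elab.async false

namespace CfsgLib.TwE6Five

theorem rel_ok : relChk = true := by decide +kernel

theorem conj_ok : conjChk = true := by decide +kernel

end CfsgLib.TwE6Five
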