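/-!
Tables for the adjoint module of type E6 modulo 2 and the sixteen standard generators of the twisted group.
-/

set_option autoImplicit false

namespace CfsgLib.TwE6Five

/-- generators as words of root letters -/
def gensData : List (List (Nat × Nat)) :=
  [[(46, 1)], [(25, 1)], [(39, 1)], [(32, 1)], [(56, 1), (36, 1)], [(56, 2), (36, 3)], [(15, 1), (35, 1)], [(15,
  2), (35, 3)], [(42, 1), (37, 1)], [(42, 2), (37, 3)], [(29, 1), (34, 1)], [(29, 2), (34, 3)], [(56, 3), (36,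
  2)], [(15, 3), (35, 2)], [(42, 3), (37, 2)], [(29, 3), (34, 2)]]

/-- the generators minus one, as sparse maps -/
def gensN : List (List (Nat × Nat × Nat)) :=
  [[(1, 0, 1), (11, 8, 1), (12, 9, 1), (13, 10, 1), (26, 19, 1), (27, 20, 1), (28, 21, 1), (30, 22, 1), (31, 23,
  1), (32, 24, 1), (46, 25, 1), (46, 75, 1), (47, 39, 1), (48, 40, 1), (49, 41, 1), (50, 43, 1), (51, 44, 1),
  (52, 45, 1), (61, 58, 1), (62, 59, 1), (63, 60, 1), (71, 70, 1), (73, 25, 1)], [(0, 1, 1), (8, 11, 1), (9, 12,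
  1), (10, 13, 1), (19, 26, 1), (20, 27, 1), (21, 28, 1), (22, 30, 1), (23, 31, 1), (24, 32, 1), (25, 46, 1),
  (25, 75, 1), (39, 47, 1), (40, 48, 1), (41, 49, 1), (43, 50, 1), (44, 51, 1), (45, 52, 1), (58, 61, 1), (59,
  62, 1), (60, 63, 1), (70, 71, 1), (73, 46, 1)], [(2, 1, 1), (8, 6, 1), (9, 7, 1), (14, 13, 1), (19, 17, 1),
  (20, 18, 1), (25, 24, 1), (29, 28, 1), (33, 30, 1), (34, 31, 1), (39, 32, 1), (39, 73, 1), (39, 74, 1), (39,
  76, 1), (40, 37, 1), (41, 38, 1), (43, 42, 1), (47, 46, 1), (53, 51, 1), (54, 52, 1), (58, 57, 1), (64, 62,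
  1), (65, 63, 1), (70, 69, 1), (75, 32, 1)], [(1, 2, 1), (6, 8, 1), (7, 9, 1), (13, 14, 1), (17, 19, 1), (18,
  20, 1), (24, 25, 1), (28, 29, 1), (30, 33, 1), (31, 34, 1), (32, 39, 1), (32, 73, 1), (32, 74, 1), (32, 76,
  1), (37, 40, 1), (38, 41, 1), (42, 43, 1), (46, 47, 1), (51, 53, 1), (52, 54, 1), (57, 58, 1), (62, 64, 1),
  (63, 65, 1), (69, 70, 1), (75, 39, 1)], [(4, 3, 1), (7, 6, 1), (9, 8, 1), (12, 11, 1), (16, 5, 1), (17, 6, 1),
  (18, 6, 1), (18, 7, 1), (18, 17, 1), (19, 8, 1), (20, 8, 1), (20, 9, 1), (20, 19, 1), (21, 10, 1), (23, 22,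
  1), (26, 11, 1), (27, 11, 1), (27, 12, 1), (27, 26, 1), (28, 13, 1), (29, 14, 1), (31, 30, 1), (34, 33, 1),
  (36, 35, 1), (36, 76, 1), (38, 37, 1), (41, 40, 1), (45, 44, 1), (49, 48, 1), (52, 51, 1), (54, 53, 1), (56,
  15, 1), (56, 74, 1), (57, 42, 1), (58, 43, 1), (59, 44, 1), (60, 44, 1), (60, 45, 1), (60, 59, 1), (61, 50,
  1), (62, 51, 1), (63, 51, 1), (63, 52, 1), (63, 62, 1), (64, 53, 1), (65, 53, 1), (65, 54, 1), (65, 64, 1),
  (66, 55, 1), (68, 67, 1), (72, 15, 1), (77, 35, 1)], [(4, 3, 3), (7, 6, 3), (9, 8, 3), (12, 11, 3), (16, 5,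
  2), (17, 6, 2), (18, 6, 1), (18, 7, 2), (18, 17, 3), (19, 8, 2), (20, 8, 1), (20, 9, 2), (20, 19, 3), (21, 10,
  2), (23, 22, 3), (26, 11, 2), (27, 11, 1), (27, 12, 2), (27, 26, 3), (28, 13, 2), (29, 14, 2), (31, 30, 3),
  (34, 33, 3), (36, 35, 2), (36, 76, 3), (38, 37, 3), (41, 40, 3), (45, 44, 3), (49, 48, 3), (52, 51, 3), (54,
  53, 3), (56, 15, 3), (56, 74, 2), (57, 42, 2), (58, 43, 2), (59, 44, 2), (60, 44, 1), (60, 45, 2), (60, 59,
  3), (61, 50, 2), (62, 51, 2), (63, 51, 1), (63, 52, 2), (63, 62, 3), (64, 53, 2), (65, 53, 1), (65, 54, 2),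
  (65, 64, 3), (66, 55, 2), (68, 67, 3), (72, 15, 2), (77, 35, 3)], [(3, 4, 1), (5, 16, 1), (6, 7, 1), (6, 17,
  1), (6, 18, 1), (7, 18, 1), (8, 9, 1), (8, 19, 1), (8, 20, 1), (9, 20, 1), (10, 21, 1), (11, 12, 1), (11, 26,
  1), (11, 27, 1), (12, 27, 1), (13, 28, 1), (14, 29, 1), (15, 56, 1), (15, 74, 1), (17, 18, 1), (19, 20, 1),
  (22, 23, 1), (26, 27, 1), (30, 31, 1), (33, 34, 1), (35, 36, 1), (35, 76, 1), (37, 38, 1), (40, 41, 1), (42,
  57, 1), (43, 58, 1), (44, 45, 1), (44, 59, 1), (44, 60, 1), (45, 60, 1), (48, 49, 1), (50, 61, 1), (51, 52,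
  1), (51, 62, 1), (51, 63, 1), (52, 63, 1), (53, 54, 1), (53, 64, 1), (53, 65, 1), (54, 65, 1), (55, 66, 1),
  (59, 60, 1), (62, 63, 1), (64, 65, 1), (67, 68, 1), (72, 56, 1), (77, 36, 1)], [(3, 4, 3), (5, 16, 2), (6, 7,
  3), (6, 17, 2), (6, 18, 1), (7, 18, 2), (8, 9, 3), (8, 19, 2), (8, 20, 1), (9, 20, 2), (10, 21, 2), (11, 12,
  3), (11, 26, 2), (11, 27, 1), (12, 27, 2), (13, 28, 2), (14, 29, 2), (15, 56, 3), (15, 74, 2), (17, 18, 3),
  (19, 20, 3), (22, 23, 3), (26, 27, 3), (30, 31, 3), (33, 34, 3), (35, 36, 2), (35, 76, 3), (37, 38, 3), (40,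
  41, 3), (42, 57, 2), (43, 58, 2), (44, 45, 3), (44, 59, 2), (44, 60, 1), (45, 60, 2), (48, 49, 3), (50, 61,
  2), (51, 52, 3), (51, 62, 2), (51, 63, 1), (52, 63, 2), (53, 54, 3), (53, 64, 2), (53, 65, 1), (54, 65, 2),
  (55, 66, 2), (59, 60, 3), (62, 63, 3), (64, 65, 3), (67, 68, 3), (72, 56, 2), (77, 36, 3)], [(3, 2, 1), (5, 2,
  1), (6, 2, 1), (6, 3, 1), (6, 5, 1), (7, 4, 1), (10, 9, 1), (13, 12, 1), (15, 14, 1), (17, 16, 1), (21, 20,
  1), (22, 19, 1), (23, 20, 1), (24, 20, 1), (24, 21, 1), (24, 23, 1), (28, 27, 1), (30, 26, 1), (31, 27, 1),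
  (32, 27, 1), (32, 28, 1), (32, 31, 1), (35, 33, 1), (37, 34, 1), (37, 75, 1), (37, 77, 1), (38, 36, 1), (40,
  39, 1), (42, 29, 1), (42, 72, 1), (42, 75, 1), (43, 39, 1), (44, 39, 1), (44, 40, 1), (44, 43, 1), (45, 41,
  1), (48, 47, 1), (50, 47, 1), (51, 47, 1), (51, 48, 1), (51, 50, 1), (52, 49, 1), (55, 54, 1), (57, 56, 1),
  (59, 58, 1), (62, 61, 1), (66, 65, 1), (67, 64, 1), (68, 65, 1), (69, 65, 1), (69, 66, 1), (69, 68, 1), (74,
  29, 1), (76, 34, 1)], [(3, 2, 3), (5, 2, 2), (6, 2, 1), (6, 3, 2), (6, 5, 3), (7, 4, 2), (10, 9, 3), (13, 12,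
  3), (15, 14, 2), (17, 16, 3), (21, 20, 3), (22, 19, 2), (23, 20, 2), (24, 20, 1), (24, 21, 2), (24, 23, 3),
  (28, 27, 3), (30, 26, 2), (31, 27, 2), (32, 27, 1), (32, 28, 2), (32, 31, 3), (35, 33, 3), (37, 34, 2), (37,
  75, 3), (37, 77, 3), (38, 36, 3), (40, 39, 3), (42, 29, 3), (42, 72, 2), (42, 75, 2), (43, 39, 2), (44, 39,
  1), (44, 40, 2), (44, 43, 3), (45, 41, 2), (48, 47, 3), (50, 47, 2), (51, 47, 1), (51, 48, 2), (51, 50, 3),
  (52, 49, 2), (55, 54, 3), (57, 56, 2), (59, 58, 3), (62, 61, 3), (66, 65, 3), (67, 64, 2), (68, 65, 2), (69,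
  65, 1), (69, 66, 2), (69, 68, 3), (74, 29, 2), (76, 34, 3)], [(2, 3, 1), (2, 5, 1), (2, 6, 1), (3, 6, 1), (4,
  7, 1), (5, 6, 1), (9, 10, 1), (12, 13, 1), (14, 15, 1), (16, 17, 1), (19, 22, 1), (20, 21, 1), (20, 23, 1),
  (20, 24, 1), (21, 24, 1), (23, 24, 1), (26, 30, 1), (27, 28, 1), (27, 31, 1), (27, 32, 1), (28, 32, 1), (29,
  42, 1), (29, 72, 1), (29, 75, 1), (31, 32, 1), (33, 35, 1), (34, 37, 1), (34, 75, 1), (34, 77, 1), (36, 38,
  1), (39, 40, 1), (39, 43, 1), (39, 44, 1), (40, 44, 1), (41, 45, 1), (43, 44, 1), (47, 48, 1), (47, 50, 1),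
  (47, 51, 1), (48, 51, 1), (49, 52, 1), (50, 51, 1), (54, 55, 1), (56, 57, 1), (58, 59, 1), (61, 62, 1), (64,
  67, 1), (65, 66, 1), (65, 68, 1), (65, 69, 1), (66, 69, 1), (68, 69, 1), (74, 42, 1), (76, 37, 1)], [(2, 3,
  3), (2, 5, 2), (2, 6, 1), (3, 6, 2), (4, 7, 2), (5, 6, 3), (9, 10, 3), (12, 13, 3), (14, 15, 2), (16, 17, 3),
  (19, 22, 2), (20, 21, 3), (20, 23, 2), (20, 24, 1), (21, 24, 2), (23, 24, 3), (26, 30, 2), (27, 28, 3), (27,
  31, 2), (27, 32, 1), (28, 32, 2), (29, 42, 3), (29, 72, 2), (29, 75, 2), (31, 32, 3), (33, 35, 3), (34, 37,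
  2), (34, 75, 3), (34, 77, 3), (36, 38, 3), (39, 40, 3), (39, 43, 2), (39, 44, 1), (40, 44, 2), (41, 45, 2),
  (43, 44, 3), (47, 48, 3), (47, 50, 2), (47, 51, 1), (48, 51, 2), (49, 52, 2), (50, 51, 3), (54, 55, 3), (56,
  57, 2), (58, 59, 3), (61, 62, 3), (64, 67, 2), (65, 66, 3), (65, 68, 2), (65, 69, 1), (66, 69, 2), (68, 69,
  3), (74, 42, 2), (76, 37, 3)], [(4, 3, 2), (7, 6, 2), (9, 8, 2), (12, 11, 2), (16, 5, 3), (17, 6, 3), (18, 6,
  1), (18, 7, 3), (18, 17, 2), (19, 8, 3), (20, 8, 1), (20, 9, 3), (20, 19, 2), (21, 10, 3), (23, 22, 2), (26,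
  11, 3), (27, 11, 1), (27, 12, 3), (27, 26, 2), (28, 13, 3), (29, 14, 3), (31, 30, 2), (34, 33, 2), (36, 35,
  3), (36, 76, 2), (38, 37, 2), (41, 40, 2), (45, 44, 2), (49, 48, 2), (52, 51, 2), (54, 53, 2), (56, 15, 2),
  (56, 74, 3), (57, 42, 3), (58, 43, 3), (59, 44, 3), (60, 44, 1), (60, 45, 3), (60, 59, 2), (61, 50, 3), (62,
  51, 3), (63, 51, 1), (63, 52, 3), (63, 62, 2), (64, 53, 3), (65, 53, 1), (65, 54, 3), (65, 64, 2), (66, 55,
  3), (68, 67, 2), (72, 15, 3), (77, 35, 2)], [(3, 4, 2), (5, 16, 3), (6, 7, 2), (6, 17, 3), (6, 18, 1), (7, 18,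
  3), (8, 9, 2), (8, 19, 3), (8, 20, 1), (9, 20, 3), (10, 21, 3), (11, 12, 2), (11, 26, 3), (11, 27, 1), (12,
  27, 3), (13, 28, 3), (14, 29, 3), (15, 56, 2), (15, 74, 3), (17, 18, 2), (19, 20, 2), (22, 23, 2), (26, 27,
  2), (30, 31, 2), (33, 34, 2), (35, 36, 3), (35, 76, 2), (37, 38, 2), (40, 41, 2), (42, 57, 3), (43, 58, 3),
  (44, 45, 2), (44, 59, 3), (44, 60, 1), (45, 60, 3), (48, 49, 2), (50, 61, 3), (51, 52, 2), (51, 62, 3), (51,
  63, 1), (52, 63, 3), (53, 54, 2), (53, 64, 3), (53, 65, 1), (54, 65, 3), (55, 66, 3), (59, 60, 2), (62, 63,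
  2), (64, 65, 2), (67, 68, 2), (72, 56, 3), (77, 36, 2)], [(3, 2, 2), (5, 2, 3), (6, 2, 1), (6, 3, 3), (6, 5,
  2), (7, 4, 3), (10, 9, 2), (13, 12, 2), (15, 14, 3), (17, 16, 2), (21, 20, 2), (22, 19, 3), (23, 20, 3), (24,
  20, 1), (24, 21, 3), (24, 23, 2), (28, 27, 2), (30, 26, 3), (31, 27, 3), (32, 27, 1), (32, 28, 3), (32, 31,
  2), (35, 33, 2), (37, 34, 3), (37, 75, 2), (37, 77, 2), (38, 36, 2), (40, 39, 2), (42, 29, 2), (42, 72, 3),
  (42, 75, 3), (43, 39, 3), (44, 39, 1), (44, 40, 3), (44, 43, 2), (45, 41, 3), (48, 47, 2), (50, 47, 3), (51,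
  47, 1), (51, 48, 3), (51, 50, 2), (52, 49, 3), (55, 54, 2), (57, 56, 3), (59, 58, 2), (62, 61, 2), (66, 65,
  2), (67, 64, 3), (68, 65, 3), (69, 65, 1), (69, 66, 3), (69, 68, 2), (74, 29, 3), (76, 34, 2)], [(2, 3, 2),
  (2, 5, 3), (2, 6, 1), (3, 6, 3), (4, 7, 3), (5, 6, 2), (9, 10, 2), (12, 13, 2), (14, 15, 3), (16, 17, 2), (19,
  22, 3), (20, 21, 2), (20, 23, 3), (20, 24, 1), (21, 24, 3), (23, 24, 2), (26, 30, 3), (27, 28, 2), (27, 31,
  3), (27, 32, 1), (28, 32, 3), (29, 42, 2), (29, 72, 3), (29, 75, 3), (31, 32, 2), (33, 35, 2), (34, 37, 3),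
  (34, 75, 2), (34, 77, 2), (36, 38, 2), (39, 40, 2), (39, 43, 3), (39, 44, 1), (40, 44, 3), (41, 45, 3), (43,
  44, 2), (47, 48, 2), (47, 50, 3), (47, 51, 1), (48, 51, 3), (49, 52, 3), (50, 51, 2), (54, 55, 2), (56, 57,
  3), (58, 59, 2), (61, 62, 2), (64, 67, 3), (65, 66, 2), (65, 68, 3), (65, 69, 1), (66, 69, 3), (68, 69, 2),
  (74, 42, 3), (76, 37, 2)]]

/-- the odd entries of the adjoint maps of the coordinates -/
def adT : List (List (Nat × Nat)) :=
  [[(0, 73), (1, 46), (2, 47), (3, 48), (4, 49), (5, 50), (6, 51), (7, 52), (8, 53), (9, 54), (10, 55), (16,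
  61), (17, 62), (18, 63), (19, 64), (20, 65), (21, 66), (22, 67), (23, 68), (24, 69), (25, 70), (72, 71), (75,
  71), (77, 71)], [(0, 25), (1, 73), (1, 75), (2, 39), (3, 40), (4, 41), (5, 43), (6, 44), (7, 45), (11, 53),
  (12, 54), (13, 55), (16, 58), (17, 59), (18, 60), (26, 64), (27, 65), (28, 66), (30, 67), (31, 68), (32, 69),
  (46, 71), (72, 70), (73, 70), (75, 70), (77, 70)], [(0, 24), (1, 32), (2, 74), (2, 75), (2, 76), (3, 37), (4,
  38), (5, 42), (8, 44), (9, 45), (11, 51), (12, 52), (14, 55), (16, 57), (19, 59), (20, 60), (26, 62), (27,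
  63), (29, 66), (33, 67), (34, 68), (39, 70), (47, 71), (72, 69), (73, 69), (77, 69)], [(0, 23), (1, 31), (2,
  34), (3, 74), (3, 76), (3, 77), (4, 36), (6, 42), (8, 43), (10, 45), (11, 50), (13, 52), (14, 54), (17, 57),
  (19, 58), (21, 60), (26, 61), (28, 63), (29, 65), (35, 67), (37, 69), (40, 70), (48, 71), (72, 68), (73, 68),
  (76, 68), (77, 68)], [(0, 22), (1, 30), (2, 33), (3, 35), (4, 74), (4, 77), (7, 42), (9, 43), (10, 44), (12,
  50), (13, 51), (14, 53), (18, 57), (20, 58), (21, 59), (27, 61), (28, 62), (29, 64), (36, 68), (38, 69), (41,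
  70), (49, 71), (72, 67), (73, 67), (76, 67)], [(0, 21), (1, 28), (2, 29), (5, 72), (5, 74), (5, 76), (6, 37),
  (7, 38), (8, 40), (9, 41), (11, 48), (12, 49), (15, 55), (16, 56), (22, 59), (23, 60), (30, 62), (31, 63),
  (33, 64), (34, 65), (42, 69), (43, 70), (50, 71), (72, 66), (73, 66), (74, 66), (77, 66)], [(0, 20), (1, 27),
  (3, 29), (5, 34), (6, 72), (6, 74), (6, 75), (6, 76), (6, 77), (7, 36), (8, 39), (10, 41), (11, 47), (13, 49),
  (15, 54), (17, 56), (22, 58), (24, 60), (30, 61), (32, 63), (35, 64), (37, 66), (42, 68), (44, 70), (51, 71),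
  (72, 65), (73, 65), (74, 65), (76, 65), (77, 65)], [(0, 19), (1, 26), (4, 29), (5, 33), (6, 35), (7, 72), (7,
  74), (7, 75), (7, 77), (9, 39), (10, 40), (12, 47), (13, 48), (15, 53), (18, 56), (23, 58), (24, 59), (31,
  61), (32, 62), (36, 65), (38, 66), (42, 67), (45, 70), (52, 71), (72, 64), (73, 64), (74, 64), (76, 64)], [(0,
  18), (2, 27), (3, 28), (5, 31), (6, 32), (8, 72), (8, 73), (8, 75), (8, 77), (9, 36), (10, 38), (11, 46), (14,
  49), (15, 52), (19, 56), (22, 57), (25, 60), (33, 61), (35, 62), (39, 65), (40, 66), (43, 68), (44, 69), (53,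
  71), (72, 63), (73, 63), (74, 63), (75, 63), (76, 63), (77, 63)], [(0, 17), (2, 26), (4, 28), (5, 30), (7,
  32), (8, 35), (9, 72), (9, 73), (9, 75), (9, 76), (9, 77), (10, 37), (12, 46), (14, 48), (15, 51), (20, 56),
  (23, 57), (25, 59), (34, 61), (36, 63), (39, 64), (41, 66), (43, 67), (45, 69), (54, 71), (72, 62), (73, 62),
  (74, 62), (75, 62), (76, 62)], [(0, 16), (3, 26), (4, 27), (6, 30), (7, 31), (8, 33), (9, 34), (10, 72), (10,
  73), (10, 76), (13, 46), (14, 47), (15, 50), (21, 56), (24, 57), (25, 58), (37, 62), (38, 63), (40, 64), (41,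
  65), (44, 67), (45, 68), (55, 71), (72, 61), (73, 61), (74, 61), (75, 61)], [(1, 18), (2, 20), (3, 21), (5,
  23), (6, 24), (8, 25), (11, 72), (11, 73), (11, 77), (12, 36), (13, 38), (14, 41), (15, 45), (26, 56), (30,
  57), (33, 58), (35, 59), (46, 63), (47, 65), (48, 66), (50, 68), (51, 69), (53, 70), (72, 60), (74, 60), (75,
  60), (76, 60), (77, 60)], [(1, 17), (2, 19), (4, 21), (5, 22), (7, 24), (9, 25), (11, 35), (12, 72), (12, 73),
  (12, 76), (12, 77), (13, 37), (14, 40), (15, 44), (27, 56), (31, 57), (34, 58), (36, 60), (46, 62), (47, 64),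
  (49, 66), (50, 67), (52, 69), (54, 70), (72, 59), (74, 59), (75, 59), (76, 59)], [(1, 16), (3, 19), (4, 20),
  (6, 22), (7, 23), (10, 25), (11, 33), (12, 34), (13, 72), (13, 73), (13, 75), (13, 76), (14, 39), (15, 43),
  (28, 56), (32, 57), (37, 59), (38, 60), (46, 61), (48, 64), (49, 65), (51, 67), (52, 68), (55, 70), (72, 58),
  (74, 58), (75, 58)], [(2, 16), (3, 17), (4, 18), (8, 22), (9, 23), (10, 24), (11, 30), (12, 31), (13, 32),
  (14, 72), (14, 74), (14, 75), (15, 42), (29, 56), (39, 58), (40, 59), (41, 60), (47, 61), (48, 62), (49, 63),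
  (53, 67), (54, 68), (55, 69), (72, 57), (74, 57)], [(5, 16), (6, 17), (7, 18), (8, 19), (9, 20), (10, 21),
  (11, 26), (12, 27), (13, 28), (14, 29), (15, 74), (42, 57), (43, 58), (44, 59), (45, 60), (50, 61), (51, 62),
  (52, 63), (53, 64), (54, 65), (55, 66), (72, 56)], [(0, 10), (1, 13), (2, 14), (5, 15), (16, 72), (16, 76),
  (17, 37), (18, 38), (19, 40), (20, 41), (22, 44), (23, 45), (26, 48), (27, 49), (30, 51), (31, 52), (33, 53),
  (34, 54), (56, 66), (57, 69), (58, 70), (61, 71), (73, 55), (74, 55), (77, 55)], [(0, 9), (1, 12), (3, 14),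
  (6, 15), (16, 34), (17, 72), (17, 75), (17, 76), (17, 77), (18, 36), (19, 39), (21, 41), (22, 43), (24, 45),
  (26, 47), (28, 49), (30, 50), (32, 52), (35, 53), (37, 55), (56, 65), (57, 68), (59, 70), (62, 71), (73, 54),
  (74, 54), (76, 54), (77, 54)], [(0, 8), (1, 11), (4, 14), (7, 15), (16, 33), (17, 35), (18, 72), (18, 75),
  (18, 77), (20, 39), (21, 40), (23, 43), (24, 44), (27, 47), (28, 48), (31, 50), (32, 51), (36, 54), (38, 55),
  (56, 64), (57, 67), (60, 70), (63, 71), (73, 53), (74, 53), (76, 53)], [(0, 7), (2, 12), (3, 13), (8, 15),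
  (16, 31), (17, 32), (19, 72), (19, 73), (19, 74), (19, 75), (19, 77), (20, 36), (21, 38), (22, 42), (25, 45),
  (26, 46), (29, 49), (33, 50), (35, 51), (39, 54), (40, 55), (56, 63), (58, 68), (59, 69), (64, 71), (73, 52),
  (74, 52), (75, 52), (76, 52), (77, 52)], [(0, 6), (2, 11), (4, 13), (9, 15), (16, 30), (18, 32), (19, 35),
  (20, 72), (20, 73), (20, 74), (20, 75), (20, 76), (20, 77), (21, 37), (23, 42), (25, 44), (27, 46), (29, 48),
  (34, 50), (36, 52), (39, 53), (41, 55), (56, 62), (58, 67), (60, 69), (65, 71), (73, 51), (74, 51), (75, 51),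
  (76, 51)], [(0, 5), (3, 11), (4, 12), (10, 15), (17, 30), (18, 31), (19, 33), (20, 34), (21, 72), (21, 73),
  (21, 74), (21, 76), (24, 42), (25, 43), (28, 46), (29, 47), (37, 51), (38, 52), (40, 53), (41, 54), (56, 61),
  (59, 67), (60, 68), (66, 71), (73, 50), (74, 50), (75, 50)], [(0, 4), (5, 12), (6, 13), (8, 14), (16, 27),
  (17, 28), (19, 29), (22, 73), (22, 74), (22, 77), (23, 36), (24, 38), (25, 41), (30, 46), (33, 47), (35, 48),
  (42, 52), (43, 54), (44, 55), (57, 63), (58, 65), (59, 66), (67, 71), (73, 49), (75, 49), (76, 49), (77, 49)],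
  [(0, 3), (5, 11), (7, 13), (9, 14), (16, 26), (18, 28), (20, 29), (22, 35), (23, 73), (23, 74), (23, 76), (23,
  77), (24, 37), (25, 40), (31, 46), (34, 47), (36, 49), (42, 51), (43, 53), (45, 55), (57, 62), (58, 64), (60,
  66), (68, 71), (73, 48), (75, 48), (76, 48)], [(0, 2), (6, 11), (7, 12), (10, 14), (17, 26), (18, 27), (21,
  29), (22, 33), (23, 34), (24, 73), (24, 74), (24, 75), (24, 76), (25, 39), (32, 46), (37, 48), (38, 49), (42,
  50), (44, 53), (45, 54), (57, 61), (59, 64), (60, 65), (69, 71), (73, 47), (75, 47)], [(0, 1), (8, 11), (9,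
  12), (10, 13), (19, 26), (20, 27), (21, 28), (22, 30), (23, 31), (24, 32), (25, 75), (39, 47), (40, 48), (41,
  49), (43, 50), (44, 51), (45, 52), (58, 61), (59, 62), (60, 63), (70, 71), (73, 46)], [(1, 7), (2, 9), (3,
  10), (11, 15), (16, 23), (17, 24), (19, 25), (26, 72), (26, 73), (26, 74), (26, 77), (27, 36), (28, 38), (29,
  41), (30, 42), (33, 43), (35, 44), (46, 52), (47, 54), (48, 55), (56, 60), (61, 68), (62, 69), (64, 70), (74,
  45), (75, 45), (76, 45), (77, 45)], [(1, 6), (2, 8), (4, 10), (12, 15), (16, 22), (18, 24), (20, 25), (26,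
  35), (27, 72), (27, 73), (27, 74), (27, 76), (27, 77), (28, 37), (29, 40), (31, 42), (34, 43), (36, 45), (46,
  51), (47, 53), (49, 55), (56, 59), (61, 67), (63, 69), (65, 70), (74, 44), (75, 44), (76, 44)], [(1, 5), (3,
  8), (4, 9), (13, 15), (17, 22), (18, 23), (21, 25), (26, 33), (27, 34), (28, 72), (28, 73), (28, 74), (28,
  75), (28, 76), (29, 39), (32, 42), (37, 44), (38, 45), (46, 50), (48, 53), (49, 54), (56, 58), (62, 67), (63,
  68), (66, 70), (74, 43), (75, 43)], [(2, 5), (3, 6), (4, 7), (14, 15), (19, 22), (20, 23), (21, 24), (26, 30),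
  (27, 31), (28, 32), (29, 72), (29, 75), (39, 43), (40, 44), (41, 45), (47, 50), (48, 51), (49, 52), (56, 57),
  (64, 67), (65, 68), (66, 69), (74, 42)], [(1, 4), (5, 9), (6, 10), (11, 14), (16, 20), (17, 21), (22, 25),
  (26, 29), (30, 73), (30, 74), (30, 75), (30, 77), (31, 36), (32, 38), (33, 39), (35, 40), (42, 45), (46, 49),
  (50, 54), (51, 55), (57, 60), (61, 65), (62, 66), (67, 70), (75, 41), (76, 41), (77, 41)], [(1, 3), (5, 8),
  (7, 10), (12, 14), (16, 19), (18, 21), (23, 25), (27, 29), (30, 35), (31, 73), (31, 74), (31, 75), (31, 76),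
  (31, 77), (32, 37), (34, 39), (36, 41), (42, 44), (46, 48), (50, 53), (52, 55), (57, 59), (61, 64), (63, 66),
  (68, 70), (75, 40), (76, 40)], [(1, 2), (6, 8), (7, 9), (13, 14), (17, 19), (18, 20), (24, 25), (28, 29), (30,
  33), (31, 34), (32, 73), (32, 74), (32, 76), (37, 40), (38, 41), (42, 43), (46, 47), (51, 53), (52, 54), (57,
  58), (62, 64), (63, 65), (69, 70), (75, 39)], [(2, 4), (5, 7), (8, 10), (11, 13), (16, 18), (19, 21), (22,
  24), (26, 28), (30, 32), (33, 75), (33, 76), (33, 77), (34, 36), (35, 37), (39, 41), (43, 45), (47, 49), (50,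
  52), (53, 55), (58, 60), (61, 63), (64, 66), (67, 69), (76, 38), (77, 38)], [(2, 3), (5, 6), (9, 10), (12,
  13), (16, 17), (20, 21), (23, 24), (27, 28), (31, 32), (33, 35), (34, 75), (34, 77), (36, 38), (39, 40), (43,
  44), (47, 48), (50, 51), (54, 55), (58, 59), (61, 62), (65, 66), (68, 69), (76, 37)], [(3, 4), (6, 7), (8, 9),
  (11, 12), (17, 18), (19, 20), (22, 23), (26, 27), (30, 31), (33, 34), (35, 76), (37, 38), (40, 41), (44, 45),
  (48, 49), (51, 52), (53, 54), (59, 60), (62, 63), (64, 65), (67, 68), (77, 36)], [(4, 3), (7, 6), (9, 8), (12,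
  11), (18, 17), (20, 19), (23, 22), (27, 26), (31, 30), (34, 33), (36, 76), (38, 37), (41, 40), (45, 44), (49,
  48), (52, 51), (54, 53), (60, 59), (63, 62), (65, 64), (68, 67), (77, 35)], [(3, 2), (6, 5), (10, 9), (13,
  12), (17, 16), (21, 20), (24, 23), (28, 27), (32, 31), (35, 33), (37, 75), (37, 77), (38, 36), (40, 39), (44,
  43), (48, 47), (51, 50), (55, 54), (59, 58), (62, 61), (66, 65), (69, 68), (76, 34)], [(4, 2), (7, 5), (10,
  8), (13, 11), (18, 16), (21, 19), (24, 22), (28, 26), (32, 30), (36, 34), (37, 35), (38, 75), (38, 76), (38,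
  77), (41, 39), (45, 43), (49, 47), (52, 50), (55, 53), (60, 58), (63, 61), (66, 64), (69, 67), (76, 33), (77,
  33)], [(2, 1), (8, 6), (9, 7), (14, 13), (19, 17), (20, 18), (25, 24), (29, 28), (33, 30), (34, 31), (39, 73),
  (39, 74), (39, 76), (40, 37), (41, 38), (43, 42), (47, 46), (53, 51), (54, 52), (58, 57), (64, 62), (65, 63),
  (70, 69), (75, 32)], [(3, 1), (8, 5), (10, 7), (14, 12), (19, 16), (21, 18), (25, 23), (29, 27), (35, 30),
  (37, 32), (39, 34), (40, 73), (40, 74), (40, 75), (40, 76), (40, 77), (41, 36), (44, 42), (48, 46), (53, 50),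
  (55, 52), (59, 57), (64, 61), (66, 63), (70, 68), (75, 31), (76, 31)], [(4, 1), (9, 5), (10, 6), (14, 11),
  (20, 16), (21, 17), (25, 22), (29, 26), (36, 31), (38, 32), (39, 33), (40, 35), (41, 73), (41, 74), (41, 75),
  (41, 77), (45, 42), (49, 46), (54, 50), (55, 51), (60, 57), (65, 61), (66, 62), (70, 67), (75, 30), (76, 30),
  (77, 30)], [(5, 2), (6, 3), (7, 4), (15, 14), (22, 19), (23, 20), (24, 21), (30, 26), (31, 27), (32, 28), (42,
  72), (42, 75), (43, 39), (44, 40), (45, 41), (50, 47), (51, 48), (52, 49), (57, 56), (67, 64), (68, 65), (69,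
  66), (74, 29)], [(5, 1), (8, 3), (9, 4), (15, 13), (22, 17), (23, 18), (25, 21), (33, 26), (34, 27), (39, 29),
  (42, 32), (43, 72), (43, 73), (43, 74), (43, 75), (43, 76), (44, 37), (45, 38), (50, 46), (53, 48), (54, 49),
  (58, 56), (67, 62), (68, 63), (70, 66), (74, 28), (75, 28)], [(6, 1), (8, 2), (10, 4), (15, 12), (22, 16),
  (24, 18), (25, 20), (35, 26), (37, 28), (40, 29), (42, 31), (43, 34), (44, 72), (44, 73), (44, 74), (44, 76),
  (44, 77), (45, 36), (51, 46), (53, 47), (55, 49), (59, 56), (67, 61), (69, 63), (70, 65), (74, 27), (75, 27),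
  (76, 27)], [(7, 1), (9, 2), (10, 3), (15, 11), (23, 16), (24, 17), (25, 19), (36, 27), (38, 28), (41, 29),
  (42, 30), (43, 33), (44, 35), (45, 72), (45, 73), (45, 74), (45, 77), (52, 46), (54, 47), (55, 48), (60, 56),
  (68, 61), (69, 62), (70, 64), (74, 26), (75, 26), (76, 26), (77, 26)], [(1, 0), (11, 8), (12, 9), (13, 10),
  (26, 19), (27, 20), (28, 21), (30, 22), (31, 23), (32, 24), (46, 75), (47, 39), (48, 40), (49, 41), (50, 43),
  (51, 44), (52, 45), (61, 58), (62, 59), (63, 60), (71, 70), (73, 25)], [(2, 0), (11, 6), (12, 7), (14, 10),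
  (26, 17), (27, 18), (29, 21), (33, 22), (34, 23), (39, 25), (46, 32), (47, 73), (47, 74), (47, 75), (47, 76),
  (48, 37), (49, 38), (50, 42), (53, 44), (54, 45), (61, 57), (64, 59), (65, 60), (71, 69), (73, 24), (75, 24)],
  [(3, 0), (11, 5), (13, 7), (14, 9), (26, 16), (28, 18), (29, 20), (35, 22), (37, 24), (40, 25), (46, 31), (47,
  34), (48, 73), (48, 74), (48, 76), (48, 77), (49, 36), (51, 42), (53, 43), (55, 45), (62, 57), (64, 58), (66,
  60), (71, 68), (73, 23), (75, 23), (76, 23)], [(4, 0), (12, 5), (13, 6), (14, 8), (27, 16), (28, 17), (29,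
  19), (36, 23), (38, 24), (41, 25), (46, 30), (47, 33), (48, 35), (49, 73), (49, 74), (49, 77), (52, 42), (54,
  43), (55, 44), (63, 57), (65, 58), (66, 59), (71, 67), (73, 22), (75, 22), (76, 22), (77, 22)], [(5, 0), (11,
  3), (12, 4), (15, 10), (30, 17), (31, 18), (33, 19), (34, 20), (42, 24), (43, 25), (46, 28), (47, 29), (50,
  72), (50, 73), (50, 74), (50, 76), (51, 37), (52, 38), (53, 40), (54, 41), (61, 56), (67, 59), (68, 60), (71,
  66), (73, 21), (74, 21), (75, 21)], [(6, 0), (11, 2), (13, 4), (15, 9), (30, 16), (32, 18), (35, 19), (37,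
  21), (42, 23), (44, 25), (46, 27), (48, 29), (50, 34), (51, 72), (51, 73), (51, 74), (51, 75), (51, 76), (51,
  77), (52, 36), (53, 39), (55, 41), (62, 56), (67, 58), (69, 60), (71, 65), (73, 20), (74, 20), (75, 20), (76,
  20)], [(7, 0), (12, 2), (13, 3), (15, 8), (31, 16), (32, 17), (36, 20), (38, 21), (42, 22), (45, 25), (46,
  26), (49, 29), (50, 33), (51, 35), (52, 72), (52, 73), (52, 74), (52, 75), (52, 77), (54, 39), (55, 40), (63,
  56), (68, 58), (69, 59), (71, 64), (73, 19), (74, 19), (75, 19), (76, 19), (77, 19)], [(8, 0), (11, 1), (14,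
  4), (15, 7), (33, 16), (35, 17), (39, 20), (40, 21), (43, 23), (44, 24), (47, 27), (48, 28), (50, 31), (51,
  32), (53, 72), (53, 75), (53, 77), (54, 36), (55, 38), (64, 56), (67, 57), (70, 60), (71, 63), (73, 18), (74,
  18), (76, 18)], [(9, 0), (12, 1), (14, 3), (15, 6), (34, 16), (36, 18), (39, 19), (41, 21), (43, 22), (45,
  24), (47, 26), (49, 28), (50, 30), (52, 32), (53, 35), (54, 72), (54, 75), (54, 76), (54, 77), (55, 37), (65,
  56), (68, 57), (70, 59), (71, 62), (73, 17), (74, 17), (76, 17), (77, 17)], [(10, 0), (13, 1), (14, 2), (15,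
  5), (37, 17), (38, 18), (40, 19), (41, 20), (44, 22), (45, 23), (48, 26), (49, 27), (51, 30), (52, 31), (53,
  33), (54, 34), (55, 72), (55, 76), (66, 56), (69, 57), (70, 58), (71, 61), (73, 16), (74, 16), (77, 16)],
  [(16, 5), (17, 6), (18, 7), (19, 8), (20, 9), (21, 10), (26, 11), (27, 12), (28, 13), (29, 14), (56, 74), (57,
  42), (58, 43), (59, 44), (60, 45), (61, 50), (62, 51), (63, 52), (64, 53), (65, 54), (66, 55), (72, 15)],
  [(16, 2), (17, 3), (18, 4), (22, 8), (23, 9), (24, 10), (30, 11), (31, 12), (32, 13), (42, 15), (56, 29), (57,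
  72), (57, 74), (57, 75), (58, 39), (59, 40), (60, 41), (61, 47), (62, 48), (63, 49), (67, 53), (68, 54), (69,
  55), (72, 14), (74, 14)], [(16, 1), (19, 3), (20, 4), (22, 6), (23, 7), (25, 10), (33, 11), (34, 12), (39,
  14), (43, 15), (56, 28), (57, 32), (58, 72), (58, 73), (58, 75), (58, 76), (59, 37), (60, 38), (61, 46), (64,
  48), (65, 49), (67, 51), (68, 52), (70, 55), (72, 13), (74, 13), (75, 13)], [(17, 1), (19, 2), (21, 4), (22,
  5), (24, 7), (25, 9), (35, 11), (37, 13), (40, 14), (44, 15), (56, 27), (57, 31), (58, 34), (59, 72), (59,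
  73), (59, 76), (59, 77), (60, 36), (62, 46), (64, 47), (66, 49), (67, 50), (69, 52), (70, 54), (72, 12), (74,
  12), (75, 12), (76, 12)], [(18, 1), (20, 2), (21, 3), (23, 5), (24, 6), (25, 8), (36, 12), (38, 13), (41, 14),
  (45, 15), (56, 26), (57, 30), (58, 33), (59, 35), (60, 72), (60, 73), (60, 77), (63, 46), (65, 47), (66, 48),
  (68, 50), (69, 51), (70, 53), (72, 11), (74, 11), (75, 11), (76, 11), (77, 11)], [(16, 0), (26, 3), (27, 4),
  (30, 6), (31, 7), (33, 8), (34, 9), (46, 13), (47, 14), (50, 15), (56, 21), (57, 24), (58, 25), (61, 72), (61,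
  73), (61, 76), (62, 37), (63, 38), (64, 40), (65, 41), (67, 44), (68, 45), (71, 55), (72, 10), (73, 10), (74,
  10), (75, 10)], [(17, 0), (26, 2), (28, 4), (30, 5), (32, 7), (35, 8), (37, 10), (46, 12), (48, 14), (51, 15),
  (56, 20), (57, 23), (59, 25), (61, 34), (62, 72), (62, 73), (62, 75), (62, 76), (62, 77), (63, 36), (64, 39),
  (66, 41), (67, 43), (69, 45), (71, 54), (72, 9), (73, 9), (74, 9), (75, 9), (76, 9)], [(18, 0), (27, 2), (28,
  3), (31, 5), (32, 6), (36, 9), (38, 10), (46, 11), (49, 14), (52, 15), (56, 19), (57, 22), (60, 25), (61, 33),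
  (62, 35), (63, 72), (63, 73), (63, 75), (63, 77), (65, 39), (66, 40), (68, 43), (69, 44), (71, 53), (72, 8),
  (73, 8), (74, 8), (75, 8), (76, 8), (77, 8)], [(19, 0), (26, 1), (29, 4), (33, 5), (35, 6), (39, 9), (40, 10),
  (47, 12), (48, 13), (53, 15), (56, 18), (58, 23), (59, 24), (61, 31), (62, 32), (64, 72), (64, 74), (64, 75),
  (64, 77), (65, 36), (66, 38), (67, 42), (70, 45), (71, 52), (72, 7), (73, 7), (74, 7), (76, 7)], [(20, 0),
  (27, 1), (29, 3), (34, 5), (36, 7), (39, 8), (41, 10), (47, 11), (49, 13), (54, 15), (56, 17), (58, 22), (60,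
  24), (61, 30), (63, 32), (64, 35), (65, 72), (65, 74), (65, 75), (65, 76), (65, 77), (66, 37), (68, 42), (70,
  44), (71, 51), (72, 6), (73, 6), (74, 6), (76, 6), (77, 6)], [(21, 0), (28, 1), (29, 2), (37, 6), (38, 7),
  (40, 8), (41, 9), (48, 11), (49, 12), (55, 15), (56, 16), (59, 22), (60, 23), (62, 30), (63, 31), (64, 33),
  (65, 34), (66, 72), (66, 74), (66, 76), (69, 42), (70, 43), (71, 50), (72, 5), (73, 5), (74, 5), (77, 5)],
  [(22, 0), (30, 1), (33, 2), (35, 3), (42, 7), (43, 9), (44, 10), (50, 12), (51, 13), (53, 14), (57, 18), (58,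
  20), (59, 21), (61, 27), (62, 28), (64, 29), (67, 74), (67, 77), (68, 36), (69, 38), (70, 41), (71, 49), (72,
  4), (73, 4), (76, 4)], [(23, 0), (31, 1), (34, 2), (36, 4), (42, 6), (43, 8), (45, 10), (50, 11), (52, 13),
  (54, 14), (57, 17), (58, 19), (60, 21), (61, 26), (63, 28), (65, 29), (67, 35), (68, 74), (68, 76), (68, 77),
  (69, 37), (70, 40), (71, 48), (72, 3), (73, 3), (76, 3), (77, 3)], [(24, 0), (32, 1), (37, 3), (38, 4), (42,
  5), (44, 8), (45, 9), (51, 11), (52, 12), (55, 14), (57, 16), (59, 19), (60, 20), (62, 26), (63, 27), (66,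
  29), (67, 33), (68, 34), (69, 74), (69, 75), (69, 76), (70, 39), (71, 47), (72, 2), (73, 2), (77, 2)], [(25,
  0), (39, 2), (40, 3), (41, 4), (43, 5), (44, 6), (45, 7), (53, 11), (54, 12), (55, 13), (58, 16), (59, 17),
  (60, 18), (64, 26), (65, 27), (66, 28), (67, 30), (68, 31), (69, 32), (70, 73), (70, 75), (71, 46), (72, 1),
  (73, 1), (75, 1), (77, 1)], [(46, 1), (47, 2), (48, 3), (49, 4), (50, 5), (51, 6), (52, 7), (53, 8), (54, 9),
  (55, 10), (61, 16), (62, 17), (63, 18), (64, 19), (65, 20), (66, 21), (67, 22), (68, 23), (69, 24), (70, 25),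
  (71, 73), (72, 0), (75, 0), (77, 0)], [(5, 5), (6, 6), (7, 7), (8, 8), (9, 9), (10, 10), (11, 11), (12, 12),
  (13, 13), (14, 14), (16, 16), (17, 17), (18, 18), (19, 19), (20, 20), (21, 21), (26, 26), (27, 27), (28, 28),
  (29, 29), (42, 42), (43, 43), (44, 44), (45, 45), (50, 50), (51, 51), (52, 52), (53, 53), (54, 54), (55, 55),
  (57, 57), (58, 58), (59, 59), (60, 60), (61, 61), (62, 62), (63, 63), (64, 64), (65, 65), (66, 66)], [(0, 0),
  (1, 1), (8, 8), (9, 9), (10, 10), (11, 11), (12, 12), (13, 13), (19, 19), (20, 20), (21, 21), (22, 22), (23,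
  23), (24, 24), (26, 26), (27, 27), (28, 28), (30, 30), (31, 31), (32, 32), (39, 39), (40, 40), (41, 41), (43,
  43), (44, 44), (45, 45), (47, 47), (48, 48), (49, 49), (50, 50), (51, 51), (52, 52), (58, 58), (59, 59), (60,
  60), (61, 61), (62, 62), (63, 63), (70, 70), (71, 71)], [(2, 2), (3, 3), (4, 4), (5, 5), (6, 6), (7, 7), (14,
  14), (15, 15), (19, 19), (20, 20), (21, 21), (22, 22), (23, 23), (24, 24), (26, 26), (27, 27), (28, 28), (30,
  30), (31, 31), (32, 32), (39, 39), (40, 40), (41, 41), (43, 43), (44, 44), (45, 45), (47, 47), (48, 48), (49,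
  49), (50, 50), (51, 51), (52, 52), (56, 56), (57, 57), (64, 64), (65, 65), (66, 66), (67, 67), (68, 68), (69,
  69)], [(1, 1), (2, 2), (6, 6), (7, 7), (8, 8), (9, 9), (13, 13), (14, 14), (17, 17), (18, 18), (19, 19), (20,
  20), (24, 24), (25, 25), (28, 28), (29, 29), (30, 30), (31, 31), (33, 33), (34, 34), (37, 37), (38, 38), (40,
  40), (41, 41), (42, 42), (43, 43), (46, 46), (47, 47), (51, 51), (52, 52), (53, 53), (54, 54), (57, 57), (58,
  58), (62, 62), (63, 63), (64, 64), (65, 65), (69, 69), (70, 70)], [(2, 2), (3, 3), (5, 5), (6, 6), (9, 9),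
  (10, 10), (12, 12), (13, 13), (16, 16), (17, 17), (20, 20), (21, 21), (23, 23), (24, 24), (27, 27), (28, 28),
  (31, 31), (32, 32), (33, 33), (35, 35), (36, 36), (38, 38), (39, 39), (40, 40), (43, 43), (44, 44), (47, 47),
  (48, 48), (50, 50), (51, 51), (54, 54), (55, 55), (58, 58), (59, 59), (61, 61), (62, 62), (65, 65), (66, 66),
  (68, 68), (69, 69)], [(3, 3), (4, 4), (6, 6), (7, 7), (8, 8), (9, 9), (11, 11), (12, 12), (17, 17), (18, 18),
  (19, 19), (20, 20), (22, 22), (23, 23), (26, 26), (27, 27), (30, 30), (31, 31), (33, 33), (34, 34), (37, 37),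
  (38, 38), (40, 40), (41, 41), (44, 44), (45, 45), (48, 48), (49, 49), (51, 51), (52, 52), (53, 53), (54, 54),
  (59, 59), (60, 60), (62, 62), (63, 63), (64, 64), (65, 65), (67, 67), (68, 68)]]

/-- the graph permutation of the coordinates -/
def imL : List Nat :=
  [0, 1, 2, 5, 16, 3, 6, 17, 8, 19, 22, 11, 26, 30, 33, 35, 4, 7, 18, 9, 20, 23, 10, 21, 24, 25, 12, 27, 31, 34,
  13, 28, 32, 14, 29, 15, 56, 42, 57, 39, 43, 58, 37, 40, 44, 59, 46, 47, 50, 61, 48, 51, 62, 53, 64, 67, 36,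
  38, 41, 45, 60, 49, 52, 63, 54, 65, 68, 55, 66, 69, 70, 71, 77, 73, 76, 75, 74, 72]

/-- exponents of the diagonal element modulo 3 -/
def dexp : List Nat :=
  [0, 0, 0, 0, 2, 0, 0, 2, 0, 2, 2, 0, 2, 2, 2, 2, 1, 1, 0, 1, 0, 0, 1, 0, 0, 0, 1, 0, 0, 0, 1, 0, 0, 1, 0, 1,
  2, 0, 2, 0, 0, 2, 0, 0, 0, 2, 0, 0, 0, 2, 0, 0, 2, 0, 2, 2, 1, 1, 1, 1, 0, 1, 1, 0, 1, 0, 0, 1, 0, 0, 0, 0, 0,
  0, 0, 0, 0, 0]

end CfsgLib.TwE6Five
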