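import Cfsg.Agent.Lib.TwE6Five.Engine
import Cfsg.Agent.Lib.TwE6Five.DataGen
import Cfsg.Agent.Lib.TwE6Five.DataWords
import Cfsg.Agent.Lib.TwE6Five.DataFix
import Cfsg.Agent.Lib.TwE6Five.DataTail

/-!
The boolean checks.
-/

set_option autoImplicit false

namespace CfsgLib.TwE6Five

open CfsgLib.Chev

/-- The entries of the adjoint map of a combination, from a number on. -/
noncomputable def adFrom (u : ℕ × ℕ) : List (List (ℕ × ℕ)) → ℕ → List (ℕ × ℕ × ℕ)
  | [], _ => []
  | L :: R, c =>
    cond (Nat.beq (bitC u c) 0) (adFrom u R (c + 1))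
      ((L.map fun p => (p.1, p.2, bitC u c)) ++ adFrom u R (c + 1))

/-- The bracket of two vectors. -/
noncomputable def brS (u v : ℕ × ℕ) : ℕ × ℕ := spApp (adFrom u adT 0) v

/-- One generator applied. -/
noncomputable def stepV (g : ℕ) (v : ℕ × ℕ) : ℕ × ℕ := addV v (spApp (gensN.getD g []) v)

/-- A word applied. -/
noncomputable def applyK {α : Type} : List ℕ → ℕ × ℕ → (ℕ × ℕ → α) → α
  | [], v, k => k v
  | g :: l, v, k => applyK l v fun u => nowV (stepV g u) k

/-- The field automorphism on a vector. -/
def conjV (v : ℕ × ℕ) : ℕ × ℕ := (Nat.xor v.1 v.2, v.2)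

/-- The entries of the graph permutation. -/
noncomputable def sigN : List (ℕ × ℕ × ℕ) :=
  (List.range 78).map fun a => (imL.getD a 0, a, 1)

/-- The semilinear map on a vector. -/
noncomputable def sigS (v : ℕ × ℕ) : ℕ × ℕ := spApp sigN (conjV v)

/-- A combination of vectors with coefficients read from a number on. -/
noncomputable def combK {α : Type} : List (ℕ × ℕ) → ℕ × ℕ → ℕ → (ℕ × ℕ → α) → α
  | [], _, _, k => k (0, 0)
  | b :: B, c, i, k => combK B c (i + 1) fun R => nowV (addV (smulV (bitC c i) b) R) k

/-- The vector of a mask in the rational basis. -/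
noncomputable def Bm {α : Type} (m : ℕ) (k : ℕ × ℕ → α) : α := combK base18 (m, 0) 0 k

/-! ### Generators -/

/-- The sparse form of a generator is its matrix. -/
noncomputable def matChk (g : ℕ) : Bool :=
  run tabE6 (gensData.getD g []) (oneCols tabE6) fun M =>
    sameL M ((List.range 78).map fun c => stepV g (2 ^ c, 0))

/-- The semilinear map commutes with a generator. -/
noncomputable def sigChk (g : ℕ) : Bool :=
  (List.range 78).all fun c => sameV (stepV g (sigS (2 ^ c, 0))) (sigS (stepV g (2 ^ c, 0)))

/-- A column of a generator. -/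
noncomputable def gcol (N : List (ℕ × ℕ × ℕ)) (c : ℕ) : List (ℕ × ℕ) :=
  (c, 1) :: ((N.filter fun q => Nat.beq q.2.1 c).map fun q => (q.1, q.2.2))

/-- A row of a generator. -/
noncomputable def grow : List (ℕ × ℕ × ℕ) → ℕ → ℕ × ℕ
  | [], q => (2 ^ q, 0)
  | e :: N, q => cond (Nat.beq e.1 q) (addV (smulV e.2.2 (2 ^ e.2.1, 0)) (grow N q)) (grow N q)

/-- A vector placed in a slot of a packed matrix. -/
def shV (v : ℕ × ℕ) (k : ℕ) : ℕ × ℕ := (Nat.shiftLeft v.1 k, Nat.shiftLeft v.2 k)

/-- A sum of vectors. -/
noncomputable def sumV : List (ℕ × ℕ) → ℕ × ℕ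
  | [] => (0, 0)
  | v :: L => addV v (sumV L)

/-- The bracket of two moved unit vectors, packed. -/
noncomputable def lhsP (N : List (ℕ × ℕ × ℕ)) (c : ℕ) : ℕ × ℕ :=
  sumV ((gcol N c).flatMap fun p =>
    (adT.getD p.1 []).map fun e => smulV p.2 (shV (grow N e.2) (78 * e.1)))

/-- The moved bracket of two unit vectors, packed. -/
noncomputable def rhsP (N : List (ℕ × ℕ × ℕ)) (c : ℕ) : ℕ × ℕ :=
  sumV ((adT.getD c []).flatMap fun e =>
    (gcol N e.1).map fun p => smulV p.2 (2 ^ (78 * p.1 + e.2), 0))

/-- A generator respects the bracket. -/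
noncomputable def brChk (g : ℕ) : Bool :=
  (List.range 78).all fun c => sameV (lhsP (gensN.getD g []) c) (rhsP (gensN.getD g []) c)

/-- All table indices are in range. -/
def tabChk : Bool :=
  Nat.beq adT.length 78 && (adT.all fun L => L.all fun p => decide (p.1 < 78) && decide (p.2 < 78)) &&
  Nat.beq gensN.length 16 &&
    (gensN.all fun N => N.all fun q =>
      decide (q.1 < 78) && decide (q.2.1 < 78) && decide (q.2.2 < 4)) &&
  (gensData.all fun W => W.all fun p => decide (p.1 < 72) && decide (p.2 < 4)) &&
  (imL.all fun i => decide (i < 78))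

/-- The diagonal element respects brackets, the semilinear map and the three generators in x. -/
def dltChk : Bool :=
  (adT.zipIdx.all fun q => q.1.all fun p =>
    Nat.beq ((dexp.getD q.2 0 + dexp.getD p.2 0) % 3) (dexp.getD p.1 0 % 3)) &&
  ((List.range 78).all fun i =>
    Nat.beq ((2 * dexp.getD i 0) % 3) (dexp.getD (imL.getD i 0) 0 % 3)) &&
  (xW.all fun g => (gensN.getD g []).all fun q =>
    Nat.beq (dexp.getD q.1 0) (dexp.getD q.2.1 0))

/-! ### Equalities of words -/

/-- The members of a list extended by brackets of earlier members. -/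
noncomputable def progK {α : Type} : List (ℕ × ℕ) → List (ℕ × ℕ) → (List (ℕ × ℕ) → α) → α
  | [], L, k => k L
  | p :: P, L, k =>
    nowV (brS (L.getD p.1 (0, 0)) (L.getD p.2 (0, 0))) fun v => progK P (L ++ [v]) k

/-- The unit vectors are combinations of a list. -/
noncomputable def unitChk (L cert : List (ℕ × ℕ)) : Bool :=
  (List.range 78).all fun c => combK L (cert.getD c (0, 0)) 0 fun v => sameV v (2 ^ c, 0)

/-- The three vectors span by brackets. -/
noncomputable def genChk : Bool := progK genProg genVecs fun L => unitChk L genCert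

/-- Two words agree. -/
noncomputable def eqW (a b : List ℕ) : Bool :=
  genVecs.all fun u => applyK a u fun p => applyK b u fun q => sameV p q

/-- Some vector is moved differently. -/
noncomputable def neW (a b : List ℕ) : Bool :=
  genVecs.any fun u => applyK a u fun p => applyK b u fun q =>
    (List.range 78).any fun n => !(Nat.beq (bitC p n) (bitC q n))

/-- A repeated word. -/
def repW : ℕ → List ℕ → List ℕ
  | 0, _ => []
  | k + 1, l => l ++ repW k l

/-- A generator of the alternating group. -/
def ysI (i : ℕ) : List ℕ := ysW.getD i []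

/-- The relations of x and y. -/
noncomputable def relChk : Bool :=
  eqW (repW 5 xW) [] && eqW (repW 5 yW) [] && eqW (xW ++ yW) (yW ++ xW) &&
  eqW (nW5 ++ xW) (xW ++ nW5) && eqW (nW5 ++ yW) (yW ++ (yW ++ nW5)) &&
  neW xW [] && ((List.range 5).all fun k => neW yW (repW k xW))

/-- The conjugations. -/
noncomputable def conjChk : Bool :=
  eqW (hW5 ++ xW) (yW ++ hW5) && eqW (gW5 ++ xW) (xW ++ (yW ++ gW5))

/-- The six generators are six, and not trivial. -/
noncomputable def altChk : Bool := Nat.beq ysW.length 6 && neW (ysI 0) []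

/-- A generator has order three and commutes with x. -/
noncomputable def altOne (i : ℕ) : Bool :=
  eqW (repW 3 (ysI i)) [] && eqW (ysI i ++ xW) (xW ++ ysI i)

/-- A product of two generators has order two. -/
noncomputable def altPair (i j : ℕ) : Bool := eqW (repW 2 (ysI i ++ ysI j)) []

/-! ### The fixed space -/

/-- Fixed vectors are combinations of the rational basis. -/
noncomputable def spanXChk : Bool :=
  colsOK 78 leftE && colsOK 78 psiT &&
  (List.range 78).all fun c =>
    applyK xW (2 ^ c, 0) fun v => nowV (spApp leftE (addV v (2 ^ c, 0))) fun e =>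
      combK base18 (spApp psiT (2 ^ c, 0)) 0 fun u => sameV (addV e (2 ^ c, 0)) u

/-- The rational basis is dual to the coordinates, rational and fixed. -/
noncomputable def basisChk : Bool :=
  Nat.beq base18.length 18 && (List.range 18).all fun i =>
    sameV (spApp psiT (base18.getD i (0, 0))) (2 ^ i, 0) &&
    sameV (sigS (base18.getD i (0, 0))) (base18.getD i (0, 0)) &&
    applyK xW (base18.getD i (0, 0)) fun v => sameV v (base18.getD i (0, 0))

/-- The table of brackets. -/
noncomputable def tblChk : Bool :=
  (List.range 18).all fun i => (List.range 18).all fun j =>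
    decide ((tbl18.getD i []).getD j 0 < 2 ^ 18) &&
    Bm ((tbl18.getD i []).getD j 0) fun v => sameV (brS (base18.getD i (0, 0)) (base18.getD j (0, 0))) v

/-- A combination of numbers. -/
noncomputable def combN : List ℕ → ℕ → ℕ → ℕ
  | [], _, _ => 0
  | b :: B, c, i => cond (bmem c i) (Nat.xor b (combN B c (i + 1))) (combN B c (i + 1))

/-- The bracket of a basis vector and a mask. -/
noncomputable def mbRow (i n : ℕ) : ℕ := combN (tbl18.getD i []) n 0

/-- The bracket on masks. -/
noncomputable def mbS (m n : ℕ) : ℕ :=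
  combN ((List.range 18).map fun i => mbRow i n) m 0

/-! ### Truth tables -/

/-- All ones in `2 ^ n` places. -/
def fullT (n : ℕ) : ℕ := 2 ^ 2 ^ n - 1

/-- The table of a coordinate. -/
def coordT : ℕ → ℕ → ℕ
  | 0, _ => 0
  | n + 1, i => if i = n then Nat.shiftLeft (fullT n) (2 ^ n)
      else Nat.lor (coordT n i) (Nat.shiftLeft (coordT n i) (2 ^ n))

/-- The coefficient of one pair in one equation. -/
noncomputable def qCoef (k r i j : ℕ) : ℕ :=
  bitC (brS (base18.getD i (0, 0)) (brS (base18.getD j (0, 0)) (2 ^ k, 0))) r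

/-- The pairs of coefficients of one equation. -/
noncomputable def qPairs (k r : ℕ) : List (ℕ × ℕ × ℕ) :=
  (List.range 18).flatMap fun i => (List.range 18).map fun j => (i, j, qCoef k r i j)

/-- Sum of the truth tables of the pairs with one bit. -/
noncomputable def parT (b : ℕ) : List (ℕ × ℕ × ℕ) → ℕ
  | [] => 0
  | q :: L => cond (bmem q.2.2 b) (Nat.xor (Nat.land (coordT 18 q.1) (coordT 18 q.2.1)) (parT b L))
      (parT b L)

/-- The common zeros of the equations. -/
noncomputable def zeroT : List (ℕ × ℕ) → ℕ
  | [] => fullT 18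
  | e :: L => Nat.land (zeroT L)
      (Nat.land (Nat.xor (fullT 18) (parT 0 (qPairs e.1 e.2)))
        (Nat.xor (fullT 18) (parT 1 (qPairs e.1 e.2))))

/-- The table of a list of masks. -/
def listT : List ℕ → ℕ
  | [] => 0
  | m :: L => Nat.lor (2 ^ m) (listT L)

/-- The solutions are listed. -/
noncomputable def quadChk : Bool :=
  (quadRows.all fun e => decide (e.1 < 78) && decide (e.2 < 78)) &&
  Nat.beq (zeroT quadRows) (listT solL)

/-! ### The orbit of 105 masks -/

/-- Membership in a list. -/
noncomputable def memL (a : ℕ) : List ℕ → Bool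
  | [] => false
  | b :: L => cond (Nat.beq a b) true (memL a L)

/-- The class of a mask. -/
noncomputable def clsM (m : ℕ) : ℕ :=
  cond (Nat.beq m 0) 0 (cond (memL m smallL) 1 2)

/-- The subsums of a list. -/
noncomputable def subs : List ℕ → List ℕ
  | [] => [0]
  | a :: L => subs L ++ (subs L).map (Nat.xor a)

/-- Each solution is zero, small, or has seven independent brackets. -/
noncomputable def otherChk : Bool :=
  (solL.all fun m => decide (m < 2 ^ 18) &&
    (Nat.beq m 0 || memL m smallL || memL m (otherL.map Prod.fst))) &&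
  otherL.all fun e =>
    Nat.beq e.2.length 7 && (e.2.all fun j => decide (j < 18)) &&
      decide (e.2.Nodup) &&
      ((subs (e.2.map fun j => mbS e.1 (2 ^ j))).tail.all fun v => !(Nat.beq v 0))

/-- The first base point has brackets in a span of six masks, and satisfies the equations. -/
noncomputable def seedChk : Bool :=
  Nat.beq (smallL.getD 0 0) (basePts.getD 0 0) && !(Nat.beq (smallL.getD 0 0) 0) &&
  decide (smallL.getD 0 0 < 2 ^ 18) &&
  Nat.beq span6.length 6 &&
  ((List.range 18).all fun j => memL (mbS (smallL.getD 0 0) (2 ^ j)) (subs span6)) &&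
  ((subs span6).all fun a => span6.all fun b => memL (Nat.xor a b) (subs span6)) &&
  Bm (smallL.getD 0 0) fun f => (List.range 78).all fun k => sameV (brS f (brS f (2 ^ k, 0))) (0, 0)

/-- The orbit steps. -/
noncomputable def orbChk : Bool :=
  Nat.beq smallL.length (orbSteps.length + 1) &&
  (orbSteps.zipIdx.all fun q => decide (q.1.1 ≤ q.2) && decide (q.1.2 < 6) &&
    decide (smallL.getD (q.2 + 1) 0 < 2 ^ 18) &&
    Bm (smallL.getD q.1.1 0) fun u => Bm (smallL.getD (q.2 + 1) 0) fun v =>
      applyK (ysI q.1.2) u fun p => sameV p v)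

/-! ### The levels -/

/-- Extend a list of masks by brackets. -/
noncomputable def progN : List (ℕ × ℕ) → List ℕ → List ℕ
  | [], L => L
  | p :: P, L => progN P (L ++ [mbS (L.getD p.1 0) (L.getD p.2 0)])

/-- The fixed masks of a level. -/
noncomputable def levelD (k : ℕ) : List ℕ := progN (levelProg.getD k []) (basePts.take k)

/-- The candidates of a level. -/
noncomputable def cands (k : ℕ) : List ℕ :=
  smallL.filter fun c => (levelD k).all fun d =>
    Nat.beq (clsM (mbS d c)) (clsM (mbS d (basePts.getD k 0)))

/-- The numbers of candidates. -/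
noncomputable def levelChk : Bool :=
  ((List.range 4).all fun k => memL (basePts.getD k 0) smallL) &&
  Nat.ble (cands 0).length 105 && Nat.ble (cands 1).length 48 &&
  Nat.ble (cands 2).length 4 && Nat.ble (cands 3).length 2

/-- The eight fixed elements. -/
noncomputable def fixM (i : ℕ) : ℕ := combN (progN subProg basePts) (fixComb.getD i 0) 0

/-- The fixed vectors of the eight elements and of one bracket. -/
noncomputable def fixK {α : Type} (k : List (ℕ × ℕ) → α) : α :=
  Bm (fixM 0) fun a => Bm (fixM 1) fun b => Bm (fixM 2) fun c => Bm (fixM 3) fun d =>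
  Bm (fixM 4) fun e => Bm (fixM 5) fun p => Bm (fixM 6) fun q => Bm (fixM 7) fun r =>
  nowV (brS q r) fun s => k [a, b, c, d, e, p, s]

/-- The seven operators of the last space at a vector. -/
noncomputable def opsK {α : Type} (f : List (ℕ × ℕ)) (u : ℕ × ℕ)
    (k : List (ℕ × ℕ) → α) : α :=
  applyK xW u fun u1 => applyK xW u1 fun u2 => applyK xW u2 fun u3 => applyK xW u3 fun u4 =>
    k [addV u (addV u1 (addV u2 (addV u3 u4))), brS (f.getD 0 (0, 0)) u, brS (f.getD 1 (0, 0)) u,
      brS (f.getD 2 (0, 0)) u, brS (f.getD 3 (0, 0)) u, brS (f.getD 4 (0, 0)) u,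
      addV (brS (f.getD 5 (0, 0)) (brS (f.getD 6 (0, 0)) u)) u]

/-- The sum of the seven left factors. -/
noncomputable def leftSum : List (List (ℕ × ℕ × ℕ)) → List (ℕ × ℕ) → ℕ × ℕ
  | E :: Es, v :: L => addV (spApp E v) (leftSum Es L)
  | _, _ => (0, 0)

/-- Vectors killed by the operators are combinations of the last basis. -/
noncomputable def spanWChk : Bool :=
  (leftW.all fun E => colsOK 78 E) && colsOK 78 psiW &&
  fixK fun f => (List.range 78).all fun c =>
    opsK f (2 ^ c, 0) fun R => nowV (leftSum leftW R) fun e =>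
      combK baseW (spApp psiW (2 ^ c, 0)) 0 fun u => sameV (addV e (2 ^ c, 0)) u

/-- The last basis is dual and rational, and the last vector is a nonzero member. -/
noncomputable def basisWChk : Bool :=
  Nat.beq baseW.length 4 &&
  ((List.range 4).all fun i => sameV (spApp psiW (baseW.getD i (0, 0))) (2 ^ i, 0) &&
    sameV (sigS (baseW.getD i (0, 0))) (baseW.getD i (0, 0))) &&
  sameV (sigS lastVec) lastVec &&
  ((List.range 78).any fun n => !(Nat.beq (bitC lastVec n) 0)) &&
  fixK fun f => opsK f lastVec fun R => R.all fun r => sameV r (0, 0)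

/-- The members of a list extended by images and brackets. -/
noncomputable def progX {α : Type} : List (ℕ × ℕ × ℕ) → List (ℕ × ℕ) → (List (ℕ × ℕ) → α) → α
  | [], L, k => k L
  | p :: P, L, k =>
    cond (Nat.beq p.1 0) (applyK xW (L.getD p.2.1 (0, 0)) fun v => progX P (L ++ [v]) k)
      (nowV (brS (L.getD p.2.1 (0, 0)) (L.getD p.2.2 (0, 0))) fun v => progX P (L ++ [v]) k)

/-- The base points and the last vector span by images and brackets. -/
noncomputable def endChk : Bool :=
  Bm (basePts.getD 0 0) fun a => Bm (basePts.getD 1 0) fun b => Bm (basePts.getD 2 0) fun c =>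
    Bm (basePts.getD 3 0) fun d => progX lastProg [a, b, c, d, lastVec] fun L => unitChk L lastCert

end CfsgLib.TwE6Five
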