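import Cfsg.Agent.Lib.Chev.InvolGF2
import Cfsg.Agent.Lib.Chev.CertE6
import Mathlib.Algebra.CharP.Two

/-!
Bit-sliced vectors over a field with four elements, and sparse linear maps on them.

A vector is a pair of masks `(lo, hi)`, standing for `lo + ω hi` at each coordinate, where
`ω ^ 2 = ω + 1`. A sparse map is a list of entries `(row, column, code)`.
-/

set_option autoImplicit false
set_option linter.unusedSectionVars false

namespace CfsgLib.TwE6Five

open Cfsg.Lie CfsgLib.Chev Matrix

/-- Evaluate a number before using it. -/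
noncomputable def now {α : Type} (x : ℕ) (k : ℕ → α) : α :=
  Nat.rec (motive := fun _ => α) (k 0) (fun n _ => k (Nat.succ n)) x

theorem now_eq {α : Type} (x : ℕ) (k : ℕ → α) : now x k = k x := by cases x <;> rfl

/-- Evaluate all entries before using a list. -/
noncomputable def nowL {α : Type} : List (ℕ × ℕ) → (List (ℕ × ℕ) → α) → α
  | [], k => k []
  | p :: L, k => now p.1 fun a => now p.2 fun b => nowL L fun R => k ((a, b) :: R)

theorem nowL_eq {α : Type} : ∀ (L : List (ℕ × ℕ)) (k : List (ℕ × ℕ) → α), nowL L k = k L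
  | [], _ => rfl
  | p :: L, k => by
    rw [nowL, now_eq, now_eq, nowL_eq]

/-- Multiply a vector by the scalar of a code. -/
def smulV : ℕ → ℕ × ℕ → ℕ × ℕ
  | 0, _ => (0, 0)
  | 1, v => v
  | 2, v => (v.2, Nat.xor v.1 v.2)
  | _, v => (Nat.xor v.1 v.2, v.1)

/-- Product of two codes. -/
def mulC : ℕ → ℕ → ℕ
  | 0, _ => 0
  | 1, b => b
  | 2, 1 => 2
  | 2, 2 => 3
  | 2, 3 => 1
  | 2, _ => 0
  | _, 1 => 3
  | _, 2 => 1
  | _, 3 => 2
  | _, _ => 0

/-- Power of a code. -/
def powC (a : ℕ) : ℕ → ℕ
  | 0 => 1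
  | k + 1 => mulC a (powC a k)

/-- The code at a coordinate. -/
noncomputable def bitC (v : ℕ × ℕ) (i : ℕ) : ℕ :=
  cond (bmem v.1 i) (cond (bmem v.2 i) 3 1) (cond (bmem v.2 i) 2 0)

/-- Sum of two vectors. -/
def addV (u v : ℕ × ℕ) : ℕ × ℕ := (Nat.xor u.1 v.1, Nat.xor u.2 v.2)

/-- The contribution of one entry. -/
def termV (L : List (ℕ × ℕ)) (t : ℕ) (q : ℕ × ℕ × ℤ) : ℕ × ℕ :=
  if q.2.2 % 2 = 1 then smulV (powC t q.2.1) (L.getD q.1 (0, 0)) else (0, 0)

/-- A column of a matrix times a root element. -/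
def stepCol (T : Tab) (L : List (ℕ × ℕ)) (r t c : ℕ) : ℕ × ℕ :=
  (T.col r c).foldr (fun q acc => addV (termV L t q) acc) (0, 0)

/-- A matrix times a root element. -/
def step (T : Tab) (L : List (ℕ × ℕ)) (p : ℕ × ℕ) : List (ℕ × ℕ) :=
  (List.range T.dim).map (stepCol T L p.1 p.2)

/-- A matrix times a word in root elements, evaluated step by step. -/
noncomputable def run {α : Type} (T : Tab) : List (ℕ × ℕ) → List (ℕ × ℕ) → (List (ℕ × ℕ) → α) → α
  | [], L, k => k L
  | p :: w, L, k => nowL (step T L p) fun M => run T w M k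

theorem run_eq {α : Type} (T : Tab) : ∀ (w L : List (ℕ × ℕ)) (k : List (ℕ × ℕ) → α),
    run T w L k = k (w.foldl (step T) L)
  | [], _, _ => rfl
  | p :: w, L, k => by rw [run, nowL_eq, run_eq]; rfl

/-- The identity matrix. -/
def oneCols (T : Tab) : List (ℕ × ℕ) := (List.range T.dim).map fun c => (2 ^ c, 0)

/-- Equality of two lists of vectors. -/
def sameL : List (ℕ × ℕ) → List (ℕ × ℕ) → Bool
  | [], [] => true
  | p :: A, q :: B => Nat.beq p.1 q.1 && Nat.beq p.2 q.2 && sameL A B
  | _, _ => false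

theorem sameL_eq : ∀ {A B : List (ℕ × ℕ)}, sameL A B = true → A = B
  | [], [], _ => rfl
  | p :: A, q :: B, h => by
    simp only [sameL, Bool.and_eq_true] at h
    rw [sameL_eq h.2, show p = q from
      Prod.ext (Nat.eq_of_beq_eq_true h.1.1) (Nat.eq_of_beq_eq_true h.1.2)]
  | [], _ :: _, h => by simp [sameL] at h
  | _ :: _, [], h => by simp [sameL] at h

/-- A sparse map applied to a vector, accumulated. -/
noncomputable def spAcc : List (ℕ × ℕ × ℕ) → ℕ × ℕ → ℕ → ℕ → ℕ × ℕ
  | [], _, al, ah => (al, ah)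
  | q :: N, v, al, ah =>
    cond (Nat.beq (bitC v q.2.1) 0) (spAcc N v al ah)
      (now (Nat.xor al (smulV (mulC q.2.2 (bitC v q.2.1)) (2 ^ q.1, 0)).1) fun a =>
        now (Nat.xor ah (smulV (mulC q.2.2 (bitC v q.2.1)) (2 ^ q.1, 0)).2) fun b => spAcc N v a b)

/-- A sparse map applied to a vector. -/
noncomputable def spApp (N : List (ℕ × ℕ × ℕ)) (v : ℕ × ℕ) : ℕ × ℕ := spAcc N v 0 0

/-- Evaluate a vector before using it. -/
noncomputable def nowV {α : Type} (p : ℕ × ℕ) (k : ℕ × ℕ → α) : α :=
  now p.1 fun a => now p.2 fun b => k (a, b)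

theorem nowV_eq {α : Type} (p : ℕ × ℕ) (k : ℕ × ℕ → α) : nowV p k = k p := by
  rw [nowV, now_eq, now_eq]

/-- Equality of two vectors. -/
noncomputable def sameV (p q : ℕ × ℕ) : Bool := Nat.beq p.1 q.1 && Nat.beq p.2 q.2

theorem sameV_eq {p q : ℕ × ℕ} (h : sameV p q = true) : p = q := by
  simp only [sameV, Bool.and_eq_true] at h
  exact Prod.ext (Nat.eq_of_beq_eq_true h.1) (Nat.eq_of_beq_eq_true h.2)

section Sem

variable {K : Type*} [Field K] [CharP K 2] {D : ChevalleyDatum} {T : Tab}

/-- The value of a code. -/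
def cval (w : K) : ℕ → K
  | 0 => 0
  | 1 => 1
  | 2 => w
  | _ => 1 + w

/-- The vector of two masks. -/
noncomputable def colVec (D : ChevalleyDatum) (w : K) (v : ℕ × ℕ) : D.Idx → K :=
  mvec D K v.1 + w • mvec D K v.2

/-- The matrix of a list of columns. -/
noncomputable def toM (D : ChevalleyDatum) (w : K) (L : List (ℕ × ℕ)) : Matrix D.Idx D.Idx K :=
  Matrix.of fun row col => colVec D w (L.getD (enc col) (0, 0)) row

theorem colVec_zero (w : K) : colVec D w (0, 0) = 0 := by
  simp [colVec, mvec_zero]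

theorem colVec_addV (w : K) (u v : ℕ × ℕ) :
    colVec D w (addV u v) = colVec D w u + colVec D w v := by
  simp only [colVec, addV, mvec_xor, smul_add]; abel

variable {w : K} (hw : w * w = 1 + w)
include hw

theorem colVec_smulV (c : ℕ) (v : ℕ × ℕ) :
    colVec D w (smulV c v) = cval w c • colVec D w v := by
  match c with
  | 0 => simp [smulV, cval, colVec_zero]
  | 1 => simp [smulV, cval]
  | 2 =>
    funext row
    simp only [colVec, smulV, cval, mvec_xor, Pi.add_apply, Pi.smul_apply, smul_eq_mul]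
    linear_combination (-(mvec D K v.2 row)) * hw
  | n + 3 =>
    funext row
    simp only [colVec, smulV, cval, mvec_xor, Pi.add_apply, Pi.smul_apply, smul_eq_mul]
    linear_combination (-(mvec D K v.2 row)) * hw -
      (w * mvec D K v.2 row) * (CharTwo.two_eq_zero : (2 : K) = 0)

theorem cval_mulC (a b : ℕ) (hb : b < 4) : cval w (mulC a b) = cval w a * cval w b := by
  have h2 : (2 : K) = 0 := CharTwo.two_eq_zero
  match a with
  | 0 => simp [mulC, cval]
  | 1 => simp [mulC, cval]
  | 2 =>
    interval_cases b <;> simp only [mulC, cval]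
    · simp
    · simp
    · linear_combination -hw
    · linear_combination (-1 : K) * hw - w * h2
  | n + 3 =>
    interval_cases b <;> simp only [mulC, cval]
    · simp
    · simp
    · linear_combination (-1 : K) * hw - w * h2
    · linear_combination (-1 : K) * hw - (1 + w) * h2

omit hw in
theorem powC_lt {a : ℕ} (ha : a < 4) : ∀ k, powC a k < 4
  | 0 => by simp [powC]
  | k + 1 => by
    have := powC_lt ha k
    rw [powC]
    generalize powC a k = b at this ⊢
    interval_cases a <;> interval_cases b <;> decide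

theorem cval_powC {a : ℕ} (ha : a < 4) : ∀ k, cval w (powC a k) = cval w a ^ k
  | 0 => by simp [powC, cval]
  | k + 1 => by rw [powC, cval_mulC hw _ _ (powC_lt ha k), cval_powC ha k, pow_succ']

theorem cval_bitC (v : ℕ × ℕ) (row : D.Idx) :
    cval w (bitC v (enc row)) = colVec D w v row := by
  simp only [bitC, bmem_eq, colVec, mvec, Pi.add_apply, Pi.smul_apply, smul_eq_mul]
  cases v.1.testBit (enc row) <;> cases v.2.testBit (enc row) <;> simp [cval]

theorem colVec_step (h : T.Agrees D) {L : List (ℕ × ℕ)} (hL : L.length = T.dim) {r : ℕ}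
    (hr : r < T.n) {t : ℕ} (ht : t < 4) (col : D.Idx) (row : D.Idx) :
    colVec D w (stepCol T L r t (enc col)) row =
      ∑ mid, toM D w L row mid * D.x K r (cval w t) mid col := by
  simp only [x_apply h hr, stepCol]
  induction T.col r (enc col) with
  | nil => simp [colVec_zero]
  | cons q Q ih =>
    rw [List.foldr_cons, colVec_addV, Pi.add_apply, ih]
    simp only [List.map_cons, List.sum_cons, mul_add, Finset.sum_add_distrib]
    congr 1
    by_cases hq : q.1 < T.dim
    · obtain ⟨m, hm⟩ := exists_enc h hq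
      rw [Finset.sum_eq_single m (fun b _ hb => by
        rw [if_neg fun e => hb (enc_injective (e.symm.trans hm.symm)), mul_zero])
        (fun hm' => absurd (Finset.mem_univ m) hm'), if_pos hm.symm]
      simp only [termV]
      rw [intCast_odd]
      split
      · rw [colVec_smulV hw, Pi.smul_apply, smul_eq_mul, cval_powC hw ht, one_mul, mul_comm]
        simp [toM, hm]
      · simp [colVec_zero]
    · rw [Finset.sum_eq_zero fun b _ => by
        rw [if_neg fun e => hq (lt_of_eq_of_lt e (enc_lt h b)), mul_zero]]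
      simp only [termV]
      split
      · rw [colVec_smulV hw, List.getD_eq_default _ _ (by omega)]
        simp [colVec_zero]
      · simp [colVec_zero]

theorem toM_step (h : T.Agrees D) {L : List (ℕ × ℕ)} (hL : L.length = T.dim) {r : ℕ}
    (hr : r < T.n) {t : ℕ} (ht : t < 4) :
    toM D w (step T L (r, t)) = toM D w L * D.x K r (cval w t) := by
  funext row col
  rw [Matrix.mul_apply, ← colVec_step hw h hL hr ht col row]
  simp [toM, step, List.getD_eq_getElem?_getD, enc_lt h col]

theorem toM_oneCols (h : T.Agrees D) : toM D w (oneCols T) = 1 := by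
  funext row col
  simp only [toM, oneCols, Matrix.of_apply]
  rw [List.getD_eq_getElem?_getD, List.getElem?_map, List.getElem?_range (enc_lt h col)]
  simp only [Option.map_some, Option.getD_some, colVec, mvec_zero, smul_zero, add_zero, mvec,
    Nat.testBit_two_pow, decide_eq_true_eq, Matrix.one_apply]
  by_cases e : row = col
  · subst e; simp
  · rw [if_neg e, if_neg fun e' => e (enc_injective e'.symm)]

omit hw in
theorem step_length (T : Tab) (L : List (ℕ × ℕ)) (p : ℕ × ℕ) : (step T L p).length = T.dim := by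
  simp [step]

theorem toM_foldl {C : Tab.Cover} (h : Cert D T C) :
    ∀ (W L : List (ℕ × ℕ)), L.length = T.dim → (∀ p ∈ W, p.1 < T.n ∧ p.2 < 4) →
      toM D w (W.foldl (step T) L) = toM D w L *
        ((W.map fun p => X D p.1 (cval w p.2)).prod : GL D.Idx K)
  | [], L, _, _ => by simp
  | p :: W, L, hL, hW => by
    obtain ⟨h1, h2⟩ := hW p List.mem_cons_self
    rw [List.foldl_cons, toM_foldl h W _ (step_length T L p)
      (fun q hq => hW q (List.mem_cons_of_mem _ hq)), List.map_cons, List.prod_cons, Units.val_mul,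
      ← Matrix.mul_assoc, h.coe_X, show p = (p.1, p.2) from rfl, toM_step hw h.agrees hL h1 h2]

omit hw

/-- The value of a coordinate. -/
noncomputable def cb (w : K) (v : ℕ × ℕ) (n : ℕ) : K := cval w (bitC v n)

theorem cb_def (w : K) (v : ℕ × ℕ) (n : ℕ) :
    cb w v n = (if v.1.testBit n then 1 else 0) + w * (if v.2.testBit n then 1 else 0) := by
  simp only [cb, bitC, bmem_eq]
  cases v.1.testBit n <;> cases v.2.testBit n <;> simp [cval]

theorem colVec_apply (w : K) (v : ℕ × ℕ) (i : D.Idx) : colVec D w v i = cb w v (enc i) := by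
  rw [cb_def, colVec]; simp [mvec]

theorem cb_zero (w : K) (n : ℕ) : cb w (0, 0) n = 0 := by simp [cb_def]

theorem cb_addV (w : K) (u v : ℕ × ℕ) (n : ℕ) : cb w (addV u v) n = cb w u n + cb w v n := by
  have h2 : (2 : K) = 0 := CharTwo.two_eq_zero
  have e : ∀ a b : ℕ, (if (Nat.xor a b).testBit n then (1 : K) else 0) =
      (if a.testBit n then 1 else 0) + (if b.testBit n then 1 else 0) := by
    intro a b
    show (if (a ^^^ b).testBit n then (1 : K) else 0) = _
    rw [Nat.testBit_xor]
    cases a.testBit n <;> cases b.testBit n <;> simp [CharTwo.add_self_eq_zero]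
  simp only [cb_def, addV, e]; ring

theorem bitC_lt (v : ℕ × ℕ) (n : ℕ) : bitC v n < 4 := by
  simp only [bitC]
  cases bmem v.1 n <;> cases bmem v.2 n <;> simp

/-- The coordinate of a number. -/
noncomputable def ev (n : ℕ) : (D.Idx → K) →ₗ[K] K :=
  ∑ j : D.Idx, if enc j = n then LinearMap.proj j else 0

/-- The unit vector of a number. -/
def eV (n : ℕ) : D.Idx → K := fun i => if enc i = n then 1 else 0

theorem ev_enc (j : D.Idx) (u : D.Idx → K) : ev (enc j) u = u j := by
  rw [ev, LinearMap.sum_apply, Finset.sum_eq_single j]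
  · simp
  · intro b _ hb
    rw [if_neg fun e => hb (enc_injective e)]; rfl
  · simp

theorem eV_enc (j : D.Idx) : (eV (enc j) : D.Idx → K) = Pi.single j 1 := by
  funext i
  by_cases h : i = j
  · subst h; simp [eV]
  · simp [eV, h, enc_injective.eq_iff]

theorem colVec_unit (w : K) (n : ℕ) : colVec D w (2 ^ n, 0) = eV n := by
  funext i
  rw [colVec_apply, cb_def]
  by_cases h : n = enc i
  · subst h; simp [eV]
  · simp [eV, h, Ne.symm h, Nat.testBit_two_pow]

theorem ev_eV {T : Tab} (h : T.Agrees D) {a : ℕ} (ha : a < T.dim) (b : ℕ) :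
    ev (D := D) b (eV a : D.Idx → K) = if a = b then 1 else 0 := by
  obtain ⟨j, rfl⟩ := exists_enc h ha
  rw [eV_enc, ev, LinearMap.sum_apply, Finset.sum_eq_single j]
  · by_cases e : enc j = b <;> simp [e]
  · intro i _ hi
    by_cases e : enc i = b <;> simp [e, hi]
  · simp

theorem ev_colVec {T : Tab} (h : T.Agrees D) (w : K) (v : ℕ × ℕ) {n : ℕ} (hn : n < T.dim) :
    ev n (colVec D w v) = cb w v n := by
  obtain ⟨j, rfl⟩ := exists_enc h hn
  rw [ev_enc, colVec_apply]

/-- One entry of a sparse map. -/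
noncomputable def entK (w : K) (q : ℕ × ℕ × ℕ) : (D.Idx → K) →ₗ[K] (D.Idx → K) :=
  cval w q.2.2 • (ev q.2.1).smulRight (eV q.1)

/-- The linear map of a sparse map. -/
noncomputable def spK (w : K) (N : List (ℕ × ℕ × ℕ)) : (D.Idx → K) →ₗ[K] (D.Idx → K) :=
  (N.map (entK w)).sum

theorem entK_apply (w : K) (q : ℕ × ℕ × ℕ) (u : D.Idx → K) :
    entK w q u = (cval w q.2.2 * ev q.2.1 u) • (eV q.1 : D.Idx → K) := by
  simp [entK, smul_smul]

theorem spK_nil (w : K) (u : D.Idx → K) : spK (D := D) w [] u = 0 := by simp [spK]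

theorem spK_cons (w : K) (q : ℕ × ℕ × ℕ) (N : List (ℕ × ℕ × ℕ)) (u : D.Idx → K) :
    spK w (q :: N) u = (cval w q.2.2 * ev q.2.1 u) • (eV q.1 : D.Idx → K) + spK w N u := by
  simp [spK, entK_apply]

theorem spK_append (w : K) (A B : List (ℕ × ℕ × ℕ)) :
    spK (D := D) w (A ++ B) = spK w A + spK w B := by
  simp [spK]

/-- The columns of a sparse map are in range. -/
def colsOK (d : ℕ) (N : List (ℕ × ℕ × ℕ)) : Bool := N.all fun q => decide (q.2.1 < d)

include hw

theorem cb_smulV (c : ℕ) (v : ℕ × ℕ) (n : ℕ) : cb w (smulV c v) n = cval w c * cb w v n := by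
  have e : ∀ a b : ℕ, (Nat.xor a b).testBit n = xor (a.testBit n) (b.testBit n) :=
    fun a b => Nat.testBit_xor a b n
  have h2 : (2 : K) = 0 := CharTwo.two_eq_zero
  match c with
  | 0 => simp [smulV, cb_zero, cval]
  | 1 => simp [smulV, cval]
  | 2 =>
    simp only [cb_def, smulV, cval, e]
    cases v.1.testBit n <;> cases v.2.testBit n <;>
      simp only [Bool.xor_false, Bool.xor_true, Bool.not_false, Bool.not_true,
        if_true, Bool.false_eq_true, if_false] <;>
      first
        | ring1
        | linear_combination -hw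
        | linear_combination -hw - w * h2
        | linear_combination -hw - h2
        | linear_combination -hw - (1 + w) * h2
  | k + 3 =>
    simp only [cb_def, smulV, cval, e]
    cases v.1.testBit n <;> cases v.2.testBit n <;>
      simp only [Bool.xor_false, Bool.xor_true, Bool.not_false, Bool.not_true,
        if_true, Bool.false_eq_true, if_false] <;>
      first
        | ring1
        | linear_combination -hw
        | linear_combination -hw - w * h2
        | linear_combination -hw - h2
        | linear_combination -hw - (1 + w) * h2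

theorem colVec_spAcc {T : Tab} (h : T.Agrees D) : ∀ (N : List (ℕ × ℕ × ℕ)) (v : ℕ × ℕ) (al ah : ℕ),
    colsOK T.dim N = true →
    colVec D w (spAcc N v al ah) = colVec D w (al, ah) + spK w N (colVec D w v)
  | [], v, al, ah, _ => by simp [spAcc, spK_nil]
  | q :: N, v, al, ah, hN => by
    simp only [colsOK, List.all_cons, Bool.and_eq_true, decide_eq_true_eq] at hN
    rw [spK_cons, ev_colVec h w v hN.1]
    cases e : Nat.beq (bitC v q.2.1) 0
    · rw [spAcc, e, cond_false, now_eq, now_eq, colVec_spAcc h N v _ _ hN.2,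
        show (Nat.xor al (smulV (mulC q.2.2 (bitC v q.2.1)) (2 ^ q.1, 0)).1,
            Nat.xor ah (smulV (mulC q.2.2 (bitC v q.2.1)) (2 ^ q.1, 0)).2) =
          addV (al, ah) (smulV (mulC q.2.2 (bitC v q.2.1)) (2 ^ q.1, 0)) from rfl,
        colVec_addV, colVec_smulV hw, cval_mulC hw _ _ (bitC_lt v _), colVec_unit, add_assoc]
      rfl
    · rw [spAcc, e, cond_true, colVec_spAcc h N v _ _ hN.2,
        show cb w v q.2.1 = 0 by rw [cb, Nat.eq_of_beq_eq_true e]; rfl, mul_zero, zero_smul,
        zero_add]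

theorem colVec_spApp {T : Tab} (h : T.Agrees D) {N : List (ℕ × ℕ × ℕ)} (v : ℕ × ℕ)
    (hN : colsOK T.dim N = true) : colVec D w (spApp N v) = spK w N (colVec D w v) := by
  rw [spApp, colVec_spAcc hw h N v 0 0 hN, colVec_zero, zero_add]

end Sem

end CfsgLib.TwE6Five
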