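import Cfsg.Agent.Lib.TwE6Five.Aut
import Cfsg.Agent.Lib.TwE6Five.CheckFix

/-!
The rational points of the fixed space of `x` as masks, and their quadratic equations.
-/

set_option autoImplicit false
set_option maxRecDepth 100000
set_option linter.unusedSectionVars false

namespace CfsgLib.TwE6Five

open Cfsg.Lie CfsgLib.Chev Matrix

attribute [local irreducible] brK sigK

theorem xW_lt : ∀ g ∈ xW, g < 12 := by decide +kernel

theorem xW_lt16 : ∀ g ∈ xW, g < 16 := fun g hg => (xW_lt g hg).trans (by norm_num)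

theorem testBit_lt {m k : ℕ} (hm : m < 2 ^ 18) (hk : 18 ≤ k) : m.testBit k = false :=
  Nat.testBit_lt_two_pow (hm.trans_le (Nat.pow_le_pow_right (by norm_num) hk))

variable {K : Type*} [Field K] [CharP K 2] {w : K}

variable (w) in
/-- The element x. -/
noncomputable def xE : GL chevE6.Idx K := wm w xW

variable (w) in
/-- The combination of vectors with coefficients read from a number on. -/
noncomputable def combL : List (ℕ × ℕ) → ℕ → (V K →ₗ[K] V K)
  | [], _ => 0
  | b :: B, i => (ev i).smulRight (cv w b) + combL B (i + 1)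

theorem combL_cons (b : ℕ × ℕ) (B : List (ℕ × ℕ)) (i : ℕ) (u : V K) :
    combL w (b :: B) i u = ev i u • cv w b + combL w B (i + 1) u := by simp [combL]

theorem combL_congr {u v : V K} : ∀ (B : List (ℕ × ℕ)) (i : ℕ),
    (∀ k, i ≤ k → k < i + B.length → ev k u = ev k v) → combL w B i u = combL w B i v
  | [], i, _ => by simp [combL]
  | b :: B, i, h => by
    rw [combL_cons, combL_cons, h i le_rfl (by simp),
      combL_congr B (i + 1) fun k h1 h2 => h k (by omega) (by simp; omega)]

/-- A linear functional on a combination. -/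
theorem combL_apply (Φ : V K →ₗ[K] K) (u : V K) : ∀ (B : List (ℕ × ℕ)) (i : ℕ),
    Φ (combL w B i u) =
      ((List.range B.length).map fun j => ev (i + j) u * Φ (cv w (B.getD j (0, 0)))).sum
  | [], i => by simp [combL]
  | b :: B, i => by
    rw [combL_cons, map_add, map_smul, combL_apply Φ u B (i + 1), List.length_cons,
      List.range_succ_eq_map, List.map_cons, List.sum_cons, List.map_map]
    refine congrArg₂ (· + ·) (by simp) (congrArg List.sum (List.map_congr_left fun j _ => ?_))
    simp [Nat.add_assoc, Nat.add_comm 1 j]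

theorem combL_unit (Φ : V K →ₗ[K] V K) (u : V K) : ∀ (B : List (ℕ × ℕ)) (i : ℕ),
    i + B.length ≤ 78 →
    (∀ j < B.length, Φ (cv w (B.getD j (0, 0))) = eV (i + j)) →
    ∀ k, ev k (Φ (combL w B i u)) = if i ≤ k ∧ k < i + B.length then ev k u else 0
  | [], i, _, _, k => by simp [combL]
  | b :: B, i, hi, h, k => by
    simp only [List.length_cons] at hi
    have e : Φ (cv w b) = eV i := by simpa using h 0 (by simp)
    have ih := combL_unit Φ u B (i + 1) (by omega) (fun j hj => by
      have := h (j + 1) (by simp; omega)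
      rw [List.getD_cons_succ] at this
      rw [this, show i + (j + 1) = i + 1 + j by omega]) k
    rw [combL_cons, map_add, map_add, map_smul, e, map_smul, ev_eV78 (by omega), ih, smul_eq_mul,
      List.length_cons]
    by_cases hk : i = k
    · subst hk; rw [if_pos rfl, if_neg (by omega), if_pos (by omega)]; ring
    · rw [if_neg hk, mul_zero, zero_add]
      by_cases h2 : i + 1 ≤ k ∧ k < i + 1 + B.length
      · rw [if_pos h2, if_pos (by omega)]
      · rw [if_neg h2, if_neg (by omega)]

theorem ev_sqV {k : ℕ} (hk : k < 78) (u : V K) : ev k (sqV u) = ev k u ^ 2 := by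
  obtain ⟨j, rfl⟩ := exists_enc78 hk
  rw [ev_enc, ev_enc]; rfl

theorem sigK_combL (u : V K) : ∀ (B : List (ℕ × ℕ)) (i : ℕ), i + B.length ≤ 78 →
    (∀ b ∈ B, sigK (cv w b) = cv w b) → sigK (combL w B i u) = combL w B i (sqV u)
  | [], i, _, _ => by
    simpa [combL] using sigK_smul (0 : K) (0 : V K)
  | b :: B, i, hi, h => by
    simp only [List.length_cons] at hi
    rw [combL_cons, combL_cons, sigK_add, sigK_smul, h b List.mem_cons_self,
      ev_sqV (by omega), sigK_combL u B (i + 1) (by omega) fun c hc => h c (List.mem_cons_of_mem _ hc)]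

variable (w) in
/-- The vector of a mask. -/
noncomputable def Bv (m : ℕ) : V K := combL w base18 0 (cv w (m, 0))

/-- Fixed by x and by the semilinear map. -/
def RatX (w : K) (u : V K) : Prop := (xE w).val *ᵥ u = u ∧ sigK u = u

/-- The coordinates on the fixed space. -/
noncomputable def psiL (w : K) : V K →ₗ[K] V K := spK w psiT

variable (hw : w * w = 1 + w)
include hw

theorem cv_combK : ∀ (B : List (ℕ × ℕ)) (c : ℕ × ℕ) (i : ℕ), i + B.length ≤ 78 →
    cv w (combK B c i id) = combL w B i (cv w c)
  | [], c, i, _ => by simp [combK, combL, cv, colVec_zero]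
  | b :: B, c, i, hi => by
    simp only [List.length_cons] at hi
    rw [combK, combK_lift, nowV_eq, id, combL_cons, ← cv_combK B c (i + 1) (by omega)]
    show colVec chevE6 w (addV _ _) = _
    rw [colVec_addV, colVec_smulV hw, ev_colVec agE6 w c (by rw [dim78.1]; omega)]
    rfl

omit hw in
theorem base_facts : base18.length = 18 ∧ colsOK 78 leftE = true ∧ colsOK 78 psiT = true := by
  have h1 := basis_ok
  have h2 := spanX_ok
  simp only [basisChk, Bool.and_eq_true] at h1
  simp only [spanXChk, Bool.and_eq_true] at h2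
  exact ⟨Nat.eq_of_beq_eq_true h1.1, h2.1.1, h2.1.2⟩

theorem cv_Bm (m : ℕ) : cv w (Bm m id) = Bv w m := by
  rw [Bm, Bv]; exact cv_combK hw _ _ _ (by rw [base_facts.1]; norm_num)

omit hw in
theorem Bm_lift {α : Type} (m : ℕ) (k : ℕ × ℕ → α) : Bm m k = k (Bm m id) := by
  rw [Bm, Bm, combK_lift]

theorem base_props : ∀ j < 18, psiL w (cv w (base18.getD j (0, 0))) = eV j ∧
    RatX w (cv w (base18.getD j (0, 0))) := by
  intro j hj
  have h := basis_ok
  simp only [basisChk, Bool.and_eq_true, List.all_eq_true, List.mem_range] at h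
  obtain ⟨⟨h1, h2⟩, h3⟩ := h.2 j hj
  obtain ⟨u, e, hu⟩ := applyK_spec hw xW (base18.getD j (0, 0))
    (fun v => sameV v (base18.getD j (0, 0))) xW_lt16
  rw [e] at h3
  refine ⟨?_, ?_, ?_⟩
  · rw [psiL, cv, ← colVec_spApp hw agE6 _ (colsOK78 base_facts.2.2), sameV_eq h1, colVec_unit]
  · rw [xE, ← hu, sameV_eq h3]
  · rw [← cv_sigS hw, sameV_eq h2]

theorem ev_psi_comb (u : V K) {k : ℕ} (hk : k < 18) :
    ev k (psiL w (combL w base18 0 u)) = ev k u := by
  rw [combL_unit (psiL w) u base18 0 (by rw [base_facts.1]; norm_num)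
    (fun j hj => by rw [Nat.zero_add]; exact (base_props hw j (by rwa [base_facts.1] at hj)).1) k,
    if_pos ⟨Nat.zero_le k, by rw [base_facts.1]; omega⟩]

theorem rat_comb {u : V K} (hu : ∀ k < 18, ev k u ^ 2 = ev k u) :
    RatX w (combL w base18 0 u) := by
  have hb : ∀ b ∈ base18, RatX w (cv w b) := by
    intro b hb
    obtain ⟨j, hj, rfl⟩ := List.getElem_of_mem hb
    have := (base_props hw j (by rw [← base_facts.1]; exact hj)).2
    rwa [List.getD_eq_getElem _ _ hj] at this
  refine ⟨?_, ?_⟩
  · suffices h : ∀ (B : List (ℕ × ℕ)) (i : ℕ), (∀ b ∈ B, RatX w (cv w b)) →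
        (xE w).val *ᵥ combL w B i u = combL w B i u from h _ _ hb
    intro B
    induction B with
    | nil => intro i _; simp [combL]
    | cons b B ih =>
      intro i h
      rw [combL_cons, Matrix.mulVec_add, Matrix.mulVec_smul, (h b List.mem_cons_self).1,
        ih (i + 1) fun c hc => h c (List.mem_cons_of_mem _ hc)]
  · rw [sigK_combL u base18 0 (by rw [base_facts.1]; norm_num) fun b hb' => (hb b hb').2]
    refine combL_congr _ _ fun k _ hk => ?_
    rw [Nat.zero_add, base_facts.1] at hk
    rw [ev_sqV (by omega), hu k hk]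

theorem ev_bits (m : ℕ) {k : ℕ} (hk : k < 78) :
    ev k (cv w (m, 0)) = if m.testBit k then 1 else 0 := by
  rw [ev_colVec agE6 w _ (by rw [dim78.1]; exact hk), cb_def]; simp

theorem Bv_rat (m : ℕ) : RatX w (Bv w m) := rat_comb hw fun k hk => by
  rw [ev_bits hw m (by omega)]; split <;> simp

theorem Bv_zero : Bv w 0 = 0 := by rw [Bv]; simp [cv, colVec_zero]

theorem Bv_xor (m n : ℕ) : Bv w (Nat.xor m n) = Bv w m + Bv w n := by
  rw [Bv, Bv, Bv, show ((Nat.xor m n, 0) : ℕ × ℕ) = addV (m, 0) (n, 0) from Prod.ext rfl (Nat.xor_self 0).symm, cv, colVec_addV,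
    map_add]

theorem Bv_inj {m n : ℕ} (hm : m < 2 ^ 18) (hn : n < 2 ^ 18) (h : Bv w m = Bv w n) : m = n := by
  refine Nat.eq_of_testBit_eq fun k => ?_
  by_cases hk : k < 18
  · have e := congrArg (fun u => ev k (psiL w u)) h
    simp only [Bv] at e
    rw [ev_psi_comb hw _ hk, ev_psi_comb hw _ hk, ev_bits hw m (by omega),
      ev_bits hw n (by omega)] at e
    revert e
    cases m.testBit k <;> cases n.testBit k <;> simp
  · rw [testBit_lt hm (not_lt.1 hk), testBit_lt hn (not_lt.1 hk)]

attribute [local irreducible] spK wm combL psiT leftE xW in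
theorem fixed_comb {u : V K} (hu : (xE w).val *ᵥ u = u) :
    u = combL w base18 0 (psiL w u) := by
  obtain ⟨hl, hE, hP⟩ := base_facts
  have h := spanX_ok
  simp only [spanXChk, Bool.and_eq_true, List.all_eq_true, List.mem_range] at h
  have key : (spK w leftE).comp (Matrix.mulVecLin (xE w).val + LinearMap.id) + LinearMap.id =
      (combL w base18 0).comp (psiL w) := by
    refine linExt fun c hc => ?_
    have h' := h.2 c hc
    obtain ⟨v, e, hv⟩ := applyK_spec hw xW (2 ^ c, 0) (fun v => nowV (spApp leftE (addV v (2 ^ c, 0)))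
      fun e => combK base18 (spApp psiT (2 ^ c, 0)) 0 fun u => sameV (addV e (2 ^ c, 0)) u) xW_lt16
    rw [e, nowV_eq, combK_lift] at h'
    have e' := congrArg (cv w) (sameV_eq h')
    rw [cv_combK hw _ _ _ (by rw [hl]; norm_num)] at e'
    simp only [cv, colVec_addV, colVec_spApp hw agE6 _ (colsOK78 hE),
      colVec_spApp hw agE6 _ (colsOK78 hP), colVec_unit] at e' hv
    simp only [LinearMap.add_apply, LinearMap.coe_comp, Function.comp_apply, LinearMap.id_coe, id,
      Matrix.mulVecLin_apply, psiL]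
    rw [hv] at e'
    unfold xE
    exact e'
  have e := LinearMap.congr_fun key u
  simp only [LinearMap.add_apply, LinearMap.coe_comp, Function.comp_apply, LinearMap.id_coe, id,
    Matrix.mulVecLin_apply, hu] at e
  rw [← e, show u + u = 0 from funext fun i => CharTwo.add_self_eq_zero _, map_zero, zero_add]

theorem exists_mask {u : V K} (hu : RatX w u) : ∃ m < 2 ^ 18, Bv w m = u := by
  set c := psiL w u with hc
  have e : u = combL w base18 0 c := fixed_comb hw hu.1
  have hsq : ∀ k < 18, ev k c = 0 ∨ ev k c = 1 := by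
    intro k hk
    have h2 : combL w base18 0 (sqV c) = combL w base18 0 c := by
      rw [← sigK_combL c base18 0 (by rw [base_facts.1]; norm_num) fun b hb => by
        obtain ⟨j, hj, rfl⟩ := List.getElem_of_mem hb
        have := (base_props hw j (by rw [← base_facts.1]; exact hj)).2.2
        rwa [List.getD_eq_getElem _ _ hj] at this, ← e]
      exact hu.2
    have := congrArg (fun v => ev k (psiL w v)) h2
    simp only [ev_psi_comb hw _ hk, ev_sqV (show k < 78 by omega)] at this
    rcases eq_or_ne (ev k c) 0 with h | h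
    · exact Or.inl h
    · exact Or.inr (mul_left_cancel₀ h (by rw [mul_one, ← pow_two, this]))
  classical
  refine ⟨Nat.ofBits fun i : Fin 18 => decide (ev i.val c = 1), Nat.ofBits_lt_two_pow _, ?_⟩
  rw [e, Bv]
  refine combL_congr _ _ fun k _ hk => ?_
  rw [Nat.zero_add, base_facts.1] at hk
  rw [ev_bits hw _ (by omega), Nat.testBit_ofBits_lt _ k hk]
  rcases hsq k hk with h | h <;> simp [h]

theorem Bv_combN (Φ : V K →ₗ[K] V K) : ∀ (L : List ℕ) (B : List (ℕ × ℕ)) (c i : ℕ),
    i + B.length ≤ 78 → L.length = B.length →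
    (∀ j < B.length, Bv w (L.getD j 0) = Φ (cv w (B.getD j (0, 0)))) →
    Bv w (combN L c i) = Φ (combL w B i (cv w (c, 0)))
  | [], [], c, i, _, _, _ => by simp [combN, combL, Bv_zero hw]
  | [], _ :: _, _, _, _, h, _ => by simp at h
  | _ :: _, [], _, _, _, h, _ => by simp at h
  | a :: L, b :: B, c, i, hi, hl, h => by
    simp only [List.length_cons] at hi hl
    have ih := Bv_combN Φ L B c (i + 1) (by omega) (by omega) fun j hj => by
      simpa using h (j + 1) (by simp; omega)
    have e : Bv w a = Φ (cv w b) := by simpa using h 0 (by simp)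
    rw [combL_cons, map_add, map_smul, ev_bits hw c (by omega), combN, bmem_eq, ← ih, ← e]
    cases c.testBit i
    · simp
    · rw [cond_true, if_pos rfl, one_smul, Bv_xor hw]

omit hw in
theorem combN_lt : ∀ (L : List ℕ) (c i : ℕ), (∀ a ∈ L, a < 2 ^ 18) → combN L c i < 2 ^ 18
  | [], _, _, _ => by simp [combN]
  | a :: L, c, i, h => by
    have ih := combN_lt L c (i + 1) fun b hb => h b (List.mem_cons_of_mem _ hb)
    rw [combN]
    cases bmem c i
    · exact ih
    · exact Nat.xor_lt_two_pow (h a List.mem_cons_self) ih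

omit hw in
theorem tbl_lt (i j : ℕ) (hi : i < 18) (hj : j < 18) : (tbl18.getD i []).getD j 0 < 2 ^ 18 := by
  have h := tbl_ok
  simp only [tblChk, List.all_eq_true, List.mem_range, Bool.and_eq_true, decide_eq_true_eq] at h
  exact (h i hi j hj).1

omit hw in
theorem tbl_len : ∀ i < 18, (tbl18.getD i []).length = 18 := by decide +kernel

omit hw in
theorem mbS_lt (m n : ℕ) : mbS m n < 2 ^ 18 := by
  refine combN_lt _ _ _ fun a ha => ?_
  obtain ⟨i, hi, rfl⟩ := List.mem_map.1 ha
  refine combN_lt _ _ _ fun b hb => ?_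
  obtain ⟨j, hj, rfl⟩ := List.getElem_of_mem hb
  rw [← List.getD_eq_getElem _ 0 hj]
  exact tbl_lt i j (List.mem_range.1 hi) (by rwa [tbl_len i (List.mem_range.1 hi)] at hj)

theorem Bv_mbS (m n : ℕ) : Bv w (mbS m n) = brK (Bv w m) (Bv w n) := by
  have hl := base_facts.1
  have row : ∀ i < 18, Bv w (mbRow i n) = brK (cv w (base18.getD i (0, 0))) (Bv w n) := by
    intro i hi
    refine Bv_combN hw (brK (cv w (base18.getD i (0, 0)))) _ _ _ _ (by rw [hl]; norm_num)
      (by rw [tbl_len i hi, hl]) fun j hj => ?_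
    have h := tbl_ok
    simp only [tblChk, List.all_eq_true, List.mem_range, Bool.and_eq_true] at h
    have h' := (h i hi j (by rwa [hl] at hj)).2
    rw [Bm_lift] at h'
    rw [← cv_Bm hw, ← sameV_eq h', cv_brS hw tab_ok]
  rw [mbS, Bv_combN hw ((brK : V K →ₗ[K] V K →ₗ[K] V K).flip (Bv w n)) _ base18 _ _
    (by rw [hl]; norm_num) (by simp [hl]) fun j hj => ?_]
  · rfl
  · rw [hl] at hj
    simp only [List.getD_eq_getElem?_getD, List.getElem?_map, List.getElem?_range hj,
      Option.map_some, Option.getD_some]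
    rw [row j hj]
    simp [List.getD_eq_getElem?_getD]

theorem mbS_xor (m a b : ℕ) : mbS m (Nat.xor a b) = Nat.xor (mbS m a) (mbS m b) := by
  refine Bv_inj hw (mbS_lt _ _) (Nat.xor_lt_two_pow (mbS_lt _ _) (mbS_lt _ _)) ?_
  rw [Bv_xor hw, Bv_mbS hw, Bv_mbS hw, Bv_mbS hw, Bv_xor hw, map_add]

/-- The quadratic equations. -/
def Quad (w : K) (m : ℕ) : Prop := ∀ y : V K, brK (Bv w m) (brK (Bv w m) y) = 0

omit hw in
theorem testBit_fullT : ∀ {n m : ℕ}, m < 2 ^ n → (fullT n).testBit m = true := by
  intro n m h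
  rw [fullT, Nat.testBit_two_pow_sub_one]
  simp [h]

omit hw in
theorem testBit_coordT : ∀ (n i m : ℕ), i < n → m < 2 ^ n →
    (coordT n i).testBit m = m.testBit i
  | 0, i, m, hi, _ => absurd hi (Nat.not_lt_zero i)
  | n + 1, i, m, hi, hm => by
    have hs : ∀ a : ℕ, (Nat.shiftLeft a (2 ^ n)).testBit m =
        (decide (m ≥ 2 ^ n) && a.testBit (m - 2 ^ n)) := fun a => Nat.testBit_shiftLeft a
    have h2 : 2 ^ (n + 1) = 2 ^ n + 2 ^ n := by ring
    rw [coordT]
    by_cases h : i = n
    · subst h
      rw [if_pos rfl, hs]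
      by_cases hb : 2 ^ i ≤ m
      · rw [testBit_fullT (by omega), decide_eq_true hb, Bool.and_self]
        exact (Nat.testBit_of_two_pow_le_and_two_pow_add_one_gt hb (by omega)).symm
      · rw [decide_eq_false hb, Bool.false_and, Nat.testBit_lt_two_pow (not_le.1 hb)]
    · rw [if_neg h,
        show (Nat.lor (coordT n i) (Nat.shiftLeft (coordT n i) (2 ^ n))).testBit m =
          ((coordT n i).testBit m || (Nat.shiftLeft (coordT n i) (2 ^ n)).testBit m) from
          Nat.testBit_or _ _ _, hs]
      by_cases hb : 2 ^ n ≤ m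
      · rw [decide_eq_true hb, Bool.true_and, testBit_coordT n i (m - 2 ^ n) (by omega) (by omega),
          Nat.testBit_lt_two_pow (coordT_lt n i |>.trans_le (Nat.pow_le_pow_right (by norm_num) hb)),
          Bool.false_or]
        obtain ⟨r, rfl⟩ := Nat.exists_eq_add_of_le hb
        rw [Nat.add_sub_cancel_left, Nat.testBit_two_pow_add_gt (by omega)]
      · rw [decide_eq_false hb, Bool.false_and, Bool.or_false,
          testBit_coordT n i m (by omega) (not_le.1 hb)]
where
  coordT_lt : ∀ n i : ℕ, coordT n i < 2 ^ 2 ^ n := by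
    intro n
    induction n with
    | zero => intro i; simp [coordT]
    | succ n ih =>
      intro i
      have hf : fullT n < 2 ^ 2 ^ n := Nat.sub_lt (Nat.two_pow_pos _) one_pos
      have hsh : ∀ a : ℕ, a < 2 ^ 2 ^ n → Nat.shiftLeft a (2 ^ n) < 2 ^ 2 ^ (n + 1) := by
        intro a ha
        rw [show Nat.shiftLeft a (2 ^ n) = a * 2 ^ 2 ^ n from Nat.shiftLeft_eq a (2 ^ n),
          show 2 ^ 2 ^ (n + 1) = 2 ^ 2 ^ n * 2 ^ 2 ^ n by rw [← pow_add]; ring_nf]
        exact Nat.mul_lt_mul_of_pos_right ha (Nat.two_pow_pos _)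
      rw [coordT]
      split
      · exact hsh _ hf
      · exact Nat.or_lt_two_pow ((ih i).trans_le (Nat.pow_le_pow_right (by norm_num)
          (Nat.pow_le_pow_right (by norm_num) (Nat.le_succ n)))) (hsh _ (ih i))

omit hw in
/-- The parity of one bit over the pairs. -/
noncomputable def parB (b m : ℕ) : List (ℕ × ℕ × ℕ) → Bool
  | [] => false
  | q :: L => xor (bmem q.2.2 b && (m.testBit q.1 && m.testBit q.2.1)) (parB b m L)

omit hw in
theorem testBit_parT (b : ℕ) {m : ℕ} (hm : m < 2 ^ 18) : ∀ L : List (ℕ × ℕ × ℕ),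
    (∀ q ∈ L, q.1 < 18 ∧ q.2.1 < 18) → (parT b L).testBit m = parB b m L
  | [], _ => by simp [parT, parB]
  | q :: L, h => by
    obtain ⟨h1, h2⟩ := h q List.mem_cons_self
    have ih := testBit_parT b hm L fun r hr => h r (List.mem_cons_of_mem _ hr)
    rw [parT, parB]
    cases bmem q.2.2 b
    · rw [cond_false, ih]; simp
    · rw [cond_true, show (Nat.xor (Nat.land (coordT 18 q.1) (coordT 18 q.2.1)) (parT b L)).testBit m
          = xor ((Nat.land (coordT 18 q.1) (coordT 18 q.2.1)).testBit m) ((parT b L).testBit m) from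
          Nat.testBit_xor _ _ _, ih,
        show (Nat.land (coordT 18 q.1) (coordT 18 q.2.1)).testBit m =
          ((coordT 18 q.1).testBit m && (coordT 18 q.2.1).testBit m) from Nat.testBit_and _ _ _,
        testBit_coordT 18 _ _ h1 hm, testBit_coordT 18 _ _ h2 hm]
      simp

omit hw in
/-- One or zero. -/
def bval (K : Type*) [Zero K] [One K] (b : Bool) : K := if b then 1 else 0

omit hw in
theorem bval_xor (a b : Bool) : bval K (xor a b) = bval K a + bval K b := by
  cases a <;> cases b <;> simp [bval, CharTwo.add_self_eq_zero]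

omit hw in
theorem cval_bits {c : ℕ} (hc : c < 4) :
    cval w c = bval K (bmem c 0) + w * bval K (bmem c 1) := by
  interval_cases c <;> simp [cval, bval, bmem_eq, Nat.testBit]

omit hw in
theorem par_sum (m : ℕ) : ∀ L : List (ℕ × ℕ × ℕ), (∀ q ∈ L, q.2.2 < 4) →
    (L.map fun q => bval K (m.testBit q.1) * (bval K (m.testBit q.2.1) * cval w q.2.2)).sum =
      bval K (parB 0 m L) + w * bval K (parB 1 m L)
  | [], _ => by simp [parB, bval]
  | q :: L, h => by
    rw [List.map_cons, List.sum_cons, par_sum m L fun r hr => h r (List.mem_cons_of_mem _ hr), parB,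
      parB, bval_xor, bval_xor, cval_bits (h q List.mem_cons_self)]
    cases m.testBit q.1 <;> cases m.testBit q.2.1 <;> cases bmem q.2.2 0 <;> cases bmem q.2.2 1 <;>
      cases parB 0 m L <;> cases parB 1 m L <;> simp [bval] <;> ring

omit hw in
theorem mem_of_listT {m : ℕ} : ∀ {L : List ℕ}, (listT L).testBit m = true → m ∈ L
  | [], h => by simp [listT] at h
  | a :: L, h => by
    rw [listT, show (Nat.lor (2 ^ a) (listT L)).testBit m =
      ((2 ^ a).testBit m || (listT L).testBit m) from Nat.testBit_or _ _ _] at h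
    rcases Bool.or_eq_true _ _ ▸ h with h | h
    · rw [Nat.testBit_two_pow, decide_eq_true_eq] at h; subst h; exact List.mem_cons_self
    · exact List.mem_cons_of_mem _ (mem_of_listT h)

theorem quad_mem {m : ℕ} (hm : m < 2 ^ 18) (hq : Quad w m) : m ∈ solL := by
  have h := quad_ok
  simp only [quadChk, Bool.and_eq_true, List.all_eq_true, decide_eq_true_eq] at h
  obtain ⟨hrng, hz⟩ := h
  have hl := base_facts.1
  have key : ∀ e ∈ quadRows, parB 0 m (qPairs e.1 e.2) = false ∧ parB 1 m (qPairs e.1 e.2) = false := by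
    intro e he
    obtain ⟨hk, hr⟩ := hrng e he
    have hc : ∀ q ∈ qPairs e.1 e.2, q.2.2 < 4 := by
      intro q hq'
      simp only [qPairs, List.mem_flatMap, List.mem_map] at hq'
      obtain ⟨i, -, j, -, rfl⟩ := hq'
      exact bitC_lt _ _
    have h0 := congrArg (ev e.2) (hq (eV e.1))
    rw [map_zero, Bv, show ev e.2 (brK (combL w base18 0 (cv w (m, 0)))
        (brK (combL w base18 0 (cv w (m, 0))) (eV e.1))) =
      ((ev e.2).comp ((brK : V K →ₗ[K] V K →ₗ[K] V K).flip
        (brK (combL w base18 0 (cv w (m, 0))) (eV e.1)))) (combL w base18 0 (cv w (m, 0))) from rfl,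
      combL_apply, hl] at h0
    have e2 : (List.map (fun q => bval K (m.testBit q.1) *
        (bval K (m.testBit q.2.1) * cval w q.2.2)) (qPairs e.1 e.2)).sum = 0 := by
      rw [qPairs, sum_flatMap, ← h0]
      refine congrArg List.sum (List.map_congr_left fun i hi => ?_)
      have hi' := List.mem_range.1 hi
      rw [Nat.zero_add, ev_bits hw m (by omega), List.map_map, LinearMap.comp_apply,
        LinearMap.flip_apply]
      show _ = bval K (m.testBit i) * _
      rw [show ev e.2 (brK (cv w (base18.getD i (0, 0)))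
          (brK (combL w base18 0 (cv w (m, 0))) (eV e.1))) =
        ((ev e.2).comp ((brK (cv w (base18.getD i (0, 0)))).comp
          ((brK : V K →ₗ[K] V K →ₗ[K] V K).flip (eV e.1)))) (combL w base18 0 (cv w (m, 0))) from rfl,
        combL_apply, hl, ← List.sum_map_mul_left]
      refine congrArg List.sum (List.map_congr_left fun j hj => ?_)
      have hj' := List.mem_range.1 hj
      rw [Nat.zero_add, ev_bits hw m (by omega), LinearMap.comp_apply, LinearMap.comp_apply,
        LinearMap.flip_apply, ← colVec_unit (D := chevE6) w, ← cv, ← cv_brS hw tab_ok,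
        ← cv_brS hw tab_ok, ev_colVec agE6 w _ (by rw [dim78.1]; exact hr)]
      rfl
    rw [par_sum m _ hc] at e2
    have h2 : (2 : K) = 0 := CharTwo.two_eq_zero
    have w0 : w ≠ 0 := fun e => by rw [e] at hw; simp at hw
    have w1 : (1 : K) + w ≠ 0 := fun e => by
      have : w = 1 := by linear_combination e - h2
      rw [this, one_mul, CharTwo.add_self_eq_zero] at hw; exact one_ne_zero hw
    revert e2
    cases parB 0 m (qPairs e.1 e.2) <;> cases parB 1 m (qPairs e.1 e.2) <;> simp [bval, w0, w1]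
  have hbits : ∀ e : ℕ × ℕ, ∀ q ∈ qPairs e.1 e.2, q.1 < 18 ∧ q.2.1 < 18 := by
    intro e q hq'
    simp only [qPairs, List.mem_flatMap, List.mem_map, List.mem_range] at hq'
    obtain ⟨i, hi, j, hj, rfl⟩ := hq'
    exact ⟨hi, hj⟩
  suffices hz' : (zeroT quadRows).testBit m = true by
    exact mem_of_listT (Nat.eq_of_beq_eq_true hz ▸ hz')
  generalize quadRows = L at key
  induction L with
  | nil => exact testBit_fullT hm
  | cons e L ih =>
    obtain ⟨k0, k1⟩ := key e List.mem_cons_self
    have tx : ∀ a : ℕ, (Nat.xor (fullT 18) a).testBit m = !a.testBit m := fun a => by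
      rw [show (Nat.xor (fullT 18) a).testBit m = xor ((fullT 18).testBit m) (a.testBit m) from
        Nat.testBit_xor _ _ _, testBit_fullT hm, Bool.true_xor]
    have ta : ∀ a b : ℕ, (Nat.land a b).testBit m = (a.testBit m && b.testBit m) :=
      fun a b => Nat.testBit_and a b m
    rw [zeroT, ta, ta, tx, tx, ih fun q hq' => key q (List.mem_cons_of_mem _ hq'),
      testBit_parT 0 hm _ (hbits e), testBit_parT 1 hm _ (hbits e), k0, k1]
    rfl

end CfsgLib.TwE6Five
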