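import Cfsg.Agent.Lib.TwE6Five.Bound
import Cfsg.Agent.Lib.AltPres.Line
import Mathlib.GroupTheory.SpecificGroups.Alternating.Simple
import Mathlib.GroupTheory.NoncommCoprod
import Mathlib.GroupTheory.Sylow

/-!
The elements of order five of the twisted group of type E6 over the field with four elements.
-/

set_option autoImplicit false
set_option maxRecDepth 100000
set_option linter.unusedSectionVars false

namespace CfsgLib.TwE6Five

open Cfsg.Lie CfsgLib.Chev CfsgLib.AltPres Matrix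

attribute [local irreducible] brK sigK spK wm combL psiT leftE xW yW nW5 hW5 gW5 ysW leftW psiW

theorem words_lt : (∀ g ∈ yW, g < 12) ∧ (∀ g ∈ nW5, g < 12) ∧ (∀ g ∈ hW5, g < 12) ∧
    (∀ g ∈ gW5, g < 12) := by decide +kernel

/-- Elements of a commuting pair of order five are conjugate to the first. -/
theorem conj_all {G : Type*} [Group G] {x y h g n : G} (hxy : Commute x y)
    (y5 : y ^ 5 = 1) (hh : h * x * h⁻¹ = y) (hg : g * x * g⁻¹ = x * y)
    (hnx : Commute n x) (hny : n * y * n⁻¹ = y ^ 2) {a b : ℕ} (ha : a < 5) (hb : b < 5)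
    (hab : a ≠ 0 ∨ b ≠ 0) : IsConj x (x ^ a * y ^ b) := by
  have hn : ∀ j m : ℕ, n ^ j * y ^ m * (n ^ j)⁻¹ = y ^ (2 ^ j * m) := by
    intro j
    induction j with
    | zero => intro m; simp
    | succ j ih =>
      intro m
      rw [pow_succ, show n ^ j * n * y ^ m * (n ^ j * n)⁻¹ = n ^ j * (n * y ^ m * n⁻¹) * (n ^ j)⁻¹ by
        group, ← conj_pow, hny, ← pow_mul, ih]
      ring_nf
  have hmod : ∀ {m k : ℕ}, m % 5 = k % 5 → y ^ m = y ^ k := fun {m k} e => by
    rw [← Nat.div_add_mod m 5, ← Nat.div_add_mod k 5, pow_add, pow_add, pow_mul, pow_mul, y5,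
      one_pow, one_pow, e]
  have h2 : ∀ b : Fin 5, b.val ≠ 0 → ∃ j : Fin 4, 2 ^ j.val % 5 = b.val % 5 := by decide
  have hc : ∀ a b : Fin 5, a.val ≠ 0 → b.val ≠ 0 →
      ∃ j : Fin 4, 2 ^ j.val * a.val % 5 = b.val % 5 := by decide
  have hyb : ∀ b : ℕ, b < 5 → b ≠ 0 → IsConj x (y ^ b) := by
    intro b hb hb0
    obtain ⟨j, hj⟩ := h2 ⟨b, hb⟩ hb0
    refine (isConj_iff.2 ⟨h, hh⟩).trans (isConj_iff.2 ⟨n ^ j.val, ?_⟩)
    have := hn j.val 1
    rw [pow_one, Nat.mul_one] at this
    rw [this]; exact hmod hj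
  have hxa : ∀ a : ℕ, a < 5 → a ≠ 0 → IsConj x (x ^ a) := by
    intro a ha ha0
    refine (hyb a ha ha0).trans (isConj_iff.2 ⟨h⁻¹, ?_⟩)
    rw [← hh, conj_pow]; group
  rcases Nat.eq_zero_or_pos a with rfl | ha0
  · rw [pow_zero, one_mul]; exact hyb b hb (by omega)
  rcases Nat.eq_zero_or_pos b with rfl | hb0
  · rw [pow_zero, mul_one]; exact hxa a ha (by omega)
  obtain ⟨j, hj⟩ := hc ⟨a, ha⟩ ⟨b, hb⟩ (by show a ≠ 0; omega) (by show b ≠ 0; omega)
  refine (hxa a ha (by omega)).trans (isConj_iff.2 ⟨n ^ j.val * g, ?_⟩)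
  have e1 : n ^ j.val * x * (n ^ j.val)⁻¹ = x := by
    rw [(hnx.pow_left j.val).eq, mul_inv_cancel_right]
  have e2 : n ^ j.val * y * (n ^ j.val)⁻¹ = y ^ 2 ^ j.val := by
    simpa using hn j.val 1
  calc n ^ j.val * g * x ^ a * (n ^ j.val * g)⁻¹
      = n ^ j.val * (g * x ^ a * g⁻¹) * (n ^ j.val)⁻¹ := by group
    _ = n ^ j.val * ((x * y) ^ a) * (n ^ j.val)⁻¹ := by rw [← conj_pow, hg]
    _ = (n ^ j.val * x * (n ^ j.val)⁻¹ * (n ^ j.val * y * (n ^ j.val)⁻¹)) ^ a := by
        rw [show n ^ j.val * x * (n ^ j.val)⁻¹ * (n ^ j.val * y * (n ^ j.val)⁻¹) =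
          n ^ j.val * (x * y) * (n ^ j.val)⁻¹ by group, conj_pow]
    _ = x ^ a * y ^ b := by
        rw [e1, e2, (hxy.pow_right _).mul_pow, ← pow_mul, hmod hj]

/-- A family with Carmichael's relations is a homomorphic image of the alternating group. -/
theorem exists_alt_hom {G : Type*} [Group G] {Ω : Type*} [Fintype Ω] [DecidableEq Ω] (y : Ω → G)
    (h3 : ∀ i, y i * y i * y i = 1) (h2 : ∀ i j, i ≠ j → y i * y j * (y i * y j) = 1) :
    ∃ φ : alternatingGroup (Bool ⊕ Ω) →* G, ∀ i, φ (cycA i) = y i := by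
  let k : Ω → alternatingGroup (Bool ⊕ Ω) × G := fun i => (cycA i, y i)
  let D := Subgroup.closure (Set.range k)
  let z : Ω → D := fun i => ⟨k i, Subgroup.subset_closure ⟨i, rfl⟩⟩
  have hgen : Subgroup.closure (Set.range z) = ⊤ := by
    rw [← Subgroup.closure_closure_coe_preimage (k := Set.range k)]
    congr 1
    ext ⟨v, hv⟩
    simp [z, Subtype.ext_iff]
  obtain ⟨hfin, hcard⟩ := card_of_family z
    (fun i => Subtype.ext (Prod.ext (cycA_cube i) (h3 i)))
    (fun i j hij => Subtype.ext (Prod.ext (cycA_pair i j hij) (h2 i j hij))) hgen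
  haveI : Finite D := hfin
  let f : D →* alternatingGroup (Bool ⊕ Ω) := (MonoidHom.fst _ _).comp D.subtype
  have hsurj : Function.Surjective f := by
    rw [← MonoidHom.range_eq_top, eq_top_iff, ← closure_cycA, Subgroup.closure_le]
    rintro _ ⟨i, rfl⟩
    exact ⟨z i, rfl⟩
  have hle := Nat.card_le_card_of_surjective f hsurj
  have hb : Function.Bijective f :=
    (Nat.bijective_iff_surjective_and_card _).2 ⟨hsurj, le_antisymm hcard hle⟩
  let e := MulEquiv.ofBijective f hb
  refine ⟨((MonoidHom.snd _ _).comp D.subtype).comp e.symm.toMonoidHom, fun i => ?_⟩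
  have : e.symm (cycA i) = z i := e.injective (by rw [MulEquiv.apply_symm_apply]; rfl)
  show ((e.symm (cycA i) : D) : alternatingGroup (Bool ⊕ Ω) × G).2 = y i
  rw [this]

variable {K : Type*} [Field K] [Fintype K] [CharP K 2] {w : K}

theorem exists_w (hK : Fintype.card K = 4) : ∃ w : K, w * w = 1 + w := by
  classical
  obtain ⟨w, hw⟩ : ∃ w : K, w ∉ ({0, 1} : Finset K) := by
    by_contra h
    push Not at h
    have : Fintype.card K ≤ 2 := by
      rw [← Finset.card_univ]
      exact (Finset.card_le_card fun a _ => h a).trans (by simp)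
    omega
  simp only [Finset.mem_insert, Finset.mem_singleton, not_or] at hw
  refine ⟨w, ?_⟩
  have h3 : w ^ 3 = 1 := by
    have := FiniteField.pow_card_sub_one_eq_one w hw.1
    rwa [hK] at this
  have h2 : (2 : K) = 0 := CharTwo.two_eq_zero
  have : (w - 1) * (w * w - (1 + w)) = 0 := by
    linear_combination h3 - w ^ 2 * h2 + h2
  exact sub_eq_zero.1 ((mul_eq_zero.1 this).resolve_left (sub_ne_zero.2 hw.2))

variable (hw : w * w = 1 + w) (hK : Fintype.card K = 4)
include hw

/-- The element of a word. -/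
noncomputable def tw (l : List ℕ) (hl : ∀ g ∈ l, g < 12) : twistedE6 K 2 :=
  ⟨wm w l, wm_mem_twisted hw l hl⟩

theorem le16 {l : List ℕ} (h : ∀ g ∈ l, g < 12) : ∀ g ∈ l, g < 16 :=
  fun g hg => (h g hg).trans (by norm_num)

theorem alt_pair : ∀ i < 6, ∀ j < 6, i < j → altPair i j = true := by
  intro i hi j hj hij
  have hj0 : 0 < j := by omega
  have hi5 : i < 5 := by omega
  interval_cases i <;> interval_cases j <;>
    first
      | exact alt_pair01 | exact alt_pair02 | exact alt_pair03 | exact alt_pair04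
      | exact alt_pair05 | exact alt_pair12 | exact alt_pair13 | exact alt_pair14
      | exact alt_pair15 | exact alt_pair23 | exact alt_pair24 | exact alt_pair25
      | exact alt_pair34 | exact alt_pair35 | exact alt_pair45 | omega

theorem rel_facts {P : (a b : List ℕ) → Prop}
    (hP : ∀ a b, eqW a b = true → P a b) :
    P (repW 5 xW) [] ∧ P (repW 5 yW) [] ∧ P (xW ++ yW) (yW ++ xW) ∧
    P (nW5 ++ xW) (xW ++ nW5) ∧ P (nW5 ++ yW) (yW ++ (yW ++ nW5)) ∧
    P (hW5 ++ xW) (yW ++ hW5) ∧ P (gW5 ++ xW) (xW ++ (yW ++ gW5)) := by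
  have h := rel_ok
  have h' := conj_ok
  simp only [relChk, conjChk, Bool.and_eq_true] at h h'
  exact ⟨hP _ _ h.1.1.1.1.1.1, hP _ _ h.1.1.1.1.1.2, hP _ _ h.1.1.1.1.2, hP _ _ h.1.1.1.2,
    hP _ _ h.1.1.2, hP _ _ h'.1, hP _ _ h'.2⟩

theorem mem_repW {g : ℕ} : ∀ {k : ℕ} {l : List ℕ}, g ∈ repW k l → g ∈ l
  | 0, l, h => by simp [repW] at h
  | k + 1, l, h => by
    rw [repW] at h
    exact (List.mem_append.1 h).elim id mem_repW

theorem word_rel : let x : GL chevE6.Idx K := wm w xW
    let y : GL chevE6.Idx K := wm w yW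
    x ^ 5 = 1 ∧ y ^ 5 = 1 ∧ x * y = y * x ∧ wm w nW5 * x = x * wm w nW5 ∧
    wm w nW5 * y = y * (y * wm w nW5) ∧ wm w hW5 * x = y * wm w hW5 ∧
    wm w gW5 * x = x * (y * wm w gW5) ∧ x ≠ 1 ∧ ∀ k < 5, y ≠ x ^ k := by
  intro x y
  obtain ⟨hy, hn, hh, hg⟩ := words_lt
  have hx := xW_lt16
  have hy' := le16 hw hy
  have hn' := le16 hw hn
  have hh' := le16 hw hh
  have hg' := le16 hw hg
  obtain ⟨e1, e2, e3, e4, e5, e6, e7⟩ := rel_facts hw (P := fun a b =>
    (∀ g ∈ a, g < 16) → (∀ g ∈ b, g < 16) → (wm w a : GL chevE6.Idx K) = wm w b)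
    fun a b h ha hb => wm_eq hw h ha hb
  have h := rel_ok
  simp only [relChk, Bool.and_eq_true, List.all_eq_true, List.mem_range] at h
  have ap : ∀ {a b : List ℕ}, (∀ g ∈ a, g < 16) → (∀ g ∈ b, g < 16) → ∀ g ∈ a ++ b, g < 16 :=
    fun ha hb g hg => (List.mem_append.1 hg).elim (ha g) (hb g)
  have hnil : ∀ g ∈ ([] : List ℕ), g < 16 := by simp
  refine ⟨?_, ?_, ?_, ?_, ?_, ?_, ?_, ?_, fun k hk => ?_⟩
  · simpa [wm_rep, wm_nil] using e1 (fun g hg => hx g (mem_repW hw hg)) hnil
  · simpa [wm_rep, wm_nil] using e2 (fun g hg => hy' g (mem_repW hw hg)) hnil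
  · simpa [wm_append] using e3 (ap hx hy') (ap hy' hx)
  · simpa [wm_append] using e4 (ap hn' hx) (ap hx hn')
  · simpa [wm_append] using e5 (ap hn' hy') (ap hy' (ap hy' hn'))
  · simpa [wm_append] using e6 (ap hh' hx) (ap hy' hh')
  · simpa [wm_append] using e7 (ap hg' hx) (ap hx (ap hy' hg'))
  · simpa [wm_nil] using wm_ne (K := K) hw h.1.2 hx hnil
  · simpa [wm_rep] using wm_ne (K := K) hw (h.2 k hk) hy' (fun g hg => hx g (mem_repW hw hg))

include hK

theorem twisted_le_group : twistedE6 K 2 ≤ chevE6.group K := by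
  intro x hx
  exact ((endoE6 (frobenius K 2)).mem_fix.1 (twistedE6_le_fix (frobenius K 2) (fun _ => rfl)
    (by rw [hK]; rfl) hx)).1

theorem card_G : Nat.card ↥(twistedE6 K 2) * 3 =
    2 ^ 36 * (2 ^ 2 - 1) * (2 ^ 5 + 1) * (2 ^ 6 - 1) * (2 ^ 8 - 1) * (2 ^ 9 + 1) * (2 ^ 12 - 1) := by
  have hq : IsPrimePow 2 := Nat.prime_two.isPrimePow
  have hK2 : Fintype.card K = 2 ^ 2 := by rw [hK]; norm_num
  have := card_twistE6 (frobenius K 2) (fun _ => rfl) hK2 hq
  rw [fix_eq_twistedE6 (frobenius K 2) (fun _ => rfl) hK2 hq,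
    show Nat.gcd 3 (2 + 1) = 3 by norm_num] at this
  rw [mul_comm]; exact this

omit hK in
/-- The element x of the twisted group. -/
noncomputable def xG : twistedE6 K 2 := tw hw xW xW_lt

theorem cent_le : 3 * Nat.card ↥(Subgroup.centralizer ({xG hw} : Set ↥(twistedE6 K 2))) ≤ 604800 := by
  have hw0 : w ≠ 0 := fun e => by rw [e] at hw; simp at hw
  have hK' : Nat.card K = 4 := by rw [Nat.card_eq_fintype_card, hK]
  set a : Kˣ := Units.mk0 w hw0 with ha
  have hd : F4Classes.dlt a ∈ CP w := by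
    refine ⟨dlt_mem_aut hw a rfl, Subgroup.mem_centralizer_singleton_iff.2 ?_⟩
    rw [xE]; exact dlt_comm_x hw a rfl xW_lt16
  have hpow : ∀ i : ℕ, F4Classes.dlt (a ^ i) = F4Classes.dlt a ^ i := by
    intro i
    induction i with
    | zero => rw [pow_zero, pow_zero, F4Classes.dlt_one]
    | succ i ih => rw [pow_succ, pow_succ, ← ih, F4Classes.dlt_mul]
  have hC : ∀ c : Subgroup.centralizer ({xG hw} : Set ↥(twistedE6 K 2)), c.1.1 ∈ CP w := by
    intro c
    refine ⟨twisted_le_aut hw hK c.1.2, Subgroup.mem_centralizer_singleton_iff.2 ?_⟩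
    have := congrArg Subtype.val (Subgroup.mem_centralizer_singleton_iff.1 c.2)
    rw [xE]; exact this
  let f : Subgroup.centralizer ({xG hw} : Set ↥(twistedE6 K 2)) × Fin 3 → CP (K := K) w :=
    fun p => ⟨p.1.1.1 * F4Classes.dlt a ^ p.2.val, mul_mem (hC p.1) (pow_mem hd _)⟩
  have hf : Function.Injective f := by
    rintro ⟨c, i⟩ ⟨c', j⟩ e
    have e' : c.1.1 * F4Classes.dlt a ^ i.val = c'.1.1 * F4Classes.dlt a ^ j.val :=
      congrArg Subtype.val e
    rw [← hpow, ← hpow] at e'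
    have hg : F4Classes.dlt (a ^ i.val * (a ^ j.val)⁻¹) ∈ chevE6.group K := by
      rw [← F4Classes.dlt_mul, ← F4Classes.dlt_inv,
        show F4Classes.dlt (a ^ i.val) * (F4Classes.dlt (a ^ j.val))⁻¹ = c.1.1⁻¹ * c'.1.1 by
          rw [mul_inv_eq_iff_eq_mul, mul_assoc, ← e', inv_mul_cancel_left]]
      exact twisted_le_group hw hK (mul_mem (inv_mem c.1.2) c'.1.2)
    have e1 : a ^ i.val = a ^ j.val :=
      mul_inv_eq_one.1 (F4Classes.dlt_mem_group hK' _ hg)
    have hij : i = j := by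
      have h2 : (2 : K) = 0 := CharTwo.two_eq_zero
      have w1 : w ≠ 1 := fun e => by
        rw [e, one_mul, CharTwo.add_self_eq_zero] at hw; exact one_ne_zero hw
      have e2 := congrArg Units.val e1
      rw [Units.val_pow_eq_pow_val, Units.val_pow_eq_pow_val, ha, Units.val_mk0] at e2
      have hsq : w ^ 2 = 1 + w := by rw [pow_two, hw]
      fin_cases i <;> fin_cases j <;> simp only [pow_zero, pow_one, hsq] at e2 <;>
        first
          | rfl
          | exact absurd e2 w1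
          | exact absurd e2.symm w1
          | exact absurd (show w = 0 by linear_combination e2) hw0
          | exact absurd (show w = 0 by linear_combination -e2) hw0
          | exact absurd (show (1 : K) = 0 by linear_combination e2) one_ne_zero
          | exact absurd (show (1 : K) = 0 by linear_combination -e2) one_ne_zero
    subst hij
    exact Prod.ext (Subtype.ext (Subtype.ext (mul_right_cancel e'))) rfl
  have hle := Nat.card_le_card_of_injective f hf
  rw [Nat.card_prod, Nat.card_eq_fintype_card (α := Fin 3), Fintype.card_fin, mul_comm] at hle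
  exact hle.trans (card_CP hw)

omit hK in
theorem exists_cent_hom : ∃ φ : alternatingGroup (Bool ⊕ Fin 6) →*
    ↥(Subgroup.centralizer ({xG hw} : Set ↥(twistedE6 K 2))), Function.Injective φ := by
  let y : Fin 6 → ↥(Subgroup.centralizer ({xG hw} : Set ↥(twistedE6 K 2))) := fun i =>
    ⟨tw hw (ysI i.val) (ysI_lt _ i.isLt), Subgroup.mem_centralizer_singleton_iff.2 (Subtype.ext (by
      have := CP_comm (ysI_mem hw (K := K) i.isLt)
      simpa [tw, xG, xE] using this))⟩
  have hy16 : ∀ i : Fin 6, ∀ g ∈ ysI i.val, g < 16 := fun i => le16 hw (ysI_lt _ i.isLt)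
  have hv : ∀ i, ((y i).1 : GL chevE6.Idx K) = wm w (ysI i.val) := fun i => rfl
  obtain ⟨φ, hφ⟩ := exists_alt_hom y
    (fun i => Subtype.ext (Subtype.ext (by
      have h := alt_one hw i.val i.isLt
      simp only [altOne, Bool.and_eq_true] at h
      have e := wm_eq (K := K) hw h.1 (fun g hg => hy16 i g (mem_repW hw hg)) (by simp)
      rw [wm_rep, wm_nil] at e
      simp only [Subgroup.coe_mul, Subgroup.coe_one, hv]
      rw [← e, pow_succ, pow_two])))
    (fun i j hij => Subtype.ext (Subtype.ext (by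
      simp only [Subgroup.coe_mul, Subgroup.coe_one, hv]
      have key : ∀ a b : Fin 6, a.val < b.val → (wm w (ysI a.val) * wm w (ysI b.val) *
          (wm w (ysI a.val) * wm w (ysI b.val)) : GL chevE6.Idx K) = 1 := by
        intro a b hab
        have e := wm_eq (K := K) hw (alt_pair hw _ a.isLt _ b.isLt hab)
          (fun g hg => (List.mem_append.1 (mem_repW hw hg)).elim (hy16 a g) (hy16 b g)) (by simp)
        rw [wm_rep, wm_append, wm_nil, pow_two] at e
        exact e
      rcases lt_or_gt_of_ne (fun e => hij (Fin.ext e)) with h | h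
      · exact key i j h
      · have e := key j i h
        have e2 := mul_eq_one_iff_eq_inv.1 e
        rw [mul_eq_one_iff_eq_inv]
        have := key j i h
        calc wm w (ysI i.val) * wm w (ysI j.val)
            = (wm w (ysI j.val))⁻¹ * (wm w (ysI j.val) * wm w (ysI i.val) *
              (wm w (ysI j.val) * wm w (ysI i.val))) * (wm w (ysI i.val))⁻¹ *
              (wm w (ysI i.val) * wm w (ysI j.val))⁻¹ *
              (wm w (ysI i.val) * wm w (ysI j.val)) := by group
          _ = (wm w (ysI i.val) * wm w (ysI j.val))⁻¹ := by rw [this]; group)))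
  refine ⟨φ, ?_⟩
  haveI : IsSimpleGroup (alternatingGroup (Bool ⊕ Fin 6)) :=
    alternatingGroup.isSimpleGroup (by simp [Nat.card_eq_fintype_card])
  rw [← MonoidHom.ker_eq_bot_iff]
  refine ((inferInstance : φ.ker.Normal).eq_bot_or_eq_top).resolve_right fun h => ?_
  have h0 : cycA (0 : Fin 6) ∈ φ.ker := by rw [h]; exact Subgroup.mem_top _
  rw [MonoidHom.mem_ker, hφ] at h0
  have h' := alt_ok
  simp only [altChk, Bool.and_eq_true] at h'
  refine wm_ne (K := K) hw h'.2 (hy16 0) (by simp) ?_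
  rw [wm_nil]
  exact congrArg (fun c => (c.1.1 : GL chevE6.Idx K)) h0

/-- The centralizer of x. -/
theorem cent_equiv :
    Nat.card ↥(Subgroup.centralizer ({xG hw} : Set ↥(twistedE6 K 2))) ∣ Nat.card ↥(twistedE6 K 2) ∧
    (∃ k, 1 ≤ k ∧ k ≤ 2 ∧
      Nat.card ↥(Subgroup.centralizer ({xG hw} : Set ↥(twistedE6 K 2))) = k * 100800) ∧
    ∃ ψ : Multiplicative (ZMod 5) × alternatingGroup (Fin 8) →*
      ↥(Subgroup.centralizer ({xG hw} : Set ↥(twistedE6 K 2))), Function.Injective ψ := by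
  refine ⟨Subgroup.card_subgroup_dvd_card _, ?_⟩
  obtain ⟨φ, hφ⟩ := exists_cent_hom hw
  obtain ⟨x5, -, -, -, -, -, -, x1, -⟩ := word_rel (K := K) hw
  haveI : Fact (Nat.Prime 5) := ⟨by norm_num⟩
  let xc : ↥(Subgroup.centralizer ({xG hw} : Set ↥(twistedE6 K 2))) :=
    ⟨xG hw, Subgroup.mem_centralizer_singleton_iff.2 rfl⟩
  have hxc : ∀ c : ↥(Subgroup.centralizer ({xG hw} : Set ↥(twistedE6 K 2))), Commute xc c :=
    fun c => Subtype.ext (Subgroup.mem_centralizer_singleton_iff.1 c.2).symm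
  have hord : orderOf xc = 5 := by
    refine orderOf_eq_prime (Subtype.ext (Subtype.ext ?_)) (fun h => x1 ?_)
    · show (wm w xW : GL chevE6.Idx K) ^ 5 = 1
      exact x5
    · exact congrArg (fun c => (c.1.1 : GL chevE6.Idx K)) h
  have hz : Nat.card (Subgroup.zpowers xc) = 5 := by rw [Nat.card_zpowers, hord]
  let e8 : alternatingGroup (Fin 8) ≃* alternatingGroup (Bool ⊕ Fin 6) :=
    Equiv.altCongrHom (Fintype.equivOfCardEq (by simp))
  let Ψ : ↥(Subgroup.zpowers xc) × alternatingGroup (Bool ⊕ Fin 6) →* _ :=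
    MonoidHom.noncommCoprod (Subgroup.zpowers xc).subtype φ (by
      rintro ⟨m, k, rfl⟩ a
      exact (hxc (φ a)).zpow_left k)
  have hΨ : Function.Injective Ψ := by
    rw [← MonoidHom.ker_eq_bot_iff, eq_bot_iff]
    rintro ⟨z, a⟩ h
    have h1 : (z : ↥(Subgroup.centralizer ({xG hw} : Set ↥(twistedE6 K 2)))) * φ a = 1 := h
    suffices hz1 : z = 1 by
      subst hz1
      rw [Subgroup.coe_one, one_mul] at h1
      have ha : a = 1 := hφ (h1.trans (map_one φ).symm)
      rw [Subgroup.mem_bot, ha]; rfl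
    by_contra hne
    have htop : Subgroup.zpowers z = ⊤ := zpowers_eq_top_of_prime_card hz hne
    obtain ⟨k, hk⟩ : (⟨xc, Subgroup.mem_zpowers _⟩ : Subgroup.zpowers xc) ∈ Subgroup.zpowers z := by
      rw [htop]; exact Subgroup.mem_top _
    have hx : xc = φ ((a⁻¹) ^ k) := by
      have e : (z : ↥(Subgroup.centralizer ({xG hw} : Set ↥(twistedE6 K 2)))) = φ a⁻¹ := by
        rw [map_inv]; exact eq_inv_of_mul_eq_one_left h1
      rw [map_zpow, ← e]
      exact (congrArg Subtype.val hk).symm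
    have hcen : (a⁻¹) ^ k ∈ Subgroup.center (alternatingGroup (Bool ⊕ Fin 6)) :=
      Subgroup.mem_center_iff.2 fun b => hφ (by rw [map_mul, map_mul, ← hx]; exact (hxc (φ b)).eq.symm)
    haveI : IsSimpleGroup (alternatingGroup (Bool ⊕ Fin 6)) :=
      alternatingGroup.isSimpleGroup (by simp [Nat.card_eq_fintype_card])
    rcases (Subgroup.instNormalCenter :
      (Subgroup.center (alternatingGroup (Bool ⊕ Fin 6))).Normal).eq_bot_or_eq_top with hb | ht
    · rw [hb, Subgroup.mem_bot] at hcen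
      rw [hcen, map_one] at hx
      rw [hx, orderOf_one] at hord
      omega
    · have h01 : cycA (0 : Fin 6) * cycA 1 = cycA 1 * cycA 0 :=
        (Subgroup.mem_center_iff.1 (ht ▸ Subgroup.mem_top (cycA (0 : Fin 6))) (cycA 1)).symm
      have := congrArg (fun p : alternatingGroup (Bool ⊕ Fin 6) => p.1 (Sum.inl false)) h01
      revert this; decide
  have e1 : Multiplicative (ZMod 5) ≃* Subgroup.zpowers xc :=
    mulEquivOfPrimeCardEq (p := 5) (by simp) hz
  refine ⟨?_, Ψ.comp (e1.prodCongr e8).toMonoidHom, hΨ.comp (e1.prodCongr e8).injective⟩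
  have hA : Nat.card (alternatingGroup (Bool ⊕ Fin 6)) = 20160 := by
    haveI : Nontrivial (Bool ⊕ Fin 6) := ⟨Sum.inl true, Sum.inl false, by simp⟩
    have := two_mul_card_alternatingGroup (α := Bool ⊕ Fin 6)
    rw [Fintype.card_perm, show Fintype.card (Bool ⊕ Fin 6) = 8 by simp] at this
    rw [Nat.card_eq_fintype_card]
    simp only [Nat.factorial] at this; omega
  have hcr : Nat.card Ψ.range = 100800 := by
    rw [← Nat.card_congr (MonoidHom.ofInjective hΨ).toEquiv, Nat.card_prod, hz, hA]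
  obtain ⟨k, hk⟩ := hcr ▸ Subgroup.card_subgroup_dvd_card Ψ.range
  have hb := cent_le hw hK
  have hpos : 0 < Nat.card ↥(Subgroup.centralizer ({xG hw} : Set ↥(twistedE6 K 2))) := Nat.card_pos
  exact ⟨k, by omega, by omega, by rw [hk, mul_comm]⟩

theorem sylow_pair : ∃ R : Sylow 5 ↥(twistedE6 K 2),
    Nat.card R = 25 ∧ xG hw ∈ (R : Subgroup ↥(twistedE6 K 2)) ∧
    (∀ z, z ≠ 1 → z ∈ (R : Subgroup ↥(twistedE6 K 2)) → IsConj (xG hw) z) ∧
    ∀ a ∈ (R : Subgroup ↥(twistedE6 K 2)), ∀ b ∈ (R : Subgroup ↥(twistedE6 K 2)), a * b = b * a := by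
  haveI : Fact (Nat.Prime 5) := ⟨by norm_num⟩
  obtain ⟨x5, y5, xy, nx, ny, hx, gx, x1, yk⟩ := word_rel (K := K) hw
  obtain ⟨ly, ln, lh, lg⟩ := words_lt
  set x := xG hw with hxdef
  set y : twistedE6 K 2 := tw hw yW ly
  have hxy : Commute x y := Subtype.ext xy
  have x5' : x ^ 5 = 1 := Subtype.ext (by simpa [hxdef, xG, tw] using x5)
  have y5' : y ^ 5 = 1 := Subtype.ext (by simpa [y, tw] using y5)
  have xne : x ≠ 1 := fun h => x1 (congrArg Subtype.val h)
  have hall : ∀ {a b : ℕ}, a < 5 → b < 5 → (a ≠ 0 ∨ b ≠ 0) → IsConj x (x ^ a * y ^ b) := by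
    intro a b ha hb hab
    refine conj_all hxy y5' (h := tw hw hW5 lh) (g := tw hw gW5 lg) (n := tw hw nW5 ln) ?_ ?_ ?_ ?_
      ha hb hab
    · exact mul_inv_eq_iff_eq_mul.2 (Subtype.ext hx)
    · rw [mul_inv_eq_iff_eq_mul, mul_assoc]; exact Subtype.ext gx
    · exact Subtype.ext nx
    · rw [mul_inv_eq_iff_eq_mul, pow_two, mul_assoc]; exact Subtype.ext ny
  have ox : orderOf x = 5 := orderOf_eq_prime x5' xne
  have yne : y ≠ 1 := fun h => yk 0 (by norm_num) (by simpa [y, tw] using congrArg Subtype.val h)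
  have oy : orderOf y = 5 := orderOf_eq_prime y5' yne
  let Ψ : ↥(Subgroup.zpowers x) × ↥(Subgroup.zpowers y) →* ↥(twistedE6 K 2) :=
    MonoidHom.noncommCoprod (Subgroup.zpowers x).subtype (Subgroup.zpowers y).subtype (by
      rintro ⟨m, k, rfl⟩ ⟨m', k', rfl⟩
      exact (hxy.zpow_left k).zpow_right k')
  have hnat : ∀ {v : ↥(twistedE6 K 2)} {u}, v ^ 5 = 1 → u ∈ Subgroup.zpowers v →
      ∃ a < 5, u = v ^ a := by
    intro v u hv hu
    obtain ⟨a, rfl⟩ := mem_powers_iff_mem_zpowers.2 hu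
    exact ⟨a % 5, Nat.mod_lt _ (by norm_num), by
      show v ^ a = v ^ (a % 5)
      conv_lhs => rw [← Nat.div_add_mod a 5, pow_add, pow_mul, hv, one_pow, one_mul]⟩
  have hinj : Function.Injective Ψ := by
    rw [← MonoidHom.ker_eq_bot_iff, eq_bot_iff]
    rintro ⟨⟨u, hu⟩, ⟨v, hv⟩⟩ h
    have e : u * v = 1 := h
    obtain ⟨a, ha, rfl⟩ := hnat x5' hu
    obtain ⟨b, hb, rfl⟩ := hnat y5' hv
    by_cases hab : a ≠ 0 ∨ b ≠ 0
    · have := hall ha hb hab
      rw [e] at this
      obtain ⟨g, hg⟩ := isConj_iff.1 this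
      exact absurd (conj_eq_one_iff.1 hg) xne
    · push Not at hab
      simp [hab.1, hab.2]
  have hR : Nat.card Ψ.range = 25 := by
    rw [← Nat.card_congr (MonoidHom.ofInjective hinj).toEquiv, Nat.card_prod, Nat.card_zpowers,
      Nat.card_zpowers, ox, oy]
  have hfac : (Nat.card ↥(twistedE6 K 2)).factorization 5 = 2 := by
    have hc := card_G hw hK
    have hN : Nat.card ↥(twistedE6 K 2) = 25 * 3061299187350994157568 := by norm_num at hc; omega
    rw [hN, Nat.factorization_mul (by norm_num) (by norm_num), Finsupp.add_apply,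
      show (25 : ℕ) = 5 ^ 2 by norm_num, Nat.Prime.factorization_pow (by norm_num),
      Finsupp.single_eq_same, Nat.factorization_eq_zero_of_not_dvd (by norm_num)]
  refine ⟨Sylow.ofCard Ψ.range (by rw [hR, hfac]; norm_num), ?_, ?_, ?_, ?_⟩
  · exact hR
  · exact ⟨(⟨x, Subgroup.mem_zpowers x⟩, 1), mul_one x⟩
  · rintro z hz ⟨⟨⟨u, hu⟩, ⟨v, hv⟩⟩, rfl⟩
    obtain ⟨a, ha, rfl⟩ := hnat x5' hu
    obtain ⟨b, hb, rfl⟩ := hnat y5' hv
    refine hall ha hb ?_
    by_contra hab
    push Not at hab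
    refine hz ?_
    show x ^ a * y ^ b = 1
    rw [hab.1, hab.2, pow_zero, pow_zero, one_mul]
  · rintro _ ⟨p, rfl⟩ _ ⟨q, rfl⟩
    rw [← map_mul, ← map_mul]
    congr 1
    exact Prod.ext (Subtype.ext (by
      obtain ⟨⟨_, k, rfl⟩, -⟩ := p; obtain ⟨⟨_, k', rfl⟩, -⟩ := q
      exact ((Commute.refl x).zpow_left k).zpow_right k'))
      (Subtype.ext (by
      obtain ⟨-, ⟨_, k, rfl⟩⟩ := p; obtain ⟨-, ⟨_, k', rfl⟩⟩ := q
      exact ((Commute.refl y).zpow_left k).zpow_right k'))

theorem all_conj {z : ↥(twistedE6 K 2)} (hz : orderOf z = 5) : IsConj (xG hw) z := by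
  haveI : Fact (Nat.Prime 5) := ⟨by norm_num⟩
  obtain ⟨R, -, -, hR, -⟩ := sylow_pair hw hK
  obtain ⟨P, hP⟩ := (IsPGroup.of_card (p := 5) (n := 1)
    (by rw [Nat.card_zpowers, hz, pow_one] : Nat.card (Subgroup.zpowers z) = 5 ^ 1)).exists_le_sylow
  obtain ⟨g, hg⟩ := MulAction.exists_smul_eq (↥(twistedE6 K 2)) P R
  have hm : g * z * g⁻¹ ∈ (R : Subgroup ↥(twistedE6 K 2)) := by
    rw [← hg, Sylow.coe_subgroup_smul]
    exact Subgroup.smul_mem_pointwise_smul z (MulAut.conj g) _ (hP (Subgroup.mem_zpowers z))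
  refine (hR _ (fun h => ?_) hm).trans (isConj_iff.2 ⟨g⁻¹, by group⟩)
  rw [conj_eq_one_iff] at h
  rw [h, orderOf_one] at hz
  omega

theorem cent_card :
    Nat.card ↥(Subgroup.centralizer ({xG hw} : Set ↥(twistedE6 K 2))) = 100800 := by
  haveI : Fact (Nat.Prime 5) := ⟨by norm_num⟩
  obtain ⟨R, hR, hxR, hconj, hcomm⟩ := sylow_pair hw hK
  obtain ⟨-, ⟨k, hk1, hk2, hk⟩, -⟩ := cent_equiv hw hK
  rcases (show k = 1 ∨ k = 2 by omega) with rfl | rfl
  · rw [hk, one_mul]
  exfalso
  set G := ↥(twistedE6 K 2)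
  set x := xG hw
  set R' : Subgroup (ConjAct G) :=
    (R : Subgroup G).map (ConjAct.toConjAct : G ≃* ConjAct G).toMonoidHom
  set O := MulAction.orbit (ConjAct G) x
  have hp : IsPGroup 5 R' := R.isPGroup'.map _
  have hmod := hp.card_modEq_card_fixedPoints (α := O)
  have hcent : ∀ z : G, (∀ r ∈ (R : Subgroup G), r * z = z * r) → z ^ 5 = 1 →
      z ∈ (R : Subgroup G) := by
    intro z hz hz5
    by_contra hzR
    have hdisj : ∀ (r : (R : Subgroup G)) (m : Subgroup.zpowers z),
        Commute (r : G) (m : G) := by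
      rintro ⟨r, hr⟩ ⟨_, j, rfl⟩
      exact (show Commute r z from hz r hr).zpow_right j
    let Φ := MonoidHom.noncommCoprod (R : Subgroup G).subtype (Subgroup.zpowers z).subtype hdisj
    have hz1 : z ≠ 1 := fun h => hzR (h ▸ one_mem _)
    have hc : Nat.card Φ.range ∣ 5 ^ 3 := by
      have := Subgroup.card_range_dvd Φ
      rwa [Nat.card_prod, Nat.card_zpowers, orderOf_eq_prime hz5 hz1,
        show Nat.card ↥(R : Subgroup G) = 25 from hR] at this
    obtain ⟨i, -, hi⟩ := (Nat.dvd_prime_pow (by norm_num)).1 hc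
    have hle : (R : Subgroup G) ≤ Φ.range := fun r hr => ⟨(⟨r, hr⟩, 1), mul_one r⟩
    have := R.is_maximal' (IsPGroup.of_card hi) hle
    exact hzR (this ▸ ⟨(1, ⟨z, Subgroup.mem_zpowers z⟩), one_mul z⟩)
  have hfix : Nat.card (MulAction.fixedPoints R' O) = 24 := by
    have e : MulAction.fixedPoints R' O ≃ {z : (R : Subgroup G) // z ≠ 1} :=
      { toFun := fun o => ⟨⟨o.1.1, hcent _ (fun r hr => by
            have := congrArg Subtype.val (o.2 ⟨ConjAct.toConjAct r, Subgroup.mem_map_of_mem _ hr⟩)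
            change ConjAct.toConjAct r • o.1.1 = o.1.1 at this
            rw [ConjAct.toConjAct_smul, mul_inv_eq_iff_eq_mul] at this
            exact this) (by
            obtain ⟨g, hg⟩ := o.1.2
            have x5 : x ^ 5 = 1 := Subtype.ext (by
              simpa [x, xG, tw] using (word_rel (K := K) hw).1)
            rw [← hg]
            show (g • x) ^ 5 = 1
            rw [← smul_pow', x5, smul_one])⟩, fun h => by
            obtain ⟨g, hg⟩ := o.1.2
            have h' : (o.1.1 : G) = 1 := congrArg Subtype.val h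
            rw [← hg] at h'
            change g • x = 1 at h'
            rw [smul_eq_iff_eq_inv_smul, smul_one] at h'
            exact (word_rel (K := K) hw).2.2.2.2.2.2.2.1 (congrArg Subtype.val h')⟩
        invFun := fun z => ⟨⟨z.1.1, by
            obtain ⟨g, hg⟩ := isConj_iff.1 (hconj z.1.1 (fun h => z.2 (Subtype.ext h)) z.1.2)
            exact ⟨ConjAct.toConjAct g, by
              show ConjAct.toConjAct g • x = _
              rw [ConjAct.toConjAct_smul]; exact hg⟩⟩, by
            rintro ⟨_, r, hr, rfl⟩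
            refine Subtype.ext ?_
            show ConjAct.toConjAct r • z.1.1 = z.1.1
            rw [ConjAct.toConjAct_smul, mul_inv_eq_iff_eq_mul]
            exact hcomm r hr _ z.1.2⟩
        left_inv := fun o => rfl
        right_inv := fun z => rfl }
    rw [Nat.card_congr e]
    classical
    haveI := Fintype.ofFinite (R : Subgroup G)
    rw [Nat.card_eq_fintype_card, Fintype.card_subtype_compl, Fintype.card_subtype_eq,
      ← Nat.card_eq_fintype_card, show Nat.card ↥(R : Subgroup G) = 25 from hR]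
  have horb : Nat.card O * Nat.card ↥(Subgroup.centralizer ({x} : Set G)) = Nat.card G := by
    have h1 := (MulAction.stabilizer (ConjAct G) x).index_mul_card
    rw [MulAction.index_stabilizer, ← Nat.card_coe_set_eq] at h1
    have e : Nat.card (MulAction.stabilizer (ConjAct G) x) =
        Nat.card ↥(Subgroup.centralizer ({x} : Set G)) := by
      refine Nat.card_congr ((ConjAct.ofConjAct (G := G)).toEquiv.subtypeEquiv fun g => ?_)
      rw [MulAction.mem_stabilizer_iff, ConjAct.smul_def, mul_inv_eq_iff_eq_mul,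
        Subgroup.mem_centralizer_singleton_iff]
      rfl
    rw [e] at h1
    exact h1
  rw [hfix] at hmod
  have hG := card_G hw hK
  rw [hk] at horb
  change Nat.card G * 3 = _ at hG
  norm_num at hG
  unfold Nat.ModEq at hmod
  omega

theorem cent_iso : Nonempty (↥(Subgroup.centralizer ({xG hw} : Set ↥(twistedE6 K 2))) ≃*
    (Multiplicative (ZMod 5) × alternatingGroup (Fin 8))) := by
  obtain ⟨-, -, ψ, hψ⟩ := cent_equiv hw hK
  refine ⟨(MulEquiv.ofBijective ψ ((Nat.bijective_iff_injective_and_card _).2 ⟨hψ, ?_⟩)).symm⟩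
  rw [cent_card hw hK, Nat.card_prod, Nat.card_eq_fintype_card (α := Multiplicative (ZMod 5)),
    Fintype.card_multiplicative, ZMod.card]
  have := two_mul_card_alternatingGroup (α := Fin 8)
  rw [Fintype.card_perm, Fintype.card_fin] at this
  rw [Nat.card_eq_fintype_card]
  simp only [Nat.factorial] at this
  omega

omit hw hK in
/-- All elements of order five are conjugate and have centralizer the product of a cyclic group of
order five and the alternating group of degree eight. -/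
theorem order_five (hK : Fintype.card K = 4) :
    (∀ x y : ↥(twistedE6 K 2), orderOf x = 5 → orderOf y = 5 → IsConj x y) ∧
      ∀ x : ↥(twistedE6 K 2), orderOf x = 5 →
        Nonempty (↥(Subgroup.centralizer ({x} : Set ↥(twistedE6 K 2))) ≃*
          (Multiplicative (ZMod 5) × ↥(alternatingGroup (Fin 8)))) := by
  obtain ⟨w, hw⟩ := exists_w hK
  refine ⟨fun x y hx hy => (all_conj hw hK hx).symm.trans (all_conj hw hK hy), fun x hx => ?_⟩
  obtain ⟨g, rfl⟩ := isConj_iff.1 (all_conj hw hK hx)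
  obtain ⟨e⟩ := cent_iso hw hK
  have hmap : (Subgroup.centralizer ({xG hw} : Set ↥(twistedE6 K 2))).map
      (MulAut.conj g).toMonoidHom =
        Subgroup.centralizer ({g * xG hw * g⁻¹} : Set ↥(twistedE6 K 2)) := by
    ext c
    simp only [Subgroup.mem_map, Subgroup.mem_centralizer_singleton_iff, MulEquiv.coe_toMonoidHom,
      MulAut.conj_apply]
    constructor
    · rintro ⟨d, hd, rfl⟩
      rw [conj_mul, conj_mul, hd]
    · intro hc
      refine ⟨g⁻¹ * c * g, ?_, by group⟩
      calc g⁻¹ * c * g * xG hw = g⁻¹ * (c * (g * xG hw * g⁻¹)) * g := by group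
        _ = _ := by rw [hc]; group
  exact ⟨((MulEquiv.subgroupMap (MulAut.conj g) _).trans (MulEquiv.subgroupCongr hmap)).symm.trans e⟩

end CfsgLib.TwE6Five
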