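import Cfsg.Agent.Lib.TwE6Five.Fix
import Cfsg.Agent.Lib.TwE6Five.CheckWords
import Cfsg.Agent.Lib.TwE6Five.CheckAlt
import Cfsg.Agent.Lib.TwE6Five.CheckTail

/-!
The centralizer of `x` among the automorphisms permutes a set of 105 masks.
-/

set_option autoImplicit false
set_option maxRecDepth 100000
set_option linter.unusedSectionVars false

namespace CfsgLib.TwE6Five

open Cfsg.Lie CfsgLib.Chev Matrix

attribute [local irreducible] brK sigK spK wm combL psiT leftE xW ysW

theorem ysI_lt : ∀ i < 6, ∀ g ∈ ysI i, g < 12 := by decide +kernel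

theorem memL_iff {a : ℕ} : ∀ {L : List ℕ}, memL a L = true ↔ a ∈ L
  | [] => by simp [memL]
  | b :: L => by
    rw [memL]
    cases e : Nat.beq a b
    · rw [cond_false, memL_iff, List.mem_cons]
      refine ⟨Or.inr, fun h => h.resolve_left fun h' => ?_⟩
      rw [h', Nat.beq_refl] at e; exact Bool.false_ne_true e.symm
    · rw [cond_true]; simp [Nat.eq_of_beq_eq_true e]

theorem subs_head : ∀ L : List ℕ, ∃ T, subs L = 0 :: T
  | [] => ⟨[], rfl⟩
  | a :: L => by
    obtain ⟨T, hT⟩ := subs_head L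
    exact ⟨T ++ (0 :: T).map (Nat.xor a), by rw [subs, hT]; rfl⟩

theorem subs_xor : ∀ (L : List ℕ), ∀ x ∈ subs L, ∀ y ∈ subs L, Nat.xor x y ∈ subs L
  | [], x, hx, y, hy => by
    simp only [subs, List.mem_singleton] at hx hy ⊢; subst hx; subst hy; rfl
  | a :: L, x, hx, y, hy => by
    simp only [subs, List.mem_append, List.mem_map] at hx hy ⊢
    have ih := subs_xor L
    rcases hx with hx | ⟨x', hx, rfl⟩ <;> rcases hy with hy | ⟨y', hy, rfl⟩
    · exact Or.inl (ih x hx y hy)
    · exact Or.inr ⟨_, ih x hx y' hy, Nat.xor_left_comm a x y'⟩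
    · exact Or.inr ⟨_, ih x' hx y hy, (Nat.xor_assoc a x' y).symm⟩
    · refine Or.inl ?_
      have e : Nat.xor (Nat.xor a x') (Nat.xor a y') = Nat.xor x' y' := by
        show (a ^^^ x') ^^^ (a ^^^ y') = x' ^^^ y'
        rw [Nat.xor_comm a x', Nat.xor_assoc, ← Nat.xor_assoc a a y', Nat.xor_self, Nat.zero_xor]
      rw [e]; exact ih x' hx y' hy

theorem subs_len : ∀ L : List ℕ, (subs L).length = 2 ^ L.length
  | [] => rfl
  | a :: L => by
    rw [subs, List.length_append, List.length_map, subs_len L, List.length_cons, pow_succ]; ring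

theorem subs_nodup : ∀ {L : List ℕ}, (∀ v ∈ (subs L).tail, v ≠ 0) → (subs L).Nodup
  | [], _ => by simp [subs]
  | a :: L, h => by
    obtain ⟨T, hT⟩ := subs_head L
    have h1 : ∀ v ∈ (subs L).tail, v ≠ 0 := fun v hv => h v (by
      rw [subs, hT]; rw [hT] at hv; exact List.mem_append_left _ hv)
    have h2 : ∀ v ∈ (subs L).map (Nat.xor a), v ≠ 0 := fun v hv => h v (by
      rw [subs, hT]; rw [hT] at hv; exact List.mem_append_right _ hv)
    refine List.nodup_append.2 ⟨subs_nodup h1, (subs_nodup h1).map fun x y e => ?_, ?_⟩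
    · exact Nat.xor_right_injective e
    · intro x hx y hy e
      subst e
      obtain ⟨z, hz, rfl⟩ := List.mem_map.1 hy
      have hxor := subs_xor L _ hx z hz
      have hax : Nat.xor (Nat.xor a z) z = a := by
        show (a ^^^ z) ^^^ z = a
        rw [Nat.xor_assoc, Nat.xor_self, Nat.xor_zero]
      rw [hax] at hxor
      exact h2 _ (List.mem_map.2 ⟨a, hxor, rfl⟩) (Nat.xor_self a)

variable {K : Type*} [Field K] [CharP K 2] {w : K}

variable (w) in
/-- The automorphisms centralizing x. -/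
noncomputable def CP : Subgroup (GL chevE6.Idx K) :=
  Aut K ⊓ Subgroup.centralizer ({xE w} : Set (GL chevE6.Idx K))

theorem CP_comm {g : GL chevE6.Idx K} (hg : g ∈ CP w) : g * xE w = xE w * g :=
  (Subgroup.mem_centralizer_singleton_iff.1 hg.2)

/-- A small set of brackets. -/
def Small (m : ℕ) : Prop :=
  ∃ S : Finset ℕ, S.card ≤ 64 ∧ ∀ n, n < 2 ^ 18 → mbS m n ∈ S

/-- The property of the 105 masks. -/
def Fp (w : K) (m : ℕ) : Prop := m ≠ 0 ∧ m < 2 ^ 18 ∧ Quad w m ∧ Small m

variable (hw : w * w = 1 + w)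
include hw

theorem mask_image {g : GL chevE6.Idx K} (hg : g ∈ CP w) (m : ℕ) :
    ∃ m' < 2 ^ 18, Bv w m' = g.val *ᵥ Bv w m := by
  obtain ⟨h1, h2⟩ := Bv_rat hw m
  refine exists_mask hw ⟨?_, ?_⟩
  · rw [Matrix.mulVec_mulVec, ← Units.val_mul, ← CP_comm hg, Units.val_mul, ← Matrix.mulVec_mulVec,
      h1]
  · rw [← hg.1.2, h2]

theorem inv_mulVec (g : GL chevE6.Idx K) (u : V K) : g⁻¹.val *ᵥ (g.val *ᵥ u) = u := by
  rw [Matrix.mulVec_mulVec, ← Units.val_mul, inv_mul_cancel, Units.val_one, Matrix.one_mulVec]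

theorem mulVec_inv (g : GL chevE6.Idx K) (u : V K) : g.val *ᵥ (g⁻¹.val *ᵥ u) = u := by
  rw [Matrix.mulVec_mulVec, ← Units.val_mul, mul_inv_cancel, Units.val_one, Matrix.one_mulVec]

theorem Fp_image {g : GL chevE6.Idx K} (hg : g ∈ CP w) {m m' : ℕ} (hm : Fp w m)
    (hm' : m' < 2 ^ 18) (e : Bv w m' = g.val *ᵥ Bv w m) : Fp w m' := by
  obtain ⟨h0, hlt, hq, S, hS, hmem⟩ := hm
  refine ⟨fun h => h0 (Bv_inj hw hlt (by norm_num) ?_), hm', fun y => ?_, ?_⟩
  · rw [h, Bv_zero hw] at e
    rw [← inv_mulVec hw g (Bv w m), ← e, Bv_zero hw, Matrix.mulVec_zero]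
  · rw [e]
    conv_lhs => rw [← mulVec_inv hw g y, ← hg.1.1, ← hg.1.1, hq, Matrix.mulVec_zero]
  · choose φ hφ using mask_image hw hg
    choose ψ hψ using mask_image hw (inv_mem hg)
    refine ⟨S.image φ, le_trans Finset.card_image_le hS, fun n hn =>
      Finset.mem_image.2 ⟨mbS m (ψ n), hmem _ (hψ n).1, ?_⟩⟩
    refine Bv_inj hw (hφ _).1 (mbS_lt _ _) ?_
    rw [(hφ _).2, Bv_mbS hw, Bv_mbS hw, hg.1.1, ← e, (hψ n).2, mulVec_inv hw]

theorem alt_one : ∀ i < 6, altOne i = true := by
  intro i hi; interval_cases i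
  exacts [alt_one0, alt_one1, alt_one2, alt_one3, alt_one4, alt_one5]

theorem ysI_mem {i : ℕ} (hi : i < 6) : wm w (ysI i) ∈ CP w := by
  have h := alt_one hw i hi
  simp only [altOne, Bool.and_eq_true] at h
  have h16 : ∀ g ∈ ysI i, g < 16 := fun g hg => (ysI_lt i hi g hg).trans (by norm_num)
  refine ⟨wm_mem_aut hw _ h16, Subgroup.mem_centralizer_singleton_iff.2 ?_⟩
  have e := wm_eq (K := K) hw h.2
    (fun g hg => (List.mem_append.1 hg).elim (h16 g) (xW_lt16 g))
    (fun g hg => (List.mem_append.1 hg).elim (xW_lt16 g) (h16 g))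
  rwa [wm_append, wm_append] at e

theorem seed_Fp : Fp w (smallL.getD 0 0) := by
  have h := seed_ok
  simp only [seedChk, Bool.and_eq_true, Bool.not_eq_true', decide_eq_true_eq, List.all_eq_true,
    List.mem_range, memL_iff] at h
  obtain ⟨⟨⟨⟨⟨⟨-, h0⟩, hlt⟩, h6⟩, hsp⟩, -⟩, hq⟩ := h
  refine ⟨fun e => ?_, hlt, ?_, (subs span6).toFinset, ?_, ?_⟩
  · rw [e] at h0; exact absurd h0 (by decide)
  · intro y
    have key : (brK (Bv w (smallL.getD 0 0))).comp (brK (Bv w (smallL.getD 0 0))) =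
        (0 : V K →ₗ[K] V K) := by
      refine linExt fun k hk => ?_
      rw [Bm_lift, List.all_eq_true] at hq
      have e := congrArg (cv w) (sameV_eq (hq k (List.mem_range.2 hk)))
      rw [cv_brS hw tab_ok, cv_brS hw tab_ok, cv_Bm hw] at e
      simp only [cv, colVec_unit, colVec_zero] at e
      simpa using e
    exact LinearMap.congr_fun key y
  · exact le_trans (List.toFinset_card_le _) (by rw [subs_len, Nat.eq_of_beq_eq_true h6]; norm_num)
  · intro n hn
    rw [List.mem_toFinset]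
    suffices hk : ∀ k, k ≤ 18 → ∀ n < 2 ^ k, mbS (smallL.getD 0 0) n ∈ subs span6 from
      hk 18 le_rfl n hn
    intro k
    induction k with
    | zero =>
      intro _ n hn
      rw [show n = 0 by simpa using hn]
      have e : mbS (smallL.getD 0 0) 0 = 0 := Bv_inj hw (mbS_lt _ _) (by norm_num)
        (by rw [Bv_mbS hw, Bv_zero hw, map_zero])
      obtain ⟨T, hT⟩ := subs_head span6
      rw [e, hT]; exact List.mem_cons_self
    | succ k ih =>
      intro hk n hn
      by_cases hb : n < 2 ^ k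
      · exact ih (by omega) n hb
      · have hr : n = Nat.xor (2 ^ k) (n - 2 ^ k) := by
          show n = 2 ^ k ^^^ (n - 2 ^ k)
          refine Nat.eq_of_testBit_eq fun i => ?_
          have hp : 2 ^ (k + 1) = 2 ^ k + 2 ^ k := by ring
          obtain ⟨r, rfl⟩ := Nat.exists_eq_add_of_le (not_lt.1 hb)
          rw [Nat.add_sub_cancel_left, Nat.testBit_xor, Nat.testBit_two_pow]
          rcases lt_trichotomy i k with h | rfl | h
          · rw [Nat.testBit_two_pow_add_gt h, decide_eq_false (by omega), Bool.false_xor]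
          · rw [Nat.testBit_two_pow_add_eq, decide_eq_true rfl, Bool.true_xor]
          · rw [Nat.testBit_lt_two_pow (lt_of_lt_of_le hn (Nat.pow_le_pow_right (by norm_num) h)),
              decide_eq_false (by omega), Bool.false_xor, Nat.testBit_lt_two_pow (by
                have := Nat.pow_le_pow_right (show 0 < 2 by norm_num) h.le
                omega)]
        rw [hr, mbS_xor hw]
        exact subs_xor _ _ (hsp k (by omega)) _ (ih (by omega) _ (by
          have hp : 2 ^ (k + 1) = 2 ^ k + 2 ^ k := by ring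
          omega))

theorem smallL_Fp {a : ℕ} (ha : a ∈ smallL) : Fp w a := by
  obtain ⟨j, hj, rfl⟩ := List.getElem_of_mem ha
  rw [← List.getD_eq_getElem _ 0 hj]
  have h := orb_ok
  simp only [orbChk, Bool.and_eq_true, List.all_eq_true] at h
  obtain ⟨hlen, hstep⟩ := h
  have hlen' := Nat.eq_of_beq_eq_true hlen
  induction j using Nat.strong_induction_on with
  | _ j ih =>
    rcases j with _ | k
    · exact seed_Fp hw
    · have hk : k < orbSteps.length := by omega
      have hs := hstep (orbSteps[k], k) (List.mem_zipIdx_iff_getElem?.2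
        (List.getElem?_eq_getElem hk))
      simp only [decide_eq_true_eq] at hs
      obtain ⟨⟨⟨hp, hg⟩, hlt⟩, hs'⟩ := hs
      have hb : orbSteps[k].1 < smallL.length := by omega
      rw [Bm_lift, Bm_lift] at hs'
      obtain ⟨u, e, hu⟩ := applyK_spec hw (ysI orbSteps[k].2) (Bm (smallL.getD orbSteps[k].1 0) id)
        (fun p => sameV p (Bm (smallL.getD (k + 1) 0) id))
        fun g hg' => (ysI_lt _ hg g hg').trans (by norm_num)
      rw [e] at hs'
      rw [sameV_eq hs', cv_Bm hw, cv_Bm hw] at hu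
      exact Fp_image hw (ysI_mem hw hg) (ih _ (by omega) hb (List.getElem_mem hb)) hlt hu

theorem small_of_Fp {m : ℕ} (hm : Fp w m) : m ∈ smallL := by
  obtain ⟨h0, hlt, hq, S, hS, hmem⟩ := hm
  have h := other_ok
  simp only [otherChk, Bool.and_eq_true, List.all_eq_true, decide_eq_true_eq, Bool.or_eq_true,
    Bool.not_eq_true', memL_iff] at h
  rcases (h.1 m (quad_mem hw hlt hq)).2 with (h1 | h1) | h1
  · exact absurd (Nat.eq_of_beq_eq_true h1) h0
  · exact h1
  exfalso
  obtain ⟨⟨u, J⟩, he, rfl⟩ := List.mem_map.1 h1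
  obtain ⟨⟨⟨hl, hJ⟩, -⟩, hne⟩ := h.2 (u, J) he
  set L := J.map fun j => mbS u (2 ^ j) with hL
  have nd : (subs L).Nodup := subs_nodup fun v hv e => by
    subst e; exact absurd (hne 0 hv) (by decide)
  have hsub : ∀ I : List ℕ, (∀ j ∈ I, j < 18) → ∀ x ∈ subs (I.map fun j => mbS u (2 ^ j)),
      ∃ n < 2 ^ 18, mbS u n = x := by
    intro I
    induction I with
    | nil =>
      intro _ x hx
      simp only [List.map_nil, subs, List.mem_singleton] at hx
      exact ⟨0, by norm_num, by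
        rw [hx]; exact Bv_inj hw (mbS_lt _ _) (by norm_num) (by rw [Bv_mbS hw, Bv_zero hw, map_zero])⟩
    | cons a I ih =>
      intro hI x hx
      simp only [List.map_cons, subs, List.mem_append, List.mem_map] at hx
      have ih' := ih fun j hj => hI j (List.mem_cons_of_mem _ hj)
      rcases hx with hx | ⟨y, hy, rfl⟩
      · exact ih' x hx
      · obtain ⟨n, hn, rfl⟩ := ih' y hy
        exact ⟨Nat.xor (2 ^ a) n, Nat.xor_lt_two_pow
          (Nat.pow_lt_pow_right (by norm_num) (hI a List.mem_cons_self)) hn, mbS_xor hw _ _ _⟩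
  have hle : (subs L).toFinset.card ≤ S.card := Finset.card_le_card fun x hx => by
    obtain ⟨n, hn, rfl⟩ := hsub J hJ x (List.mem_toFinset.1 hx)
    exact hmem n hn
  rw [List.toFinset_card_of_nodup nd, subs_len, hL, List.length_map, Nat.eq_of_beq_eq_true hl] at hle
  omega

theorem cls_image {g : GL chevE6.Idx K} (hg : g ∈ CP w) {m m' : ℕ} (hm : m < 2 ^ 18)
    (hm' : m' < 2 ^ 18) (e : Bv w m' = g.val *ᵥ Bv w m) : clsM m' = clsM m := by
  have e0 : m' = 0 ↔ m = 0 := by
    constructor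
    · intro h
      refine Bv_inj hw hm (by norm_num) ?_
      rw [h, Bv_zero hw] at e
      rw [← inv_mulVec hw g (Bv w m), ← e, Bv_zero hw, Matrix.mulVec_zero]
    · intro h
      refine Bv_inj hw hm' (by norm_num) ?_
      rw [e, h, Bv_zero hw, Matrix.mulVec_zero]
  have e1 : m' ∈ smallL ↔ m ∈ smallL :=
    ⟨fun h => small_of_Fp hw (Fp_image hw (inv_mem hg) (smallL_Fp hw h) hm
      (by rw [e, inv_mulVec hw])),
     fun h => small_of_Fp hw (Fp_image hw hg (smallL_Fp hw h) hm' e)⟩
  have b0 : Nat.beq m' 0 = Nat.beq m 0 := Bool.eq_iff_iff.2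
    ⟨fun h => by rw [e0.1 (Nat.eq_of_beq_eq_true h)]; rfl,
     fun h => by rw [e0.2 (Nat.eq_of_beq_eq_true h)]; rfl⟩
  have b1 : memL m' smallL = memL m smallL := Bool.eq_iff_iff.2 (by rw [memL_iff, memL_iff, e1])
  rw [clsM, clsM, b0, b1]

end CfsgLib.TwE6Five
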